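import Groth.Agent.FibreDim.ComponentCor
import Groth.Agent.SpectralTopology.Dim

/-!
# Fibres of morphisms which are generically finite

For `f : Y ⟶ X` locally of finite type with finite fibres over an open with dense preimage, a point
of the target whose local ring has dimension at most `q + 1` has fibre of dimension at most `q`.
-/

set_option autoImplicit false
set_option backward.isDefEq.respectTransparency false

universe u

open CategoryTheory CategoryTheory.Limits AlgebraicGeometry TopologicalSpace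

namespace Groth.ResPropLib

/-- A maximal point of a locally Noetherian scheme lies in every dense open. -/
lemma mem_of_isMax_of_dense {Y : Scheme.{u}} [IsLocallyNoetherian Y] {V : Y.Opens}
    (hV : Dense (V : Set Y)) {ξ : Y} (hξ : IsMax ξ) : ξ ∈ V := by
  obtain ⟨W, hW, hξW⟩ : ∃ W : Y.Opens, IsAffineOpen W ∧ ξ ∈ W := by
    obtain ⟨W, hW, hξW, -⟩ := Opens.isBasis_iff_nbhd.1 Y.isBasis_affineOpens (Opens.mem_top ξ)
    exact ⟨W, hW, hξW⟩
  haveI : IsNoetherianRing Γ(Y, W) := IsLocallyNoetherian.component_noetherian ⟨W, hW⟩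
  haveI : NoetherianSpace (W : Set Y) :=
    noetherianSpace_of_isAffineOpen W hW
  let ξ' : (W : Set Y) := ⟨ξ, hξW⟩
  obtain ⟨O, hO, hOne, hOC⟩ :=
    NoetherianSpace.exists_isOpen_nonempty_subset_irreducibleComponent (irreducibleComponent ξ')
      (irreducibleComponent_mem_irreducibleComponents ξ')
  obtain ⟨O', hO', rfl⟩ := isOpen_induced_iff.1 hO
  obtain ⟨w, hw⟩ := hOne
  obtain ⟨w', ⟨hw'O, hw'W⟩, hw'V⟩ := hV.inter_open_nonempty (O' ∩ W) (hO'.inter W.2)
    ⟨w.1, hw, w.2⟩
  have hmem : (⟨w', hw'W⟩ : (W : Set Y)) ∈ irreducibleComponent ξ' := hOC hw'O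
  have hirr : IsIrreducible (closure (Subtype.val '' irreducibleComponent ξ')) :=
    (isIrreducible_irreducibleComponent.image _ continuous_subtype_val.continuousOn).closure
  have hη := hirr.isGenericPoint_genericPoint isClosed_closure
  have h1 : hirr.genericPoint ⤳ ξ :=
    hη.specializes (subset_closure ⟨ξ', mem_irreducibleComponent, rfl⟩)
  have h2 : ξ ⤳ hirr.genericPoint := hξ h1
  exact ((h2.trans (hη.specializes (subset_closure ⟨_, hmem, rfl⟩)))).mem_open V.2 hw'V

variable {X Y : Scheme.{u}} (f : Y ⟶ X) [LocallyOfFiniteType f] [IsLocallyNoetherian X]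

omit [IsLocallyNoetherian X] in
/-- A finite fibre has dimension at most zero. -/
lemma dim_fiber_nonpos (y : X) [Finite ↥(f.fiber y)] :
    topologicalKrullDim ↥(f.fiber y) ≤ ((0 : ℕ) : WithBot ℕ∞) := by
  haveI : LocallyOfFiniteType (f.fiberToSpecResidueField y) :=
    MorphismProperty.pullback_snd f _ ‹LocallyOfFiniteType f›
  haveI : JacobsonSpace ↥(f.fiber y) :=
    LocallyOfFiniteType.jacobsonSpace (f.fiberToSpecResidueField y)
  exact (topologicalKrullDim_zero_of_discreteTopology _).trans (by simp)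

/-- Dimension of fibres over points with small local rings. -/
theorem fiber_dim_le (U : X.Opens) (hU' : Dense ((f ⁻¹ᵁ U : Y.Opens) : Set Y))
    (hfin : ∀ y ∈ U, Finite ↥(f.fiber y)) (x : X) (q : ℕ)
    (hx : Order.coheight x ≤ (q + 1 : ℕ)) : topologicalKrullDim ↥(f.fiber x) ≤ (q : WithBot ℕ∞) := by
  haveI : IsLocallyNoetherian Y := LocallyOfFiniteType.isLocallyNoetherian f
  refine iSup_le fun l => ?_
  obtain ⟨w, hw⟩ := l.head.isIrreducible.nonempty
  refine (Groth.SpectralTopology.length_le_localDim l hw).trans ?_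
  suffices key : ∀ y : Y, f.base y = x → FlatMor.fibreDimAt f y ≤ (q : WithBot ℕ∞) by
    have hy : f.base ((f.fiberι x).base w) = x :=
      Groth.FibreDim.apply_fiberι f x w
    have := key _ hy
    revert this
    suffices h : ∀ (x' : X) (_ : f.base ((f.fiberι x).base w) = x') (w' : f.fiber x'),
        (f.fiberι x').base w' = (f.fiberι x).base w →
        FlatMor.fibreDimAt f ((f.fiberι x).base w) = FlatMor.localDim (f.fiber x') w' from
      fun h' => (h x hy w rfl) ▸ h'
    rintro _ rfl w' hw'
    rw [(f.fiberι _).isEmbedding.injective (hw'.trans (f.fiberι_asFiber _).symm)]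
    rfl
  intro y hy
  obtain ⟨ξ, t, t₀, B, hmax, -, ht, ht₀, hB, hor⟩ := Groth.FibreDim.exists_component_fibreDimAt_le f y
  have hξU : f.base ξ ∈ U := mem_of_isMax_of_dense hU' hmax
  haveI := hfin _ hξU
  have h0 : FlatMor.fibreDimAt f ξ ≤ ((0 : ℕ) : WithBot ℕ∞) :=
    (Groth.SpectralTopology.localDim_le_dim _).trans
      (dim_fiber_nonpos f (f.base ξ))
  have ht0 : t₀ = 0 := Nat.le_zero.1 (by exact_mod_cast (ge_iff_le.1 ht₀).trans h0)
  rw [ht]
  rcases hor with ⟨-, h⟩ | ⟨-, h⟩
  · exact_mod_cast (by omega : t ≤ q)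
  · rw [hy] at hB
    rw [hB] at hx
    have hBq : B ≤ q + 1 := by exact_mod_cast hx
    exact_mod_cast (by omega : t ≤ q)

/-- Fibres over points of codimension at most one are finite. -/
theorem finite_fiber [QuasiCompact f] (U : X.Opens) (hU' : Dense ((f ⁻¹ᵁ U : Y.Opens) : Set Y))
    (hfin : ∀ y ∈ U, Finite ↥(f.fiber y)) (x : X) (hx : Order.coheight x ≤ 1) :
    Finite ↥(f.fiber x) := by
  haveI : LocallyOfFiniteType (f.fiberToSpecResidueField x) :=
    MorphismProperty.pullback_snd f _ ‹LocallyOfFiniteType f›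
  haveI : IsLocallyNoetherian (f.fiber x) :=
    LocallyOfFiniteType.isLocallyNoetherian (f.fiberToSpecResidueField x)
  haveI : QuasiCompact (f.fiberToSpecResidueField x) :=
    MorphismProperty.pullback_snd f _ ‹QuasiCompact f›
  haveI : CompactSpace ↥(f.fiber x) := QuasiCompact.compactSpace_of_compactSpace (f.fiberToSpecResidueField x)
  haveI : AlgebraicGeometry.IsNoetherian (f.fiber x) := {}
  exact (Groth.SpectralTopology.finite_discrete_of_dim_nonpos
    (fiber_dim_le f U hU' hfin x 0 (by simpa using hx))).1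

omit [LocallyOfFiniteType f] [IsLocallyNoetherian X] in
/-- Fibres over the locus where the morphism is an isomorphism are points. -/
lemma finite_fiber_of_isIso (U : X.Opens) (hiso : IsIso (f ∣_ U)) (y : X) (hy : y ∈ U) :
    Finite ↥(f.fiber y) := by
  haveI := hiso
  have hsub : Set.Subsingleton (f.base ⁻¹' {y}) := by
    intro a ha b hb
    have hinj : Function.Injective (f ∣_ U).base := (f ∣_ U).homeomorph.injective
    have haU : a ∈ f ⁻¹ᵁ U := show f.base a ∈ U by rw [show f.base a = y from ha]; exact hy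
    have hbU : b ∈ f ⁻¹ᵁ U := show f.base b ∈ U by rw [show f.base b = y from hb]; exact hy
    have h := @hinj ⟨a, haU⟩ ⟨b, hbU⟩ (Subtype.ext (by
      show ((f ∣_ U).base ⟨a, haU⟩).1 = ((f ∣_ U).base ⟨b, hbU⟩).1
      rw [morphismRestrict_base_coe, morphismRestrict_base_coe]
      exact ha.trans hb.symm))
    exact congrArg Subtype.val h
  haveI : Finite ↥(f.base ⁻¹' {y}) := hsub.finite.to_subtype
  exact Finite.of_equiv _ (f.fiberHomeo y).symm.toEquiv

end Groth.ResPropLib
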