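import Groth.Agent.QCohMod.Category
import Groth.Agent.QCohMod.Affine
import Groth.Agent.VectorBundles.RefHullStalk

/-!
# Surjectivity from generators on an affine cover
-/

set_option autoImplicit false
set_option backward.isDefEq.respectTransparency false

universe u

open CategoryTheory CategoryTheory.Limits AlgebraicGeometry TopologicalSpace Opposite
open Groth.QCohMod

namespace Groth.ResPropLib

variable {X : Scheme.{u}}

/-- A map of quasi-coherent modules reaching generators over an affine cover is an epimorphism. -/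
theorem epi_of_generators {M N : X.Modules} [M.IsQuasicoherent] [N.IsQuasicoherent] (φ : M ⟶ N)
    {J : Type*} (W : J → X.Opens) (hW : ∀ j, IsAffineOpen (W j)) (hcov : ∀ x, ∃ j, x ∈ W j)
    (T : ∀ j, Set Γ(N, W j)) (hT : ∀ j, Submodule.span Γ(X, W j) (T j) = ⊤)
    (h : ∀ j, ∀ t ∈ T j, t ∈ Set.range (φ.app (W j))) : Epi φ := by
  refine (epi_iff_stalk φ).mpr fun x t => ?_
  change N.presheaf.stalk x at t
  obtain ⟨j, hx⟩ := hcov x
  obtain ⟨a, s, ha, hs⟩ := Groth.QCohMod.exists_smul_germ_eq N (hW j) x hx t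
  have hsr : s ∈ Set.range (φ.app (W j)) := by
    have hmem : s ∈ Submodule.span Γ(X, W j) (T j) := by rw [hT j]; trivial
    clear hs
    induction hmem using Submodule.span_induction with
    | mem z hz => exact h j z hz
    | zero => exact ⟨0, map_zero _⟩
    | add p q _ _ hp hq =>
      obtain ⟨a, rfl⟩ := hp
      obtain ⟨b, rfl⟩ := hq
      exact ⟨a + b, map_add _ _ _⟩
    | smul c p _ hp =>
      obtain ⟨a, rfl⟩ := hp
      exact ⟨c • a, Scheme.Modules.Hom.app_smul φ c a⟩
  obtain ⟨m, hm⟩ := hsr
  have hu := (Scheme.mem_basicOpen X a x hx).mp ha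
  obtain ⟨v, hv⟩ := hu.exists_left_inv
  refine ⟨(v • (M.presheaf.germ (W j) x hx m) : M.presheaf.stalk x), ?_⟩
  refine (map_smul (RefHull.stalkMapₗ φ x) v (M.presheaf.germ (W j) x hx m)).trans ?_
  have h2 : RefHull.stalkMapₗ φ x (M.presheaf.germ (W j) x hx m) = N.presheaf.germ (W j) x hx s :=
    (stalk_map_germ φ x hx m).trans (congrArg (germ N x hx) hm)
  rw [h2]
  refine (congrArg (fun z : N.presheaf.stalk x => v • z) hs.symm).trans ?_
  exact (smul_smul _ _ (t : N.presheaf.stalk x)).trans ((congrArg (· • (t : N.presheaf.stalk x)) hv).trans (one_smul _ _))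

end Groth.ResPropLib
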