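import Groth.Agent.CohTwo.SheafHomIso
import Groth.Agent.CohTwo.CohInduction
import Groth.Agent.VectorBundles.RefHullStalk
import Groth.Agent.RefRank.HomSec
import Groth.Agent.QCohMod.TensorStalk
import Groth.Agent.QCohMod.Stalk
import Groth.Agent.PicAux.TensorLift

/-!
# Stalkwise tools for top degree cohomology arguments
-/

set_option autoImplicit false
set_option backward.isDefEq.respectTransparency false

universe u

open CategoryTheory CategoryTheory.Limits AlgebraicGeometry TopologicalSpace Opposite
open Groth.QCohMod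
open Groth.PicAux (tmulSec)
open Groth.CohTwo.SheafHomIso (tF tF_map_tmulSec evalHom evalHom_tmulSec)

namespace Groth.ResPropLib

variable {X : Scheme.{u}}

/-- A map bijective on all affine opens inside `O` is bijective on stalks at points of `O`. -/
theorem stalk_bijective_of_affine {M N : X.Modules} (φ : M ⟶ N) (O : X.Opens)
    (h : ∀ U : X.Opens, U ≤ O → IsAffineOpen U → Function.Bijective (φ.app U)) (x : X) (hx : x ∈ O) :
    Function.Bijective ((stalk x).map φ) := by
  refine ⟨(injective_iff_map_eq_zero ((stalk x).map φ).hom).mpr fun s hs ↦ ?_, fun t ↦ ?_⟩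
  · obtain ⟨V, hxV, m, rfl⟩ := exists_germ M x s
    have hs' : germ N x hxV (φ.app V m) = 0 := (stalk_map_germ φ x hxV m).symm.trans hs
    obtain ⟨W, hxW, i, i', hW⟩ := TopCat.Presheaf.germ_eq N.presheaf x hxV hxV (φ.app V m) 0
      (hs'.trans (map_zero (germ N x hxV)).symm)
    obtain ⟨W', hA, hxW', hle⟩ := Opens.isBasis_iff_nbhd.1 X.isBasis_affineOpens
      (show x ∈ W ⊓ O from ⟨hxW, hx⟩)
    rw [← germ_res M ((hle.trans inf_le_left).trans i.le) x hxW' m]
    suffices res M ((hle.trans inf_le_left).trans i.le) m = 0 by rw [this]; exact map_zero _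
    apply (h W' (hle.trans inf_le_right) hA).1
    have hz : res N i.le (φ.app V m) = 0 := hW.trans (map_zero (N.presheaf.map i'.op).hom)
    rw [map_zero, ← res_app, ← res_res N i.le (hle.trans inf_le_left), hz, map_zero]
  · obtain ⟨V, hxV, n, rfl⟩ := exists_germ N x t
    obtain ⟨W', hA, hxW', hle⟩ := Opens.isBasis_iff_nbhd.1 X.isBasis_affineOpens
      (show x ∈ V ⊓ O from ⟨hxV, hx⟩)
    obtain ⟨m, hm⟩ := (h W' (hle.trans inf_le_right) hA).2 (res N (hle.trans inf_le_left) n)
    refine ⟨germ M x hxW' m, ?_⟩
    rw [stalk_map_germ, hm, germ_res]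

/-- Tensoring preserves surjectivity on a stalk. -/
theorem tF_map_stalk_surjective (F : X.Modules) {H H' : X.Modules} (g : H ⟶ H') (x : X)
    (h : Function.Surjective ((stalk x).map g)) :
    Function.Surjective ((stalk x).map ((tF F).map g)) := by
  intro t
  obtain ⟨z, rfl⟩ := (stalkTensorEquiv F H' x).surjective t
  induction z using TensorProduct.induction_on with
  | zero => exact ⟨0, by rw [map_zero, map_zero]⟩
  | add p q hp hq =>
    obtain ⟨a, ha⟩ := hp
    obtain ⟨b, hb⟩ := hq
    exact ⟨a + b, by rw [map_add, ha, hb, map_add]⟩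
  | tmul a b =>
    obtain ⟨b', rfl⟩ := h b
    obtain ⟨W, hW, a₀, b₀, rfl, rfl⟩ := exists_common_germ (M := F) (N := H) x a b'
    refine ⟨germ (CohB1.tensorMod F H) x hW (tmulSec a₀ b₀), ?_⟩
    refine ((stalk_map_germ ((tF F).map g) x hW (tmulSec a₀ b₀)).trans
      (congrArg (germ (CohB1.tensorMod F H') x hW) (tF_map_tmulSec g W a₀ b₀))).trans ?_
    rw [stalk_map_germ, stalkTensorEquiv_tmul]

/-- Tensoring preserves bijectivity on a stalk. -/
theorem tF_map_stalk_bijective (F : X.Modules) {H H' : X.Modules} (g : H ⟶ H') (x : X)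
    (h : Function.Bijective ((stalk x).map g)) :
    Function.Bijective ((stalk x).map ((tF F).map g)) := by
  let gl : H.presheaf.stalk x →ₗ[X.presheaf.stalk x] H'.presheaf.stalk x := RefHull.stalkMapₗ g x
  have hgl : ∀ z, gl z = (stalk x).map g z := fun z => rfl
  let e := LinearEquiv.ofBijective gl (by
    rw [show (gl : _ → _) = (stalk x).map g from funext hgl]; exact h)
  let Θ := ((stalkTensorEquiv F H x).symm.trans
    (TensorProduct.congr (LinearEquiv.refl _ _) e)).trans (stalkTensorEquiv F H' x)
  have key : ∀ t, (stalk x).map ((tF F).map g) t = Θ t := by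
    intro t
    obtain ⟨z, rfl⟩ := (stalkTensorEquiv F H x).surjective t
    induction z using TensorProduct.induction_on with
    | zero => rw [map_zero, map_zero, map_zero]
    | add p q hp hq => rw [map_add, map_add, hp, hq, map_add]
    | tmul a b =>
      obtain ⟨W, hW, a₀, b₀, rfl, rfl⟩ := exists_common_germ (M := F) (N := H) x a b
      simp only [Θ, e, LinearEquiv.trans_apply, LinearEquiv.symm_apply_apply,
        TensorProduct.congr_tmul, LinearEquiv.refl_apply, LinearEquiv.ofBijective_apply, hgl]
      rw [stalkTensorEquiv_tmul]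
      refine ((stalk_map_germ ((tF F).map g) x hW (tmulSec a₀ b₀)).trans
        (congrArg (germ (CohB1.tensorMod F H') x hW) (tF_map_tmulSec g W a₀ b₀))).trans ?_
      rw [stalk_map_germ, stalkTensorEquiv_tmul]
  rw [show ((stalk x).map ((tF F).map g) : _ → _) = Θ from funext key]
  exact Θ.bijective

/-- The tensor product is supported in the support of the right factor. -/
theorem support_tensorMod_subset (F H : X.Modules) :
    CohB1.support (CohB1.tensorMod F H) ⊆ CohB1.support H := by
  intro x hx hsub
  haveI : Subsingleton (H.presheaf.stalk x) := hsub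
  refine hx ?_
  show Subsingleton _
  exact (stalkTensorEquiv F H x).symm.toEquiv.subsingleton

/-- A fixed choice of the symmetry of the tensor product. -/
noncomputable def tComm (L M : X.Modules) : CohB1.tensorMod L M ≅ CohB1.tensorMod M L :=
  (Groth.PicAux.exists_braiding L M).choose

/-- Stalkwise surjectivity of evaluation. -/
theorem evalHom_stalk_surjective [IsLocallyNoetherian X] {F G : X.Modules} (hF : Coh.IsCoh F) (x : X)
    (h : ∀ t : G.presheaf.stalk x, ∃ (L : RefHull.StalkHom F G x) (m : F.presheaf.stalk x), L m = t) :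
    Function.Surjective ((stalk x).map (evalHom F G)) := by
  intro t
  obtain ⟨L, m, rfl⟩ := h t
  obtain ⟨γ, rfl⟩ := (Groth.VectorBundles.RefHullStalk.evalStalk_bijective_of_isCoh F G hF x).2 L
  obtain ⟨W, hW, m₀, g₀, rfl, rfl⟩ := exists_common_germ (M := F) (N := RefHull.homSh F G) x m γ
  refine ⟨germ (CohB1.tensorMod F (RefHull.homSh F G)) x hW (tmulSec m₀ g₀), ?_⟩
  rw [stalk_map_germ, evalHom_tmulSec, RefHull.evalStalk_germ]
  exact Groth.RefRank.germ_secToLin g₀ m₀ x hW

/-- Evaluation is surjective where the source is free of rank one. -/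
theorem evalHom_stalk_surjective_of_iso [IsLocallyNoetherian X] {F G : X.Modules} (hF : Coh.IsCoh F)
    (x : X) (η : Coh.structureModule X ⟶ F) (h : Function.Bijective ((stalk x).map η)) :
    Function.Surjective ((stalk x).map (evalHom F G)) := by
  refine evalHom_stalk_surjective hF x fun t => ?_
  let e := LinearEquiv.ofBijective (RefHull.stalkMapₗ η x)
    (show Function.Bijective (RefHull.stalkMapₗ η x) from h)
  let o := (Groth.VectorBundles.RefHullStalk.oneEquiv x).symm
  refine ⟨((LinearMap.toSpanSingleton (X.presheaf.stalk x) _ t).comp o.toLinearMap).comp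
    e.symm.toLinearMap, e (o.symm 1), ?_⟩
  simp

end Groth.ResPropLib
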