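import Groth.Agent.ProjFormula.Natural
import Groth.Agent.QCohMod.PullbackSections
import Groth.Agent.QCohMod.ClosedImm
import Groth.Agent.QCohMod.Tensor
import Groth.Agent.QCohMod.QCQS

/-!
# The projection formula along an affine morphism, for quasi-coherent modules
-/

set_option autoImplicit false
set_option backward.isDefEq.respectTransparency false

universe u

open CategoryTheory AlgebraicGeometry Opposite TopologicalSpace TensorProduct
open Groth.PicAux Groth.ProjFormula

namespace Groth.ResPropLib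

variable {X Y : Scheme.{u}} (f : X ⟶ Y) (E : Y.Modules) (F : X.Modules) [E.IsQuasicoherent]
  [F.IsQuasicoherent]

/-- Over an affine open with affine preimage the projection formula map is bijective. -/
theorem pfApp_bijective {W : Y.Opens} (hW : IsAffineOpen W) (hV : IsAffineOpen (f ⁻¹ᵁ W))
    [((Scheme.Modules.pushforward f).obj F).IsQuasicoherent] :
    Function.Bijective ((pfApp f E F).app W) := by
  haveI := Groth.QCohMod.isQCoh_pullback_obj f E
  letI := Groth.QCohMod.sectionsAlg f (le_refl (f ⁻¹ᵁ W))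
  letI : Module Γ(Y, W) Γ(F, f ⁻¹ᵁ W) := Module.compHom _ (f.appLE W (f ⁻¹ᵁ W) (le_refl _)).hom
  haveI : IsScalarTower Γ(Y, W) Γ(X, f ⁻¹ᵁ W) Γ(F, f ⁻¹ᵁ W) :=
    IsScalarTower.of_algebraMap_smul fun _ _ => rfl
  let σ : Γ((Scheme.Modules.pushforward f).obj F, W) ≃ₗ[Γ(Y, W)] Γ(F, f ⁻¹ᵁ W) :=
    { AddEquiv.refl _ with
      map_smul' := fun r g => by
        show f.app W r • downSec f F g = f.appLE W (f ⁻¹ᵁ W) (le_refl _) r • downSec f F g
        rw [Scheme.Hom.appLE_eq_app] }
  let Θ : PTen E ((Scheme.Modules.pushforward f).obj F) W ≃+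
      PTen ((Scheme.Modules.pullback f).obj E) F (f ⁻¹ᵁ W) :=
    (((TensorProduct.congr (LinearEquiv.refl _ _) σ).trans (TensorProduct.comm _ _ _)).trans
      ((TensorProduct.AlgebraTensorModule.cancelBaseChange Γ(Y, W) Γ(X, f ⁻¹ᵁ W) Γ(X, f ⁻¹ᵁ W)
        Γ(F, f ⁻¹ᵁ W) Γ(E, W)).symm.restrictScalars Γ(Y, W))).toAddEquiv.trans
      (((TensorProduct.congr (LinearEquiv.refl _ _)
        (Groth.QCohMod.pullSecEquiv f E (le_refl (f ⁻¹ᵁ W)) hW hV)).trans
          (TensorProduct.comm _ _ _)).toAddEquiv)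
  have hb : Function.Bijective (ptenUnit ((Scheme.Modules.pullback f).obj E) F (f ⁻¹ᵁ W) ∘ Θ) :=
    (Groth.QCohMod.ptenUnit_bijective hV).comp Θ.bijective
  refine (Function.Bijective.of_comp_iff _ (Groth.QCohMod.ptenUnit_bijective
    (M := E) (N := (Scheme.Modules.pushforward f).obj F) hW)).1 ?_
  have key : ∀ z, (pfApp f E F).app W (ptenUnit E _ W z) =
      ptenUnit ((Scheme.Modules.pullback f).obj E) F (f ⁻¹ᵁ W) (Θ z) := by
    intro z
    induction z using TensorProduct.induction_on with
    | zero => simp only [map_zero]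
    | add p q hp hq => simp only [map_add, hp, hq]
    | tmul a g =>
      refine (pfApp_tmul f E F W a g).trans ?_
      show tmulSec (pullSec f E a) (downSec f F g) = ptenUnit _ _ _ (Θ (a ⊗ₜ g))
      have : Θ (a ⊗ₜ g) = pullSec f E a ⊗ₜ[Γ(X, f ⁻¹ᵁ W)] downSec f F g := by
        simp only [Θ, σ, AddEquiv.trans_apply]
        simp [Groth.QCohMod.pullSecEquiv, Groth.QCohMod.pullSecTensor_tmul]
        rw [Groth.QCohMod.res_self]
      rw [this]
      rfl
  have : ((pfApp f E F).app W : _ → _) ∘ ptenUnit E ((Scheme.Modules.pushforward f).obj F) W =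
      ptenUnit ((Scheme.Modules.pullback f).obj E) F (f ⁻¹ᵁ W) ∘ Θ := funext key
  exact this ▸ hb

/-- The projection formula for quasi-coherent modules along an affine morphism. -/
theorem isIso_pfApp_of_isAffineHom [IsAffineHom f] : IsIso (pfApp f E F) := by
  haveI := Groth.QCohMod.isQCoh_pushforward (M := F) f
  exact Groth.QCohMod.isIso_of_affine_bijective _ fun W hW => pfApp_bijective f E F hW (hW.preimage f)

end Groth.ResPropLib
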