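import Groth.Agent.S17383
import Groth.Agent.S1682
import Groth.Agent.NagComp.BlowUp
import Groth.Agent.HTopHyper.BlowUpProper
import Groth.Agent.Ega2Proj.RelProjAmple
import Groth.Agent.Ega2Proj.CurveCompletion
import Groth.Agent.PropsBasic.AmpleSep

/-!
# Chow's lemma with isomorphism over a given dense affine open
-/

set_option autoImplicit false
set_option backward.isDefEq.respectTransparency false

universe u

open CategoryTheory AlgebraicGeometry TopologicalSpace

namespace Groth.ResPropLib

/-- A separated scheme of finite type over a Noetherian ring has, for every dense affine open `U`, a proper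
modification which is an isomorphism over `U` and carries an ample invertible module. -/
theorem exists_chow_affine {A : Type u} [CommRing A] [IsNoetherianRing A] {X : Scheme.{u}}
    (p : X ⟶ Spec (CommRingCat.of A)) [IsSeparated p] [LocallyOfFiniteType p] [QuasiCompact p]
    (U : X.Opens) (hU : IsAffineOpen U) (hUd : Dense (U : Set X)) :
    ∃ (X' : Scheme.{u}) (q : X' ⟶ X) (L' : X'.Modules), IsProper q ∧ IsNoetherian X' ∧ X'.IsSeparated ∧
      IsIso (q ∣_ U) ∧ Dense ((q ⁻¹ᵁ U : X'.Opens) : Set X') ∧ CohB1.IsAmple L' := by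
  haveI : IsAffine (U : Scheme.{u}) := hU
  haveI : IsAffineHom (U.ι ≫ p) := inferInstance
  haveI : LocallyOfFiniteType (U.ι ≫ p) := inferInstance
  haveI : QuasiCompact (U.ι ≫ p) := inferInstance
  have hq : RelProj.IsQuasiProjective (U.ι ≫ p) :=
    ⟨inferInstance, inferInstance, _, Groth.Ega2Proj.CurveCompl.isRelAmple_structure (U.ι ≫ p)⟩
  obtain ⟨I, X', P, q, j, g, hb, hI, hg, hj, -, hjg⟩ :=
    Groth.Agent.S17383.result p U hU.isCompact hUd hq
  haveI := Groth.Chow.isProper_of_isProjective hg
  haveI : IsProper q := Groth.HTopHyper.isProper_of_isBlowUp hb hI.1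
  obtain ⟨-, -, L, hL⟩ := Groth.Ega2Proj.isQuasiProjective_of_isProjective hg
  haveI : IsLocallyNoetherian X := LocallyOfFiniteType.isLocallyNoetherian p
  haveI : IsLocallyNoetherian X' := LocallyOfFiniteType.isLocallyNoetherian q
  haveI : CompactSpace X := QuasiCompact.compactSpace_of_compactSpace p
  haveI : CompactSpace X' := QuasiCompact.compactSpace_of_compactSpace q
  let V : X.Opens := ⟨(I.support : Set X)ᶜ, I.support.isClosed.isOpen_compl⟩
  have hUV : U ≤ V := fun x hx hxI => Set.disjoint_left.mp hI.2 hxI hx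
  haveI : IsIso (q ∣_ V) := Groth.Agent.S1682.result I q hb
  have hiso : IsIso (q ∣_ U) := by
    have h := (MorphismProperty.isomorphisms Scheme.{u}).arrow_mk_iso_iff
      (morphismRestrictRestrict q V (V.ι ⁻¹ᵁ U) ≪≫ morphismRestrictEq q
        (show V.ι ''ᵁ (V.ι ⁻¹ᵁ U) = U by
          rw [Scheme.Hom.image_preimage_eq_opensRange_inf, Scheme.Opens.opensRange_ι,
            inf_eq_right.mpr hUV]))
    exact h.mp (inferInstanceAs (IsIso ((q ∣_ V) ∣_ (V.ι ⁻¹ᵁ U))))
  have hVd : Dense ((q ⁻¹ᵁ V : X'.Opens) : Set X') :=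
    Groth.NagComp.dense_of_SD_top (Groth.NagComp.SD.of_compl (U := q ⁻¹ᵁ V) hb.1 (fun x hx h => hx (by
      rw [Scheme.IdealSheafData.support_comap]
      exact h)) ⊤)
  have hamp : CohB1.IsAmple (L.restrict j) :=
    Groth.Ega2Proj.isAmple_of_isRelAmple hL ⟨⊤, isAffineOpen_top _⟩ j (fun x _ => trivial)
  exact ⟨X', q, L.restrict j, inferInstance, ⟨⟩,
    Groth.PropsBasic.Ample.isSeparated_of_cover hamp.1 hamp.2.2, hiso,
    Groth.NagComp.dense_preimage_of_isIso q hUd hVd, hamp⟩

end Groth.ResPropLib
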