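import Groth.Agent.ResPropLib.ThickOpen
import Groth.Agent.QfCodim.Scheme

/-!
# Codimension one points and a birational morphism
-/

set_option autoImplicit false
set_option backward.isDefEq.respectTransparency false

universe u

open CategoryTheory AlgebraicGeometry TopologicalSpace

namespace Groth.ResPropLib

variable {X X' : Scheme.{u}}

/-- A dense open contains the maximal points. -/
theorem maximal_mem_of_dense [IsNoetherian X] {U : X.Opens} (hd : Dense (U : Set X)) {z : X}
    (hz : ∀ w : X, w ⤳ z → w = z) : z ∈ U := by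
  by_contra h
  refine Groth.PropsBasic.ZD.notMem_closure_of_isCompact (NoetherianSpace.isCompact _) hz h ?_
  rw [hd.closure_eq]
  trivial

/-- The points of codimension at most one outside a dense open are finitely many. -/
theorem finite_codimOne_compl [IsNoetherian X] {U : X.Opens} (hd : Dense (U : Set X)) :
    {y : X | y ∉ U ∧ ringKrullDim (X.presheaf.stalk y) ≤ 1}.Finite ∧
      ∀ y ∈ {y : X | y ∉ U ∧ ringKrullDim (X.presheaf.stalk y) ≤ 1}, ∀ z ∉ U, z ⤳ y → z = y := by
  have hmax : ∀ y ∈ {y : X | y ∉ U ∧ ringKrullDim (X.presheaf.stalk y) ≤ 1}, ∀ z ∉ U, z ⤳ y → z = y :=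
    fun y hy z hz hzy => by
    by_contra hne
    exact hz (maximal_mem_of_dense hd fun w hw => eq_of_specializes_of_specializes hy.2 hzy hne hw)
  refine ⟨?_, hmax⟩
  obtain ⟨C, hCf, hCc, hCi, hSC⟩ :=
    NoetherianSpace.exists_finite_set_isClosed_irreducible U.isOpen.isClosed_compl
  refine ((hCf.dependent_image fun T hT => IsIrreducible.genericPoint (hCi T hT))).subset ?_
  intro y hy
  obtain ⟨T, hT, hyT⟩ := hSC.subset hy.1
  have hgenT := IsIrreducible.isGenericPoint_genericPoint (hCi T hT) (hCc T hT)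
  exact ⟨T, hT, (hmax y hy _ (hSC.ge ⟨T, hT, hgenT.mem⟩) (hgenT.specializes hyT))⟩

/-- The fibres of a birational morphism over points of codimension at most one are finite. -/
theorem finite_fibre_of_codim_le_one [IsNoetherian X] [IsNoetherian X'] (f : X' ⟶ X) [LocallyOfFiniteType f]
    (U : X.Opens) [IsIso (f ∣_ U)] (hd' : Dense ((f ⁻¹ᵁ U : X'.Opens) : Set X')) {y : X}
    (hy : ringKrullDim (X.presheaf.stalk y) ≤ 1) : (f ⁻¹' {y}).Finite := by
  have hgen : ∀ ξ : X', Order.coheight ξ = 0 → f.QuasiFiniteAt ξ := fun ξ hξ => by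
    have hξU : ξ ∈ f ⁻¹ᵁ U := maximal_mem_of_dense hd' fun w hw =>
      (Specializes.antisymm hw (Order.coheight_eq_zero.mp hξ hw)).eq
    have hq : LocallyQuasiFinite ((f ∣_ U) ≫ U.ι) :=
      MorphismProperty.comp_mem _ _ _ (inferInstance : LocallyQuasiFinite (f ∣_ U))
        (inferInstance : LocallyQuasiFinite U.ι)
    rw [morphismRestrict_ι] at hq
    have hq' := @Scheme.Hom.quasiFiniteAt _ _ ((f ⁻¹ᵁ U).ι ≫ f) hq ⟨ξ, hξU⟩
    exact (Scheme.Hom.quasiFiniteAt_comp_iff_of_isOpenImmersion (f := (f ⁻¹ᵁ U).ι) (g := f)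
      (x := ⟨ξ, hξU⟩)).mp hq'
  let W := f.quasiFiniteLocus
  have hfW : ∀ a, f a = y → a ∈ W := fun a ha =>
    Groth.QfCodim.quasiFiniteAt_of_codim_le_one f a (ha ▸ hy) fun ξ _ h => hgen ξ h
  haveI : CompactSpace (W : Scheme.{u}) :=
    isCompact_iff_compactSpace.mp (NoetherianSpace.isCompact (W : Set X'))
  haveI : QuasiCompact (W.ι ≫ f) := quasiCompact_of_compactSpace _
  haveI : LocallyQuasiFinite (W.ι ≫ f) := inferInstanceAs (LocallyQuasiFinite (f.quasiFiniteLocus.ι ≫ f))
  exact (((W.ι ≫ f).finite_preimage_singleton y).image W.ι).subset fun a ha => ⟨⟨a, hfW a ha⟩, ha, rfl⟩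

end Groth.ResPropLib
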