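import Groth.Agent.ResPropLib.DescendLine

/-!
# Functions in the image of a finite morphism which is an isomorphism over an open
-/

set_option autoImplicit false
set_option backward.isDefEq.respectTransparency false

universe u

open CategoryTheory AlgebraicGeometry Opposite TopologicalSpace
open Groth.PicAux

namespace Groth.ResPropLib

variable {X X' : Scheme.{u}}

/-- A uniform exponent `q` such that every multiple of the `q`-th power of a function vanishing outside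
`U` comes from below. -/
theorem exists_pow_mul_mem_range [IsNoetherian X] (g : X' ⟶ X) [IsFinite g] (U : X.Opens) [IsIso (g ∣_ U)]
    {Ω : X.Opens} (hΩ : IsAffineOpen Ω) :
    ∃ q : ℕ, ∀ d r : Γ(X', g ⁻¹ᵁ Ω), X'.basicOpen d ≤ g ⁻¹ᵁ U → ∃ a, g.app Ω a = r * d ^ q := by
  classical
  have hΛ : IsAffineOpen (g ⁻¹ᵁ Ω) := hΩ.preimage g
  let φ : Γ(X, Ω) →+* Γ(X', g ⁻¹ᵁ Ω) := (g.app Ω).hom
  have hfin : φ.Finite := g.finite_app Ω hΩ
  haveI : IsNoetherianRing Γ(X, Ω) := IsLocallyNoetherian.component_noetherian ⟨Ω, hΩ⟩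
  algebraize [φ]
  haveI : IsNoetherianRing Γ(X', g ⁻¹ᵁ Ω) := IsNoetherianRing.of_finite Γ(X, Ω) _
  -- a finite cover of `Ω ∩ U` by basic opens
  have hbas : ∀ x : X, x ∈ Ω ⊓ U → ∃ b : Γ(X, Ω), X.basicOpen b ≤ U ∧ x ∈ X.basicOpen b := fun x hx =>
    hΩ.exists_basicOpen_le (V := U) ⟨x, hx.2⟩ hx.1
  choose b hbU hxb using hbas
  obtain ⟨S, hS⟩ := (NoetherianSpace.isCompact ((Ω ⊓ U : X.Opens) : Set X)).elim_finite_subcover
    (fun x : (Ω ⊓ U : X.Opens) => (X.basicOpen (b x x.2) : Set X)) (fun x => (X.basicOpen _).isOpen)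
    (fun x hx => Set.mem_iUnion.mpr ⟨⟨x, hx⟩, hxb x hx⟩)
  let B : (Ω ⊓ U : X.Opens) → Γ(X, Ω) := fun x => b x x.2
  -- the cokernel is killed by powers
  have hkill : ∀ (x : (Ω ⊓ U : X.Opens)) (y : Γ(X', g ⁻¹ᵁ Ω)),
      ∃ n, φ (B x) ^ n * y ∈ φ.range := by
    intro x y
    have hle : X.basicOpen (B x) ≤ U := hbU x x.2
    let D := X.basicOpen (B x)
    have hDΩ : D ≤ Ω := X.basicOpen_le _
    obtain ⟨y₁, hy₁⟩ := (app_bijective_of_le g U hle).2 (resX X' (g.preimage_mono hDΩ) y)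
    obtain ⟨n, β, hβ⟩ := exists_eq_pow_mul_of_isCompact_of_isQuasiSeparated X Ω hΩ.isCompact
      hΩ.isQuasiSeparated (B x) y₁
    change resX X hDΩ β = resX X hDΩ (B x) ^ n * y₁ at hβ
    have happ : ∀ r : Γ(X, Ω), g.app D (resX X hDΩ r) = resX X' (g.preimage_mono hDΩ) (φ r) :=
      fun r => congr($(g.naturality (homOfLE hDΩ).op) r)
    have hpre : X'.basicOpen (φ (B x)) ≤ g ⁻¹ᵁ D := (Scheme.preimage_basicOpen g (B x)).ge
    have h1 : resX X' (g.preimage_mono hDΩ) (φ β - φ (B x) ^ n * y) = 0 := by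
      rw [map_sub, map_mul, map_pow, ← happ, ← happ, hβ, map_mul, map_pow, hy₁, sub_self]
    have h2 : resX X' (X'.basicOpen_le (φ (B x))) (φ β - φ (B x) ^ n * y) = 0 := by
      have := congrArg (resX X' hpre) h1
      rwa [resX_resX, map_zero] at this
    obtain ⟨m, hm⟩ := exists_pow_mul_eq_zero_of_res_basicOpen_eq_zero_of_isCompact X' hΛ.isCompact
      (φ β - φ (B x) ^ n * y) (φ (B x)) h2
    refine ⟨m + n, B x ^ m * β, ?_⟩
    rw [map_mul, map_pow]
    linear_combination hm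
  obtain ⟨G, hG⟩ : (⊤ : Submodule Γ(X, Ω) Γ(X', g ⁻¹ᵁ Ω)).FG := Module.Finite.fg_top
  choose N hN using hkill
  let M : (Ω ⊓ U : X.Opens) → ℕ := fun x => G.sup (N x)
  have hM : ∀ x y, φ (B x) ^ M x * y ∈ φ.range := by
    intro x y
    have hy : y ∈ Submodule.span Γ(X, Ω) (G : Set Γ(X', g ⁻¹ᵁ Ω)) := hG.ge Submodule.mem_top
    induction hy using Submodule.span_induction with
    | mem z hz =>
      obtain ⟨k, hk⟩ := Nat.exists_eq_add_of_le (Finset.le_sup (f := N x) hz)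
      show φ (B x) ^ G.sup (N x) * z ∈ φ.range
      rw [hk, pow_add, mul_comm (_ ^ N x z), mul_assoc]
      exact mul_mem (pow_mem (show φ (B x) ∈ φ.range from ⟨B x, rfl⟩) k) (hN x z)
    | zero => simp
    | add z w _ _ hz hw => rw [mul_add]; exact add_mem hz hw
    | smul a z _ hz =>
      rw [Algebra.smul_def, mul_left_comm]
      exact mul_mem ⟨a, rfl⟩ hz
  let I : Ideal Γ(X', g ⁻¹ᵁ Ω) := Ideal.span ((fun x => φ (B x) ^ M x) '' S)
  obtain ⟨q, hq⟩ := I.exists_radical_pow_le_of_fg (IsNoetherian.noetherian I.radical)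
  refine ⟨q, fun d r hd => ?_⟩
  have hdI : d ∈ I.radical := by
    rw [Ideal.radical_eq_sInf, Ideal.mem_sInf]
    rintro P ⟨hIP, hP⟩
    by_contra hdP
    let p : PrimeSpectrum Γ(X', g ⁻¹ᵁ Ω) := ⟨P, hP⟩
    have hp : hΛ.fromSpec p ∈ X'.basicOpen d := by
      show p ∈ hΛ.fromSpec ⁻¹ᵁ X'.basicOpen d
      rw [hΛ.fromSpec_preimage_basicOpen]
      exact hdP
    obtain ⟨x, hx, hxp⟩ := Set.mem_iUnion₂.mp (hS
      (show g (hΛ.fromSpec p) ∈ Ω ⊓ U from ⟨X'.basicOpen_le d hp, hd hp⟩))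
    have h3 : p ∈ hΛ.fromSpec ⁻¹ᵁ X'.basicOpen (φ (B x)) :=
      (Scheme.preimage_basicOpen g (B x)).le hxp
    rw [hΛ.fromSpec_preimage_basicOpen] at h3
    exact h3 (hP.mem_of_pow_mem (M x) (hIP (Ideal.subset_span ⟨x, hx, rfl⟩)))
  have hdq : d ^ q ∈ I := hq (Ideal.pow_mem_pow hdI q)
  suffices h : r * d ^ q ∈ φ.range from h
  have key : ∀ z ∈ I, ∀ r, r * z ∈ φ.range := by
    intro z hz
    induction hz using Submodule.span_induction with
    | mem z hz =>
      obtain ⟨x, -, rfl⟩ := hz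
      intro r
      rw [mul_comm]
      exact hM x r
    | zero => intro r; simp
    | add z w _ _ hz hw => intro r; rw [mul_add]; exact add_mem (hz r) (hw r)
    | smul a z _ hz => intro r; rw [smul_eq_mul, ← mul_assoc]; exact hz (r * a)
  exact key _ hdq r

end Groth.ResPropLib
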