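import Groth.Agent.ResPropLib.SaturatedLocus
import Groth.Agent.ResPropLib.FibresCodimOne
import Groth.Agent.ResPropLib.FiniteImagePower
import Groth.Agent.Ega2Proj.AmpleBasic
import Groth.Agent.Ega2Proj.RelAmple
import Groth.Agent.FlatMor2.Chevalley.Approx
import Groth.Prelude.Def_KSix

/-!
# Descending an ample module to a thick open
-/

set_option autoImplicit false
set_option backward.isDefEq.respectTransparency false
set_option backward.isDefEq.respectTransparency.types false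

universe u

open CategoryTheory AlgebraicGeometry Opposite TopologicalSpace
open Groth.PicAux Groth.PropsBasic.Ample

namespace Groth.ResPropLib

/-- The algebraic core: an invertible module pulling back to an ample one trivialised on the
complement of `U` is ample. -/
theorem isAmpleFamily_of_descended {X X' : Scheme.{u}} [IsNoetherian X] [IsNoetherian X'] (g : X' ⟶ X) [IsFinite g]
    [Surjective g] (U : X.Opens) [IsIso (g ∣_ U)] {Ω : X.Opens} (hΩ : IsAffineOpen Ω) (hcov : U ⊔ Ω = ⊤)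
    {P : X'.Modules} (hP : CohB1.IsAmple P) {L : X.Modules} (hL : PicF.IsInvertible L) (e : Γ(L, Ω))
    (he : Gen L Ω e) (θ : (Scheme.Modules.pullback g).obj L ≅ P) (σ : Γ(P, ⊤))
    (hσ : gloc σ = g ⁻¹ᵁ Ω) (hθ : θ.hom.app (g ⁻¹ᵁ Ω) (pullSec g L e) = res P le_top σ) :
    KSix.IsAmpleFamily (fun _ : PUnit.{u+1} => L) := by
  refine ⟨inferInstance, inferInstance, fun _ => hL, fun v => ?_⟩
  have hsurj : ∀ {A B : X.Opens}, g ⁻¹ᵁ A = g ⁻¹ᵁ B → A = B := fun {A B} h => by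
    ext y
    obtain ⟨z, rfl⟩ := g.surjective y
    exact SetLike.ext_iff.mp h z
  rcases (show v ∈ U ⊔ Ω by rw [hcov]; trivial) with hv | hv
  swap
  · -- the section cutting out `Ω`
    have hτ : res _ (le_top : g ⁻¹ᵁ Ω ≤ ⊤) (θ.inv.app ⊤ σ) = g.app Ω 1 • pullSec g L e := by
      rw [← app_res, ← hθ, map_one, one_smul]
      exact congr(($(θ.hom_inv_id)).app (g ⁻¹ᵁ Ω) (pullSec g L e))
    obtain ⟨t, ht⟩ := exists_descended_section g U Ω hcov hL e (θ.inv.app ⊤ σ) 1 hτ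
    have htΩ : gloc t = Ω := hsurj (ht.trans ((gloc_map θ.inv σ).trans hσ))
    obtain ⟨i1⟩ := Groth.PicAux.tensorPow_one L
    refine ⟨PUnit.unit, 0, homOfSection (i1.inv.app ⊤ t), ?_, ?_⟩
    · show v ∈ gloc (i1.inv.app ⊤ t)
      rw [gloc_map, htΩ]
      exact hv
    · show IsAffineOpen (gloc (i1.inv.app ⊤ t))
      rw [gloc_map, htΩ]
      exact hΩ
  -- points of `U`
  obtain ⟨q, hq⟩ := exists_pow_mul_mem_range g U hΩ
  obtain ⟨a, ha⟩ := g.surjective v
  obtain ⟨N, ρ, haρ, hρU, hρ⟩ := exists_affine_gloc_nhd hP (O := g ⁻¹ᵁ U) (z := a)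
    (show g a ∈ U from ha.symm ▸ hv)
  let m := (N + 1) * (q + 1)
  have hLm := isInvertible_tensorPow hL m
  obtain ⟨i1⟩ := pullback_tensorPow g L m
  obtain ⟨i2⟩ := nonempty_tensorPow_iso θ m
  obtain ⟨i3⟩ := tensorPow_mul P (N + 1) (q + 1)
  let Φ : (Scheme.Modules.pullback g).obj (CohB1.tensorPow L m) ≅
      CohB1.tensorPow (CohB1.tensorPow P (N + 1)) (q + 1) := i1 ≪≫ i2 ≪≫ i3
  let τ := Φ.inv.app ⊤ (powSec ρ (q + 1))
  have hσg : Gen P (g ⁻¹ᵁ Ω) (res P le_top σ) := gen_gloc σ hσ.ge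
  have hE := hσg.pow (N + 1)
  obtain ⟨d, hd⟩ := hE.exists_coeff le_rfl (res _ (le_top : g ⁻¹ᵁ Ω ≤ ⊤) ρ)
  rw [res_self] at hd
  have hdU : X'.basicOpen d ≤ g ⁻¹ᵁ U := by
    rw [← gloc_inf_eq_basicOpen hE hd]
    exact inf_le_left.trans hρU
  have hG := ((he.pow m).pull g)
  obtain ⟨r, hr⟩ := hG.exists_coeff le_rfl (Φ.inv.app (g ⁻¹ᵁ Ω) (powSec (powSec (res P le_top σ) (N + 1)) (q + 1)))
  rw [res_self] at hr
  obtain ⟨c, hc⟩ := hq d (d * r) hdU
  have hτ : res _ (le_top : g ⁻¹ᵁ Ω ≤ ⊤) τ = g.app Ω c • pullSec g _ (powSec e m) := by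
    simp only [τ]
    rw [← app_res, res_powSec, hd, powSec_smul, Scheme.Modules.Hom.app_smul, hr, ← mul_smul, hc]
    congr 1
    ring
  obtain ⟨t, ht⟩ := exists_descended_section g U Ω hcov hLm (powSec e m) τ c hτ
  have htτ : gloc τ = gloc ρ := (gloc_map Φ.inv _).trans
    (gloc_powSec (isInvertible_tensorPow hP.1 _) ρ (Nat.succ_pos q))
  have htU : gloc t ≤ U := fun y hy => by
    obtain ⟨z, rfl⟩ := g.surjective y
    exact hρU (htτ.le (ht.le hy))
  have hta : IsAffineOpen (gloc t) := by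
    haveI : IsAffine (g ⁻¹ᵁ gloc t : X'.Opens).toScheme := by
      rw [ht, htτ]
      exact hρ
    haveI : Surjective (g ∣_ gloc t) := IsZariskiLocalAtTarget.restrict ‹Surjective g› _
    exact Groth.FlatMor2.Chevalley.isAffine_of_universallyClosed_surjective (g ∣_ gloc t)
  have hm : m - 1 + 1 = m := Nat.sub_add_cancel (Nat.mul_pos (Nat.succ_pos N) (Nat.succ_pos q))
  obtain ⟨t', ht'⟩ : ∃ t' : Γ(CohB1.tensorPow L (m - 1 + 1), ⊤), gloc t' = gloc t := by
    rw [hm]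
    exact ⟨t, rfl⟩
  refine ⟨PUnit.unit, m - 1, homOfSection t', ?_, ?_⟩
  · show v ∈ gloc t'
    rw [ht', ← ha]
    exact ht.ge (htτ.ge haρ)
  · show IsAffineOpen (gloc t')
    rw [ht']
    exact hta

/-- The thick open over which an ample module descends. -/
theorem exists_thick_open_ample {X X' : Scheme.{u}} [IsNoetherian X] [IsNoetherian X']
    (f : X' ⟶ X) [IsProper f] [X'.IsSeparated] (L' : X'.Modules) (hL' : CohB1.IsAmple L')
    (U : X.Opens) (hU : IsIso (f ∣_ U))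
    (hd : Dense (U : Set X)) (hd' : Dense ((f ⁻¹ᵁ U : X'.Opens) : Set X')) :
    ∃ V : X.Opens, U ≤ V ∧
      (∃ (T : Scheme.{u}) (g : T ⟶ (V : Scheme.{u})), IsClosedImmersion g ∧ IsAffine T ∧
        Set.range (g ≫ V.ι).base = (V : Set X) \ (U : Set X)) ∧
      (∀ y : X, ringKrullDim (X.presheaf.stalk y) ≤ 1 → y ∈ V) ∧ IsFinite (f ∣_ V) ∧
      ∃ (L : (V : Scheme.{u}).Modules) (n : ℕ), CohB1.IsAmple L ∧ 1 ≤ n ∧
        Nonempty ((Scheme.Modules.pullback (f ∣_ V)).obj L ≅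
          (CohB1.tensorPow L' n).restrict (f ⁻¹ᵁ V).ι) := by
  haveI : Surjective f := by
    refine ⟨fun y => ?_⟩
    have hsub : (U : Set X) ⊆ Set.range f := fun z hz => ⟨_, (existsUnique_preimage_of_mem f U hz).choose_spec.1⟩
    exact closure_minimal hsub (f.isClosedMap.isClosed_range) (hd.closure_eq ▸ Set.mem_univ y)
  haveI : X.IsSeparated := Groth.FlatMor2.Chevalley.isSeparated_of_surjective_universallyClosed f
  obtain ⟨hΔ, hmax⟩ := finite_codimOne_compl hd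
  obtain ⟨n, σ, hΛ, hEΛ, hsat⟩ := exists_saturated_locus f f.isClosedMap hL' U
    (fun a b ha h => (existsUnique_preimage_of_mem f U ha).unique rfl h.symm)
    _ hΔ (fun y hy => hy.1) hmax (fun y hy => finite_fibre_of_codim_le_one f U hd' hy.2)
  let Ω : X.Opens := ⟨(f '' (gloc σ : Set X')ᶜ)ᶜ,
    (f.isClosedMap _ (gloc σ).isOpen.isClosed_compl).isOpen_compl⟩
  have hpreΩ : f ⁻¹ᵁ Ω = gloc σ := by
    ext a
    constructor
    · intro h
      by_contra hn
      exact h ⟨a, hn, rfl⟩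
    · rintro ha ⟨b, hb, hba⟩
      exact hb (hsat a b hba.symm ha)
  have hΩ : IsAffineOpen Ω := by
    haveI : IsAffine (f ⁻¹ᵁ Ω : X'.Opens).toScheme := by rw [hpreΩ]; exact hΛ
    haveI : Surjective (f ∣_ Ω) := IsZariskiLocalAtTarget.restrict ‹Surjective f› _
    exact Groth.FlatMor2.Chevalley.isAffine_of_universallyClosed_surjective (f ∣_ Ω)
  let V : X.Opens := U ⊔ Ω
  let g := f ∣_ V
  let U' : (V : Scheme.{u}).Opens := V.ι ⁻¹ᵁ U
  let Ω' : (V : Scheme.{u}).Opens := V.ι ⁻¹ᵁ Ω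
  have hcov : U' ⊔ Ω' = ⊤ := eq_top_iff.mpr fun z _ => z.2
  have himgU : V.ι ''ᵁ U' = U := by
    rw [Scheme.Hom.image_preimage_eq_opensRange_inf, Scheme.Opens.opensRange_ι, inf_eq_right.mpr le_sup_left]
  have himgΩ : V.ι ''ᵁ Ω' = Ω := by
    rw [Scheme.Hom.image_preimage_eq_opensRange_inf, Scheme.Opens.opensRange_ι, inf_eq_right.mpr le_sup_right]
  have hΩ'aff : IsAffineOpen Ω' := hΩ.preimage_of_isOpenImmersion V.ι (le_sup_right.trans V.opensRange_ι.ge)
  haveI hgU : IsIso (g ∣_ U') := by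
    have h := (MorphismProperty.isomorphisms Scheme.{u}).arrow_mk_iso_iff
      (morphismRestrictRestrict f V U' ≪≫ morphismRestrictEq f himgU)
    exact h.mpr hU
  have hgΩ : IsAffineHom (g ∣_ Ω') := by
    haveI : IsAffine (f ⁻¹ᵁ Ω : X'.Opens).toScheme := by rw [hpreΩ]; exact hΛ
    haveI : IsAffine (Ω : Scheme.{u}) := hΩ
    exact (MorphismProperty.arrow_mk_iso_iff @IsAffineHom
      (morphismRestrictRestrict f V Ω' ≪≫ morphismRestrictEq f himgΩ)).mpr inferInstance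
  haveI : IsAffineHom g := by
    refine IsZariskiLocalAtTarget.of_iSup_eq_top (P := @IsAffineHom) (fun b : Bool => cond b U' Ω')
      (by rw [iSup_bool_eq]; exact hcov) fun b => ?_
    cases b
    · exact hgΩ
    · exact inferInstanceAs (IsAffineHom (g ∣_ U'))
  haveI : IsProper g := inferInstance
  haveI : IsFinite g := (IsFinite.iff_isProper_and_isAffineHom).mpr ⟨inferInstance, inferInstance⟩
  haveI : Surjective g := IsZariskiLocalAtTarget.restrict ‹Surjective f› _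
  haveI : IsLocallyNoetherian (V : Scheme.{u}) := isLocallyNoetherian_of_isOpenImmersion V.ι
  haveI : CompactSpace (V : Scheme.{u}) :=
    isCompact_iff_compactSpace.mp (NoetherianSpace.isCompact (V : Set X))
  haveI : IsNoetherian (V : Scheme.{u}) := ⟨⟩
  let j := (f ⁻¹ᵁ V).ι
  haveI : IsLocallyNoetherian (f ⁻¹ᵁ V : X'.Opens).toScheme := isLocallyNoetherian_of_isOpenImmersion j
  haveI : CompactSpace (f ⁻¹ᵁ V : X'.Opens).toScheme :=
    isCompact_iff_compactSpace.mp (NoetherianSpace.isCompact ((f ⁻¹ᵁ V : X'.Opens) : Set X'))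
  haveI : IsNoetherian (f ⁻¹ᵁ V : X'.Opens).toScheme := ⟨⟩
  let P := (Scheme.Modules.pullback j).obj (CohB1.tensorPow L' (n + 1))
  have hP : CohB1.IsAmple P := by
    refine Groth.Ega2Proj.isAmple_pullback j ?_ ((Groth.Ega2Proj.isAmple_tensorPow_iff hL'.1 (n + 1) n.succ_pos).mp hL')
    exact j.isOpenEmbedding.isInducing
  let σ' : Γ(P, ⊤) := pullSec j _ σ
  have hσ' : gloc σ' = g ⁻¹ᵁ Ω' := by
    refine (gloc_pullSec j (isInvertible_tensorPow hL'.1 _) σ).trans ?_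
    rw [← hpreΩ]
    change (j ≫ f) ⁻¹ᵁ Ω = (g ≫ V.ι) ⁻¹ᵁ Ω
    rw [morphismRestrict_ι]
  obtain ⟨L, e, θ, hL, he, hθ⟩ := exists_descended_line g U' Ω' hcov hP.1 _ (gen_gloc σ' hσ'.ge)
  have hfam := isAmpleFamily_of_descended g U' hΩ'aff hcov hP hL e he θ σ' hσ' hθ
  have hamp : CohB1.IsAmple L := ⟨hL, hfam.1, fun v => (hfam.2.2.2 v).choose_spec⟩
  refine ⟨V, le_sup_left, ?_, fun y hy => ?_, inferInstanceAs (IsFinite g), L, n + 1, hamp, Nat.succ_pos n,
    ⟨θ ≪≫ ((Scheme.Modules.restrictFunctorIsoPullback j).app _).symm⟩⟩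
  · let C : Closeds (V : Scheme.{u}) := ⟨(U' : Set (V : Scheme.{u}))ᶜ, U'.isOpen.isClosed_compl⟩
    let 𝒥 := Scheme.IdealSheafData.vanishingIdeal C
    have hrange : Set.range 𝒥.subschemeι = (C : Set (V : Scheme.{u})) := by
      rw [Scheme.IdealSheafData.range_subschemeι]
      simp [𝒥]
    refine ⟨𝒥.subscheme, 𝒥.subschemeι, inferInstance, ?_, ?_⟩
    · have hsub : ⊤ ≤ 𝒥.subschemeι ⁻¹ᵁ Ω' := fun z _ => by
        have hz : 𝒥.subschemeι z ∈ (C : Set (V : Scheme.{u})) := hrange.subset ⟨z, rfl⟩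
        exact ((show 𝒥.subschemeι z ∈ U' ⊔ Ω' by rw [hcov]; trivial) : _ ∨ _).resolve_left hz
      have h1 := hΩ'aff.preimage 𝒥.subschemeι
      rw [top_le_iff.mp hsub] at h1
      haveI : IsAffine (⊤ : 𝒥.subscheme.Opens).toScheme := h1
      exact IsAffine.of_isIso 𝒥.subscheme.topIso.inv
    · ext y
      constructor
      · rintro ⟨z, rfl⟩
        exact ⟨(𝒥.subschemeι z).2, fun h => hrange.subset ⟨z, rfl⟩ h⟩
      · rintro ⟨hyV, hyU⟩
        obtain ⟨z, hz⟩ := hrange.ge (show (⟨y, hyV⟩ : (V : Scheme.{u})) ∈ (C : Set (V : Scheme.{u})) from hyU)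
        exact ⟨z, congrArg Subtype.val hz⟩
  · by_cases h : y ∈ U
    · exact Or.inl h
    · refine Or.inr fun ⟨a, ha, hay⟩ => ha (hEΛ a ?_)
      rw [hay]
      exact ⟨h, hy⟩


/-- The thick open over which an ample module descends. -/
theorem exists_thick_open_ampleFamily {X X' : Scheme.{u}} [IsNoetherian X] [IsNoetherian X']
    (f : X' ⟶ X) [IsProper f] [X'.IsSeparated] (L' : X'.Modules) (hL' : CohB1.IsAmple L')
    (U : X.Opens) (hU : IsIso (f ∣_ U))
    (hd : Dense (U : Set X)) (hd' : Dense ((f ⁻¹ᵁ U : X'.Opens) : Set X')) :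
    ∃ V : X.Opens, U ≤ V ∧
      (∃ (T : Scheme.{u}) (g : T ⟶ (V : Scheme.{u})), IsClosedImmersion g ∧ IsAffine T ∧
        Set.range (g ≫ V.ι).base = (V : Set X) \ (U : Set X)) ∧
      (∀ y : X, ringKrullDim (X.presheaf.stalk y) ≤ 1 → y ∈ V) ∧ IsFinite (f ∣_ V) ∧
      ∃ (ι : Type u) (L : ι → (V : Scheme.{u}).Modules) (n : ℕ), KSix.IsAmpleFamily L ∧ 1 ≤ n ∧
        ∀ i : ι, Nonempty ((Scheme.Modules.pullback (f ∣_ V)).obj (L i) ≅
          (CohB1.tensorPow L' n).restrict (f ⁻¹ᵁ V).ι) := by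
  obtain ⟨V, hUV, hT, hcod, hfin, L, n, hL, hn, hiso⟩ :=
    exists_thick_open_ample f L' hL' U hU hd hd'
  exact ⟨V, hUV, hT, hcod, hfin, PUnit.{u+1}, fun _ => L, n,
    ⟨hL.2.1, (by
        haveI : (V : Scheme.{u}).IsSeparated := isSeparated_of_cover hL.1 hL.2.2
        infer_instance),
      fun _ => hL.1, fun x => ⟨PUnit.unit, hL.2.2 x⟩⟩, hn, fun _ => hiso⟩

end Groth.ResPropLib
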