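import Groth.Agent.ResPropLib.AlmostAmpleGen
import Groth.Agent.ResPropLib.ChowAffine
import Groth.Agent.ResPropLib.ThickAmple
import Groth.Agent.QCohMod.ExtendFP
import Groth.Agent.QCohMod.PullbackQCoh
import Groth.Agent.PicAux.FibTrivClosed
import Groth.Agent.PropsBasic.LocFree

/-!
# Almost ample families
-/

set_option autoImplicit false
set_option backward.isDefEq.respectTransparency false
set_option backward.isDefEq.respectTransparency.types false

universe u

open CategoryTheory CategoryTheory.Limits AlgebraicGeometry Opposite TopologicalSpace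
open Groth.PicAux Groth.PropsBasic.Ample

namespace Groth.ResPropLib

variable {X : Scheme.{u}}

/-- Away from the support the inclusion `J · F ⟶ F` is an isomorphism. -/
theorem isIso_restrict_idealMulι (J : X.IdealSheafData) (F : X.Modules) [F.IsQuasicoherent] (V : X.Opens)
    (h : ∀ x ∈ V, x ∉ (J.support : Set X)) :
    IsIso ((Scheme.Modules.restrictFunctor V.ι).map (Dual3.idealMulι J F)) := by
  refine isIso_of_cover (U := fun _ : PUnit.{u+1} => ⊤) (iSup_const) _ fun _ W _ => ?_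
  change Function.Bijective ((Dual3.idealMulι J F).app (V.ι ''ᵁ W))
  refine ⟨Groth.QCohMod.app_injective_of_mono (Dual3.idealMulι J F) _, fun s => ?_⟩
  have hbas : ∀ x : (V.ι ''ᵁ W : X.Opens), ∃ A : X.Opens, ∃ _ : IsAffineOpen A,
      A ≤ V.ι ''ᵁ W ∧ (x : X) ∈ A := fun x => by
    obtain ⟨A, hA, hxA, hAW⟩ := exists_isAffineOpen_mem_and_subset (x := (x : X)) (U := V.ι ''ᵁ W) x.2
    exact ⟨A, hA, hAW, hxA⟩
  choose A hA hAW hxA using hbas
  have hsurj : ∀ x, ∃ a, (Dual3.idealMulι J F).app (A x) a = res F (hAW x) s := fun x => by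
    refine (Groth.CohTwo.mem_range_idealMulι_iff J F (hA x) _).2 ?_
    rw [ideal_eq_top_of_disjoint J (hA x) fun z hz => h z (Scheme.Opens.ι_image_le V W (hAW x hz)),
      Submodule.top_smul]
    trivial
  choose a ha using hsurj
  obtain ⟨t, ht, -⟩ := res_glue A hAW (fun x hx => Opens.mem_iSup.2 ⟨⟨x, hx⟩, hxA _⟩) a fun x x' =>
    Groth.QCohMod.app_injective_of_mono (Dual3.idealMulι J F) _ (by
      rw [app_res, app_res, ha, ha, Groth.PicAux.res_res, Groth.PicAux.res_res])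
  exact ⟨t, Groth.PicAux.res_ext A hAW (fun x hx => Opens.mem_iSup.2 ⟨⟨x, hx⟩, hxA _⟩) fun x => by
    rw [← app_res, ht, ha]⟩

/-- An affine open with all generic points is dense and exists around every point. -/
theorem exists_dense_affine_nhd [IsNoetherian X] (x : X) :
    ∃ U : X.Opens, IsAffineOpen U ∧ x ∈ U ∧ Dense (U : Set X) := by
  classical
  let G : Set X := {z | ∀ w : X, w ⤳ z → w = z}
  have hGf : G.Finite := by
    refine Set.Finite.of_finite_image (f := fun z => closure ({z} : Set X))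
      (NoetherianSpace.finite_irreducibleComponents.subset ?_) ?_
    · rintro _ ⟨z, hz, rfl⟩
      exact (Groth.PropsBasic2.closure_mem_irreducibleComponents_iff z).mpr hz
    · intro z _ w _ h
      exact (inseparable_iff_closure_eq.mpr h).eq
  obtain ⟨U0, hU0, hxU0, hU0G⟩ := Groth.Agent.S7386.result X
    (fun k => (hGf.toFinset.equivFin.symm k : X))
    (fun k => (Groth.PropsBasic2.closure_mem_irreducibleComponents_iff _).mpr
      (hGf.mem_toFinset.mp (hGf.toFinset.equivFin.symm k).2)) x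
  have hgen : ∀ z ∈ G, z ∈ U0 := fun z hz => by
    simpa using hU0G (hGf.toFinset.equivFin ⟨z, hGf.mem_toFinset.mpr hz⟩)
  refine ⟨U0, hU0, hxU0, fun z => ?_⟩
  obtain ⟨C, hC, hzC⟩ : ∃ C ∈ irreducibleComponents (X : Type u), z ∈ C :=
    ⟨irreducibleComponent z, irreducibleComponent_mem_irreducibleComponents z, mem_irreducibleComponent⟩
  have hg := IsIrreducible.isGenericPoint_genericPoint hC.1 (isClosed_of_mem_irreducibleComponents C hC)
  have hgG : IsIrreducible.genericPoint hC.1 ∈ G := (Groth.PropsBasic2.closure_mem_irreducibleComponents_iff _).mp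
    (show closure {IsIrreducible.genericPoint hC.1} ∈ irreducibleComponents (X : Type u) by
      rw [show closure {IsIrreducible.genericPoint hC.1} = C from hg]
      exact hC)
  exact closure_mono (Set.singleton_subset_iff.mpr (hgen _ hgG))
    (specializes_iff_mem_closure.mp (hg.specializes hzC))

/-- The data attached to one point. -/
theorem exists_almostAmple_member {A : Type u} [CommRing A] [IsNoetherianRing A]
    (p : X ⟶ Spec (CommRingCat.of A)) [IsSeparated p] [LocallyOfFiniteType p] [QuasiCompact p] (x : X) :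
    ∃ (V : X.Opens) (I : X.IdealSheafData) (F₀ : X.Modules) (L : (V : Scheme.{u}).Modules),
      x ∈ V ∧ (∀ y : X, ringKrullDim (X.presheaf.stalk y) ≤ 1 → y ∈ V) ∧
      (V : Set X) = (I.support : Set X)ᶜ ∧ Coh.IsCoh F₀ ∧ CohB1.IsAmple L ∧
      ClSub.IsInverseOf L (F₀.restrict V.ι) ∧
      ∃ (X' : Scheme.{u}) (f : X' ⟶ X) (W : X.Opens) (L' : X'.Modules), IsProper f ∧
        Dense (W : Set X) ∧ Dense ((f ⁻¹ᵁ W : X'.Opens) : Set X') ∧ IsIso (f ∣_ W) ∧ CohB1.IsAmple L' ∧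
        Nonempty ((Scheme.Modules.pullback (f ∣_ V)).obj L ≅ L'.restrict (f ⁻¹ᵁ V).ι) := by
  haveI : IsLocallyNoetherian X := LocallyOfFiniteType.isLocallyNoetherian p
  haveI : CompactSpace X := QuasiCompact.compactSpace_of_compactSpace p
  haveI : IsNoetherian X := ⟨⟩
  obtain ⟨U0, hU0, hxU0, hd⟩ := exists_dense_affine_nhd x
  obtain ⟨X', q, L₁, hq, hN', hsep, hiso, hd', hamp⟩ := exists_chow_affine p U0 hU0 hd
  obtain ⟨V, hUV, -, hcod, -, L, n, hL, hn, hLiso⟩ :=
    exists_thick_open_ample q L₁ hamp U0 hiso hd hd'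
  obtain ⟨N, hN, hLN⟩ := exists_isInverseOf hL.1
  let I := Scheme.IdealSheafData.vanishingIdeal ⟨(V : Set X)ᶜ, V.isOpen.isClosed_compl⟩
  haveI : IsLocallyNoetherian (V : Scheme.{u}) := isLocallyNoetherian_of_isOpenImmersion V.ι
  haveI := (Groth.QCohMod.isCoh_unit (X := X)).1
  obtain ⟨F₀, -, e, hF₀q, hF₀, -⟩ := Groth.QCohMod.exists_extension_fp (Coh.structureModule X)
    V (NoetherianSpace.isCompact _) N
    (Groth.PicAux.FibTrivClosed.isFP_of_isInvertible hN) 0
  obtain ⟨φ⟩ := hLN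
  refine ⟨V, I, F₀, L, hUV hxU0, hcod, ?_, ⟨hF₀q, Groth.PropsBasic.LocFree.isFT_of_isFP F₀ hF₀⟩, hL,
    ⟨PicGrp.tensorModIso (Iso.refl L) e ≪≫ φ⟩, X', q, U0, CohB1.tensorPow L₁ n, hq, hd, hd', hiso,
    (Groth.Ega2Proj.isAmple_tensorPow_iff hamp.1 n hn).mp hamp, hLiso⟩
  simp [I]

/-- **Existence of an almost ample family.** -/
theorem exists_almostAmpleFamily (A : Type u) [CommRing A] [IsNoetherianRing A]
    (X : Scheme.{u}) (p : X ⟶ Spec (CommRingCat.of A)) [IsSeparated p] [LocallyOfFiniteType p] [QuasiCompact p] :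
    ∃ (ι : Type u) (F : ι → X.Modules) (V : ι → X.Opens),
      (∀ i, Coh.IsCoh (F i) ∧ (∀ y : X, ringKrullDim (X.presheaf.stalk y) ≤ 1 → y ∈ V i) ∧
        PicF.IsInvertible ((F i).restrict (V i).ι)) ∧
      (⨆ i, V i) = ⊤ ∧
      (∀ i, ∃ (X' : Scheme.{u}) (f : X' ⟶ X) (W : X.Opens) (L' : X'.Modules), IsProper f ∧
        Dense (W : Set X) ∧ Dense ((f ⁻¹ᵁ W : X'.Opens) : Set X') ∧ IsIso (f ∣_ W) ∧ CohB1.IsAmple L' ∧
        Nonempty (CohB1.tensorMod (((Scheme.Modules.pullback f).obj (F i)).restrict (f ⁻¹ᵁ (V i)).ι)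
          (L'.restrict (f ⁻¹ᵁ (V i)).ι) ≅ Coh.structureModule (f ⁻¹ᵁ (V i) : Scheme.{u}))) ∧
      (∀ M : X.Modules, Coh.IsCoh M → ∃ (m : ℕ) (j : Fin m → ι) (n : Fin m → ℕ)
        (π : (∐ fun t : Fin m => CohB1.tensorPow (F (j t)) (n t + 1)) ⟶ M), Epi π) := by
  classical
  haveI : IsLocallyNoetherian X := LocallyOfFiniteType.isLocallyNoetherian p
  haveI : CompactSpace X := QuasiCompact.compactSpace_of_compactSpace p
  haveI : IsNoetherian X := ⟨⟩
  choose V I F₀ L hxV hcod hI hF₀ hL hLN hX' using exists_almostAmple_member p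
  let F : X × ℕ → X.Modules := fun i => (Dual3.idealMul (I i.1 ^ i.2)).obj (F₀ i.1)
  have hres : ∀ i : X × ℕ, Nonempty ((F i).restrict (V i.1).ι ≅ (F₀ i.1).restrict (V i.1).ι) := fun i => by
    haveI := (hF₀ i.1).1
    haveI := isIso_restrict_idealMulι (I i.1 ^ i.2) (F₀ i.1) (V i.1) fun z hz hs => by
      have hz' : z ∈ (V i.1 : Set X) := hz
      rw [hI i.1] at hz'
      rcases Nat.eq_zero_or_pos i.2 with h0 | h0
      · rw [h0, pow_zero, Scheme.IdealSheafData.one_eq_top, Scheme.IdealSheafData.support_top] at hs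
        exact hs
      · obtain ⟨c, hc⟩ := Nat.exists_eq_add_of_le h0
        rw [hc, Nat.add_comm, Scheme.IdealSheafData.support_pow_succ] at hs
        exact hz' hs
    exact ⟨asIso ((Scheme.Modules.restrictFunctor (V i.1).ι).map (Dual3.idealMulι (I i.1 ^ i.2) (F₀ i.1)))⟩
  refine ⟨X × ℕ, F, fun i => V i.1, fun i => ⟨?_, hcod i.1, ?_⟩, ?_, fun i => ?_, fun M hM => ?_⟩
  · haveI := (hF₀ i.1).1
    exact Groth.CohTwo.isCoh_idealMul _ _ (hF₀ i.1)
  · obtain ⟨e⟩ := hres i
    obtain ⟨φ⟩ := hLN i.1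
    exact isInvertible_of_iso (isInvertible_of_tensor_iso ((exists_braiding _ _).choose ≪≫ φ)) e.symm
  · exact top_le_iff.mp fun x _ => Opens.mem_iSup.mpr ⟨(x, 0), hxV x⟩
  · obtain ⟨X', f, W, L', hf, hW, hW', hiso, hamp, ⟨θ⟩⟩ := hX' i.1
    obtain ⟨e⟩ := hres i
    obtain ⟨φ⟩ := isInverseOf_pullback (f ∣_ V i.1) (hLN i.1)
    refine ⟨X', f, W, L', hf, hW, hW', hiso, hamp, ⟨?_⟩⟩
    exact PicGrp.tensorModIso (Groth.QCohMod.restrictPullbackIso f (F i) (V i.1) ≪≫
      (Scheme.Modules.pullback (f ∣_ V i.1)).mapIso e) θ.symm ≪≫ (exists_braiding _ _).choose ≪≫ φ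
  · have hloc := fun x : X =>
      exists_local_gens hM (hF₀ x) (V x) (I x) (hI x) (hL x) (hLN x) (hxV x)
    choose W S hxW hS hgen using hloc
    obtain ⟨T, hT⟩ := isCompact_univ.elim_finite_subcover (fun x => (W x : Set X))
      (fun x => (W x).isOpen) (fun x _ => Set.mem_iUnion.2 ⟨x, hxW x⟩)
    choose n k ψ a hψ using hgen
    let P := Σ x : T, {g // g ∈ S x.1}
    let eq := Fintype.equivFin P
    let idx : Fin (Fintype.card P) → P := eq.symm
    let j : Fin (Fintype.card P) → X × ℕ := fun t =>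
      ((idx t).1.1, k (idx t).1.1 (idx t).2.1 (idx t).2.2)
    let nn : Fin (Fintype.card P) → ℕ := fun t => n (idx t).1.1 (idx t).2.1 (idx t).2.2
    refine ⟨Fintype.card P, j, nn, Limits.Sigma.desc fun t => ψ (idx t).1.1 (idx t).2.1 (idx t).2.2,
      epi_sigma_of_locSpan _ _ fun y => ?_⟩
    obtain ⟨x, hxT, hy⟩ := Set.mem_iUnion₂.1 (hT (Set.mem_univ y))
    refine ⟨W x, S x, hy, hS x, fun g hg => ?_⟩
    obtain ⟨t, ht⟩ : ∃ t, idx t = (⟨⟨x, hxT⟩, ⟨g, hg⟩⟩ : P) := ⟨eq _, eq.symm_apply_apply _⟩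
    refine ⟨t, ?_⟩
    have key : ∀ q : P, q = (⟨⟨x, hxT⟩, ⟨g, hg⟩⟩ : P) →
        ∃ b, (ψ q.1.1 q.2.1 q.2.2).app (W x) b = g := by
      rintro _ rfl
      exact ⟨a x g hg, hψ x g hg⟩
    exact key _ ht

end Groth.ResPropLib
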