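import Groth.Agent.Chow.QcohExtend
import Groth.Agent.S9515
import Groth.Agent.RefRank.Divisor
import Groth.Agent.RefRank.BigOpen
import Groth.Agent.Ega2Proj.RelAmple
import Groth.Agent.PicAux.InverseInvertible
import Groth.Agent.Pi1Ample.FiniteAffine

/-!
# Generation by tensor powers of shrunk extensions
-/

set_option autoImplicit false
set_option backward.isDefEq.respectTransparency false
set_option backward.isDefEq.respectTransparency.types false

universe u

open CategoryTheory CategoryTheory.Limits AlgebraicGeometry Opposite TopologicalSpace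
open Groth.PicAux Groth.PropsBasic.Ample Groth.Chow

namespace Groth.ResPropLib

variable {X : Scheme.{u}}

/-- A finite family of maps hitting locally spanning sections gives an epimorphism from the sum. -/
theorem epi_sigma_of_locSpan {M : X.Modules} {ι : Type*} (P : ι → X.Modules) [HasCoproduct P]
    (ψ : ∀ i, P i ⟶ M)
    (h : ∀ x : X, ∃ (W : X.Opens) (S : Set Γ(M, W)), x ∈ W ∧ LocSpan M W S ∧
      ∀ s ∈ S, ∃ (i : ι) (a : Γ(P i, W)), (ψ i).app W a = s) : Epi (Limits.Sigma.desc ψ) := by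
  choose W S hxW hS hst using h
  refine ⟨fun {Z} (φ φ' : M ⟶ Z) he => ?_⟩
  have hi : ∀ i, ψ i ≫ φ = ψ i ≫ φ' := fun i =>
    ((Sigma.ι_desc_assoc ψ i φ).symm.trans (congrArg (Sigma.ι P i ≫ ·) he)).trans
      (Sigma.ι_desc_assoc ψ i φ')
  refine hom_ext_cover (U := W) (top_le_iff.1 fun x _ => Opens.mem_iSup.2 ⟨x, hxW x⟩) fun x₀ V hV y => ?_
  choose V' h h' hx' hmem using hS x₀ V hV y
  refine res_ext (fun x : V => V' x.1 x.2) (fun x => h x.1 x.2)
    (fun x hx => Opens.mem_iSup.2 ⟨⟨x, hx⟩, hx' x hx⟩) fun x => ?_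
  rw [← app_res, ← app_res]
  have := hmem x.1 x.2
  generalize res M (h x.1 x.2) y = y' at this ⊢
  induction this using Submodule.span_induction with
  | mem z hz =>
    obtain ⟨s, hs, rfl⟩ := hz
    obtain ⟨i, a, rfl⟩ := hst x₀ s hs
    rw [← app_res (ψ i) (h' x.1 x.2) a]
    have h2 := congr(($(hi i)).app (V' x.1 x.2) (res (P i) (h' x.1 x.2) a))
    simp only [Scheme.Modules.Hom.comp_app, ConcreteCategory.comp_apply] at h2
    exact h2
  | zero => rw [map_zero, map_zero]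
  | add a b _ _ ha hb => rw [map_add, map_add, ha, hb]
  | smul r a _ ha => rw [Scheme.Modules.Hom.app_smul, Scheme.Modules.Hom.app_smul, ha]

/-- A locally spanning set on a restriction is one on the scheme. -/
theorem locSpan_image {M : X.Modules} (V : X.Opens) {W : (V : Scheme.{u}).Opens}
    {S : Set Γ(M.restrict V.ι, W)} (hS : LocSpan (M.restrict V.ι) W S) :
    LocSpan M (V.ι ''ᵁ W) (S : Set Γ(M, V.ι ''ᵁ W)) := by
  intro V0 hV0 y x hx
  obtain ⟨w, hw, rfl⟩ := hV0 hx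
  have hle : V.ι ''ᵁ (V.ι ⁻¹ᵁ V0) ≤ V0 := V.ι.image_preimage_le V0
  have hWle : V.ι ⁻¹ᵁ V0 ≤ W := fun z hz => by
    obtain ⟨z', hz', e⟩ := hV0 hz
    exact (V.ι.isOpenEmbedding.injective e) ▸ hz'
  obtain ⟨V', h, h', hx', hm⟩ := hS (V.ι ⁻¹ᵁ V0) hWle (res M hle y) w hx
  refine ⟨V.ι ''ᵁ V', (V.ι.image_mono h).trans hle, V.ι.image_mono h', ⟨w, hx', rfl⟩, ?_⟩
  rw [← res_res (M := M) hle (V.ι.image_mono h) y]
  have key : ∀ z : Γ(M.restrict V.ι, V'),
      z ∈ Submodule.span Γ((V : Scheme.{u}), V') (res (M.restrict V.ι) h' '' S) →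
      (z : Γ(M, V.ι ''ᵁ V')) ∈ Submodule.span Γ(X, V.ι ''ᵁ V')
        (res M (V.ι.image_mono h') '' (S : Set Γ(M, V.ι ''ᵁ W))) := by
    intro z hz
    induction hz using Submodule.span_induction with
    | mem a ha =>
      obtain ⟨s, hs, rfl⟩ := ha
      exact Submodule.subset_span ⟨s, hs, rfl⟩
    | zero => exact zero_mem _
    | add a b _ _ ha hb => exact add_mem ha hb
    | smul r a _ ha =>
      have e := restrict_smul (M := M) V V' r a
      exact e ▸ Submodule.smul_mem _ _ ha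
  exact key _ hm

/-- A generator of a restriction is one on the scheme. -/
theorem gen_image {M : X.Modules} (V : X.Opens) {W : (V : Scheme.{u}).Opens} {e : Γ(M.restrict V.ι, W)}
    (he : Gen (M.restrict V.ι) W e) : Gen M (V.ι ''ᵁ W) (e : Γ(M, V.ι ''ᵁ W)) := by
  intro V0 hV0
  obtain ⟨W', rfl⟩ : ∃ W' : (V : Scheme.{u}).Opens, V.ι ''ᵁ W' = V0 :=
    ⟨V.ι ⁻¹ᵁ V0, by
      rw [Scheme.Hom.image_preimage_eq_opensRange_inf, Scheme.Opens.opensRange_ι]
      exact inf_eq_right.mpr (hV0.trans (Scheme.Opens.ι_image_le V W))⟩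
  have hle : W' ≤ W := fun z hz => by
    obtain ⟨z', hz', e⟩ := hV0 ⟨z, hz, rfl⟩
    exact (V.ι.isOpenEmbedding.injective e) ▸ hz'
  have e2 : (fun r : Γ(X, V.ι ''ᵁ W') => r • res M hV0 (e : Γ(M, V.ι ''ᵁ W))) =
      fun r : Γ((V : Scheme.{u}), W') =>
        (HSMul.hSMul (α := Γ((V : Scheme.{u}), W')) (β := Γ(M.restrict V.ι, W')) r
          (res (M.restrict V.ι) hle e)) :=
    funext fun r => (restrict_smul V W' r _).symm
  exact (congrArg Function.Bijective e2).mpr (he W' hle)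

/-- An ideal whose support misses an affine open is trivial there. -/
theorem ideal_eq_top_of_disjoint (J : X.IdealSheafData) {W : X.Opens} (hW : IsAffineOpen W)
    (h : ∀ x ∈ W, x ∉ (J.support : Set X)) : J.ideal ⟨W, hW⟩ = ⊤ := by
  by_contra hne
  obtain ⟨P, hP, hle⟩ := Ideal.exists_le_maximal _ hne
  let p : PrimeSpectrum Γ(X, W) := ⟨P, hP.isPrime⟩
  have hpW : hW.fromSpec p ∈ W := by
    show hW.fromSpec p ∈ (W : Set X)
    rw [← hW.range_fromSpec]
    exact Set.mem_range_self p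
  refine h _ hpW ((Scheme.IdealSheafData.mem_support_iff_of_mem (U := ⟨W, hW⟩) hpW).2 ?_)
  rw [Scheme.mem_zeroLocus_iff]
  intro f hf hmem
  have hp : p ∈ hW.fromSpec ⁻¹ᵁ X.basicOpen f := hmem
  rw [hW.fromSpec_preimage_basicOpen] at hp
  exact hp (hle hf)

/-- Tensor powers of `J · F` map to `J · F^{⊗ n}` compatibly with powers of sections. -/
theorem exists_pow_factor [IsLocallyNoetherian X] {F : X.Modules} (hF : Coh.IsCoh F)
    (J : X.IdealSheafData) (n : ℕ) :
    ∃ ρ : CohB1.tensorPow ((Dual3.idealMul J).obj F) (n + 1) ⟶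
        (Dual3.idealMul J).obj (CohB1.tensorPow F (n + 1)),
      ∀ (W : X.Opens) (a : Γ((Dual3.idealMul J).obj F, W)),
        (Dual3.idealMulι J _).app W (ρ.app W (powSec a (n + 1))) =
          powSec ((Dual3.idealMulι J F).app W a) (n + 1) := by
  haveI := hF.1
  let ι := Dual3.idealMulι J F
  let FJ := (Dual3.idealMul J).obj F
  have hpow : ∀ m, ∃ τ : CohB1.tensorPow FJ m ⟶ CohB1.tensorPow F m,
      ∀ (W : X.Opens) (a : Γ(FJ, W)), τ.app W (powSec a m) = powSec (ι.app W a) m := by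
    intro m
    induction m with
    | zero => exact ⟨𝟙 _, fun W a => rfl⟩
    | succ m ih =>
      obtain ⟨τ, hτ⟩ := ih
      refine ⟨KoszTw.tensorMap τ ι, fun W a => ?_⟩
      change (KoszTw.tensorMap τ ι).app W (tmulSec (powSec a m) a) = tmulSec _ _
      rw [tensorMap_app_tmulSec, hτ]
  have hcoh : ∀ m, Coh.IsCoh (CohB1.tensorPow F m) := fun m => by
    induction m with
    | zero => exact Groth.QCohMod.isCoh_unit
    | succ m ih => exact Groth.RefRank.isCoh_tensorMod ih hF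
  obtain ⟨τ, hτ⟩ := hpow n
  haveI : (CohB1.tensorPow F n).IsQuasicoherent := (hcoh n).1
  let G := CohB1.tensorPow F (n + 1)
  haveI : G.IsQuasicoherent := (hcoh (n + 1)).1
  let u := (Scheme.Modules.pullbackPushforwardAdjunction J.subschemeι).unit.app G
  let α : CohB1.tensorPow FJ (n + 1) ⟶ G := KoszTw.tensorMap τ ι
  have h0 : α ≫ u = 0 := by
    refine tensor_hom_ext fun W a b => ?_
    change u.app W ((KoszTw.tensorMap τ ι).app W (tmulSec a b)) = 0
    rw [tensorMap_app_tmulSec]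
    generalize τ.app W a = a'
    have hbas : ∀ x : W, ∃ A : X.Opens, ∃ _ : IsAffineOpen A, A ≤ W ∧ (x : X) ∈ A := fun x => by
      obtain ⟨A, hA, hxA, hAW⟩ := exists_isAffineOpen_mem_and_subset (x := (x : X)) (U := W) x.2
      exact ⟨A, hA, hAW, hxA⟩
    choose A hA hAW hxA using hbas
    refine Groth.PicAux.res_ext A hAW (fun x hx => Opens.mem_iSup.2 ⟨⟨x, hx⟩, hxA _⟩) fun x => ?_
    rw [← app_res, res_zero]
    change u.app (A x) (res (CohB1.tensorMod (CohB1.tensorPow F n) F) (hAW x) (tmulSec a' (ι.app W b))) = 0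
    rw [res_tmulSec]
    have hb : ι.app (A x) (res FJ (hAW x) b) ∈
        J.ideal ⟨A x, hA x⟩ • (⊤ : Submodule Γ(X, A x) Γ(F, A x)) :=
      (Groth.CohTwo.mem_range_idealMulι_iff J F (hA x) _).1 ⟨_, rfl⟩
    rw [app_res] at hb
    refine (Groth.CohTwo.unit_app_eq_zero_iff J G (hA x) _).2 ?_
    generalize res F (hAW x) (ι.app W b) = z at hb
    refine Submodule.smul_induction_on hb (fun r hr m _ => ?_) (fun p q hp hq => ?_)
    · rw [tmulSec_smul_right]
      exact Submodule.smul_mem_smul hr trivial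
    · rw [tmulSec_add_right]
      exact add_mem hp hq
  refine ⟨kernel.lift _ α h0, fun W a => ?_⟩
  have h1 : kernel.lift _ α h0 ≫ Dual3.idealMulι J G = α := kernel.lift_ι _ _ _
  have h2 := congr(($h1).app W (powSec a (n + 1)))
  refine h2.trans ?_
  change (KoszTw.tensorMap τ ι).app W (tmulSec (powSec a n) a) = tmulSec _ _
  rw [tensorMap_app_tmulSec, hτ]

/-- Local generators of a coherent module in the image of tensor powers of the shrunk extensions. -/
theorem exists_local_gens [IsNoetherian X] {M F₀ : X.Modules} (hM : Coh.IsCoh M) (hF₀ : Coh.IsCoh F₀)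
    (V : X.Opens) (I : X.IdealSheafData) (hI : (V : Set X) = (I.support : Set X)ᶜ)
    {L : (V : Scheme.{u}).Modules} (hL : CohB1.IsAmple L)
    (hLN : ClSub.IsInverseOf L (F₀.restrict V.ι)) {y : X} (hy : y ∈ V) :
    ∃ (W : X.Opens) (S : Finset Γ(M, W)), y ∈ W ∧ LocSpan M W (S : Set Γ(M, W)) ∧
      ∀ g ∈ S, ∃ (n k : ℕ) (ψ : CohB1.tensorPow ((Dual3.idealMul (I ^ k)).obj F₀) (n + 1) ⟶ M)
        (a : Γ(CohB1.tensorPow ((Dual3.idealMul (I ^ k)).obj F₀) (n + 1), W)), ψ.app W a = g := by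
  classical
  haveI := hM.1
  haveI : CompactSpace (V : Scheme.{u}) := hL.2.1
  haveI : (V : Scheme.{u}).IsSeparated := isSeparated_of_cover hL.1 hL.2.2
  let N := F₀.restrict V.ι
  have hN : PicF.IsInvertible N := by
    obtain ⟨φ⟩ := hLN
    exact isInvertible_of_tensor_iso ((exists_braiding N L).choose ≪≫ φ)
  obtain ⟨B, e₀, hyB, he₀⟩ := (isInvertible_iff_exists_gen N).1 hN ⟨y, hy⟩
  obtain ⟨n0, t, hyt, htB, htaff⟩ := exists_affine_gloc_nhd hL hyB
  set W1 := gloc t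
  let e : Γ(N, W1) := res N htB e₀
  have he : Gen N W1 e := he₀.res htB
  let MV := M.restrict V.ι
  have hMV : Coh.IsCoh MV := Groth.RefRank.isCoh_restrict hM V
  haveI := hMV.1
  obtain ⟨S1, hS1⟩ := exists_locSpan MV hMV.2 htaff
  choose k₀ hk₀ using fun g : Γ(MV, W1) =>
    exists_extend_qcoh MV (isInvertible_tensorPow hL.1 (n0 + 1)) t g
  let k := S1.sup k₀ + 1
  have hm : ∃ n, n + 1 = (n0 + 1) * k :=
    ⟨(n0 + 1) * k - 1, Nat.sub_add_cancel (Nat.mul_pos n0.succ_pos (Nat.succ_pos _))⟩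
  obtain ⟨n, hn⟩ := hm
  let P := CohB1.tensorPow (CohB1.tensorPow L (n0 + 1)) k
  let Q := CohB1.tensorPow N (n + 1)
  obtain ⟨ρPQ⟩ : Nonempty (CohB1.tensorMod P Q ≅ Coh.structureModule (V : Scheme.{u})) :=
    ⟨PicGrp.tensorModIso ((tensorPow_mul L (n0 + 1) k).some.symm ≪≫ eqToIso (by rw [hn])) (Iso.refl Q) ≪≫
      (isInverseOf_tensorPow hLN (n + 1)).some⟩
  let Θ : CohB1.tensorMod (CohB1.tensorMod MV P) Q ≅ MV :=
    (exists_associator MV P Q).choose ≪≫ PicGrp.tensorModIso (Iso.refl MV) ρPQ ≪≫ SecTwist.unitorR MV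
  let u : Γ(Q, W1) := powSec e (n + 1)
  have h1 := ((hS1.tensor ((gen_gloc t le_rfl).pow k)).tensor (he.pow (n + 1))).map Θ
  let σ : Γ(MV, W1) → Γ(MV, W1) := fun g =>
    Θ.hom.app W1 (tmulSec (tmulSec g (powSec (res _ (le_top : W1 ≤ ⊤) t) k)) u)
  let W : X.Opens := V.ι ''ᵁ W1
  refine ⟨W, ((S1.image σ : Finset Γ(MV, W1)) : Finset Γ(M, W)), ⟨⟨y, hy⟩, hyt, rfl⟩, ?_, ?_⟩
  · refine locSpan_image V (S := ((S1.image σ : Finset Γ(MV, W1)) : Set Γ(MV, W1))) ?_
    convert h1 using 1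
    rw [Finset.coe_image, ← Set.image_comp, ← Set.image_comp]
    rfl
  intro g' hg'
  obtain ⟨g, hg, rfl⟩ := Finset.mem_image.1 (hg' : g' ∈ S1.image σ)
  obtain ⟨b, hb⟩ := hk₀ g k ((Finset.le_sup hg).trans (Nat.le_succ _))
  obtain ⟨ξ, hξ⟩ := exists_leftUnitor (X := (V : Scheme.{u})) Q
  let χ : Q ⟶ MV := ξ.inv ≫ KoszTw.tensorMap (homOfSection b) (𝟙 Q) ≫ Θ.hom
  have hχ : χ.app W1 u = σ g := by
    have hξu : ξ.inv.app W1 u = tmulSec (oneSec (V : Scheme.{u}) W1) u := by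
      have h2 : ξ.hom.app W1 (tmulSec (oneSec (V : Scheme.{u}) W1) u) = u := by
        rw [hξ, toFun_oneSec, one_smul]
      conv_lhs => rw [← h2]
      exact congr(($(ξ.hom_inv_id)).app W1 _)
    change Θ.hom.app W1 ((KoszTw.tensorMap (homOfSection b) (𝟙 Q)).app W1 (ξ.inv.app W1 u)) = _
    rw [hξu, tensorMap_app_tmulSec]
    have hb1 : (homOfSection b).app W1 (oneSec _ W1) = res _ (le_top : W1 ≤ ⊤) b := by
      rw [← res_oneSec (le_top : W1 ≤ ⊤), app_res, homOfSection_one]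
    rw [hb1, hb]
    rfl
  obtain ⟨r0⟩ : Nonempty ((CohB1.tensorPow F₀ (n + 1)).restrict V.ι ≅ Q) :=
    Groth.Ega2Proj.exists_tensorPow_restrict V.ι (n + 1)
  obtain ⟨K, ψ₀, hψ₀⟩ := Groth.Agent.S9515.result X M (CohB1.tensorPow F₀ (n + 1)) hM.1
    (by
      clear * - hF₀
      generalize n + 1 = m
      induction m with
      | zero => exact Groth.QCohMod.isCoh_unit
      | succ m ih => exact Groth.RefRank.isCoh_tensorMod ih hF₀) I V hI (r0.hom ≫ χ)
  haveI := hF₀.1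
  obtain ⟨ρ, hρ⟩ := exists_pow_factor hF₀ (I ^ K) n
  have hWaff : IsAffineOpen W := htaff.image_of_isOpenImmersion V.ι
  have hgenW : Gen F₀ W (e : Γ(F₀, W)) := gen_image V he
  obtain ⟨e', he'⟩ : ∃ e' : Γ((Dual3.idealMul (I ^ K)).obj F₀, W),
      (Dual3.idealMulι (I ^ K) F₀).app W e' = (e : Γ(F₀, W)) := by
    refine (Groth.CohTwo.mem_range_idealMulι_iff (I ^ K) F₀ hWaff _).2 ?_
    rw [Scheme.IdealSheafData.ideal_pow, Pi.pow_apply, ideal_eq_top_of_disjoint I hWaff fun x hx => ?_,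
      Ideal.top_pow, Submodule.top_smul]
    · trivial
    · have hxV : x ∈ (V : Set X) := Scheme.Opens.ι_image_le V W1 hx
      rw [hI] at hxV
      exact hxV
  let u' : Γ(CohB1.tensorPow F₀ (n + 1), W) := r0.inv.app W1 u
  obtain ⟨r, hr⟩ := (hgenW.pow (n + 1)).exists_coeff le_rfl u'
  rw [Groth.PicAux.res_self] at hr
  refine ⟨n, K, ρ ≫ ψ₀, r • powSec e' (n + 1), ?_⟩
  change ψ₀.app W (ρ.app W (r • powSec e' (n + 1))) = _
  have h3 : (Dual3.idealMulι (I ^ K) _).app W (ρ.app W (r • powSec e' (n + 1))) = u' := by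
    rw [Scheme.Modules.Hom.app_smul, Scheme.Modules.Hom.app_smul, hρ, he', ← hr]
  have h4 := congr(($hψ₀).app W1 (ρ.app W (r • powSec e' (n + 1))))
  refine h4.trans ?_
  change χ.app W1 (r0.hom.app W1 ((Dual3.idealMulι (I ^ K) _).app W (ρ.app W (r • powSec e' (n + 1))))) = _
  rw [h3]
  change χ.app W1 (r0.hom.app W1 (r0.inv.app W1 u)) = _
  rw [show r0.hom.app W1 (r0.inv.app W1 u) = u from congr(($(r0.inv_hom_id)).app W1 u)]
  exact hχ

end Groth.ResPropLib
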