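import Groth.Agent.ResPropLib.PushShift

/-!
# Vanishing of the top cohomology of a direct image from vanishing upstairs

The converse of `subsingleton_of_push`: the higher direct images need only be small one degree lower.
-/

set_option autoImplicit false
set_option backward.isDefEq.respectTransparency false

universe u

open CategoryTheory CategoryTheory.Limits AlgebraicGeometry TopologicalSpace Opposite
open CategoryTheory.Abelian (Ext)

namespace Groth.ResPropLib

open Groth.CohBase

variable {X Y : Scheme.{u}} (f : Y ⟶ X)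

/-- Surjectivity on global sections lifts maps from the constant sheaf into a direct image. -/
lemma lifts_of_surjective {A B : AbSheaf Y.toTopCat} (g : A ⟶ B)
    (h : Function.Surjective (g.hom.app (op (⊤ : Opens Y.toTopCat))))
    (t : freeOpen (⊤ : Opens X.toTopCat) ⟶ (pushSheaf f.base).obj B) :
    ∃ w, w ≫ (pushSheaf f.base).map g = t := by
  obtain ⟨a, ha⟩ := h (homFreeOpen (⊤ : Opens X.toTopCat) ((pushSheaf f.base).obj B) t)
  refine ⟨(homFreeOpen (⊤ : Opens X.toTopCat) ((pushSheaf f.base).obj A)).symm a,
    (homFreeOpen (⊤ : Opens X.toTopCat) ((pushSheaf f.base).obj B)).injective ?_⟩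
  rw [homFreeOpen_comp, AddEquiv.apply_symm_apply]
  exact ha

/-- The first step: sections of the image lift when `H^1` vanishes upstairs. -/
lemma lifts_image_of_vanish {S : ShortComplex (AbSheaf Y.toTopCat)}
    (hsurj : Function.Surjective (S.g.hom.app (op (⊤ : Opens Y.toTopCat))))
    (t : ↑((Abelian.image ((pushSheaf f.base).map S.g)).obj.obj (op (⊤ : Opens X.toTopCat)))) :
    ∃ s, (Abelian.factorThruImage ((pushSheaf f.base).map S.g)).hom.app (op ⊤) s = t := by
  obtain ⟨w, hw⟩ := lifts_of_surjective f S.g hsurj
    ((homFreeOpen (⊤ : Opens X.toTopCat) (Abelian.image ((pushSheaf f.base).map S.g))).symm t ≫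
      Abelian.image.ι ((pushSheaf f.base).map S.g))
  have hw' : w ≫ Abelian.factorThruImage ((pushSheaf f.base).map S.g) =
      (homFreeOpen (⊤ : Opens X.toTopCat) (Abelian.image ((pushSheaf f.base).map S.g))).symm t := by
    rw [← cancel_mono (Abelian.image.ι ((pushSheaf f.base).map S.g)), Category.assoc, Abelian.image.fac]
    exact hw
  refine ⟨homFreeOpen (⊤ : Opens X.toTopCat) ((pushSheaf f.base).obj S.X₂) w, ?_⟩
  have h1 := congrArg (homFreeOpen (⊤ : Opens X.toTopCat) (Abelian.image ((pushSheaf f.base).map S.g))) hw'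
  rw [homFreeOpen_comp, AddEquiv.apply_symm_apply] at h1
  exact h1

/-- `H^d` of a sheaf and very small higher direct images give vanishing of `H^d` downstairs. -/
theorem subsingleton_push_of_small : ∀ (d : ℕ) (F : AbSheaf Y.toTopCat) (Z : ℕ → Set X)
    (_ : ∀ q, ∀ x ∉ Z q, Subsingleton ↑(TopCat.Presheaf.stalk (C := AddCommGrpCat.{u})
      (X := X.toTopCat) (((pushSheaf f.base).rightDerived (q + 1)).obj F).obj x))
    (_ : ∀ q p, q + 2 + p = d → SmallAb (Z q) p)
    (_ : Subsingleton (Sheaf.H F d)),
    Subsingleton (Sheaf.H ((pushSheaf f.base).obj F) d) := by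
  intro d
  induction d with
  | zero =>
    intro F _ _ _ h
    rw [← hVanish_top_iff] at h ⊢
    haveI : Subsingleton (Ext (freeOpen (⊤ : Opens Y.toTopCat)) F 0) := h
    exact (Ext.addEquiv₀.trans (homFreeOpen (⊤ : Opens X.toTopCat) ((pushSheaf f.base).obj F))).trans
      (Ext.addEquiv₀.trans (homFreeOpen (⊤ : Opens Y.toTopCat) F)).symm
        |>.toEquiv.subsingleton
  | succ d ih =>
    intro F Z hst hsm h
    have hS := injPres_shortExact F
    let S := injPres F
    let φ := (pushSheaf f.base).map S.g
    haveI : Mono S.f := hS.mono_f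
    haveI : Injective ((pushSheaf f.base).obj S.X₂) := injective_pushSheaf_obj (f := f.base) _
    obtain ⟨e₁⟩ := Groth.CohFin.nonempty_rightDerived_one_iso_of_injective
      (F := pushSheaf f.base) hS
    have hA : (ShortComplex.mk ((pushSheaf f.base).map S.f) (Abelian.factorThruImage φ) (by
        rw [← cancel_mono (Abelian.image.ι φ), Category.assoc, Abelian.image.fac, ← Functor.map_comp,
          S.zero, Functor.map_zero, zero_comp])).ShortExact :=
      { exact := by
          have hex : (S.map (pushSheaf f.base)).Exact :=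
            (((Functor.preservesFiniteLimits_tfae (pushSheaf f.base)).out 3 1 rfl rfl).mp
              inferInstance S ⟨hS.exact, hS.mono_f⟩).1
          let ψ : ShortComplex.mk ((pushSheaf f.base).map S.f) (Abelian.factorThruImage φ) (by
              rw [← cancel_mono (Abelian.image.ι φ), Category.assoc, Abelian.image.fac,
                ← Functor.map_comp, S.zero, Functor.map_zero, zero_comp]) ⟶
              S.map (pushSheaf f.base) :=
            { τ₁ := 𝟙 _, τ₂ := 𝟙 _, τ₃ := Abelian.image.ι φ }
          haveI : Epi ψ.τ₁ := inferInstanceAs (Epi (𝟙 _))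
          haveI : IsIso ψ.τ₂ := inferInstanceAs (IsIso (𝟙 _))
          haveI : Mono ψ.τ₃ := inferInstanceAs (Mono (Abelian.image.ι φ))
          exact (ShortComplex.exact_iff_of_epi_of_isIso_of_mono ψ).mpr hex }
    have hB : (ShortComplex.mk (Abelian.image.ι φ) (cokernel.π φ) (kernel.condition _)).ShortExact :=
      { exact := ShortComplex.exact_of_f_is_kernel _ (kernelIsKernel _) }
    rw [← hVanish_top_iff] at h ⊢
    rcases d with _ | d
    · refine subsingleton_of_forall_eq 0 fun x => ?_
      obtain ⟨t, rfl⟩ := deltaSec_surjective hA ⊤ x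
      exact (mem_ker_deltaSec hA ⊤ t).2 (lifts_image_of_vanish f (sections_surjective hS h) t)
    · have hY : Subsingleton (Sheaf.H S.X₃ (d + 1)) := by
        rw [← hVanish_top_iff]
        refine subsingleton_of_forall_eq 0 fun x => ?_
        obtain ⟨y, hy⟩ := Ext.covariant_sequence_exact₃ (freeOpen ⊤) hS x rfl (h.elim _ _)
        rw [← hy, Ext.eq_zero_of_injective y, Ext.zero_comp]
      have hX₃ : HVanish ((pushSheaf f.base).obj S.X₃) (d + 1) ⊤ :=
        (hVanish_top_iff _ _).2 (ih S.X₃ (fun q => Z (q + 1)) (fun q x hx => stalk_sub_of_iso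
          (rightDerivedShift hS (pushSheaf f.base) q) x (hst (q + 1) x hx))
          (fun q p hqp => hsm (q + 1) p (by omega)) hY)
      have hC : HVanish (cokernel φ) d ⊤ := (hVanish_top_iff _ _).2 <|
        hsm 0 d (by omega) _ fun x hx => stalk_sub_of_iso e₁ x (hst 0 x hx)
      have hIm : HVanish (Abelian.image φ) (d + 1) ⊤ := by
        refine subsingleton_of_forall_eq 0 fun x => ?_
        obtain ⟨y, hy⟩ := Ext.covariant_sequence_exact₁ (freeOpen ⊤) hB x (hX₃.elim _ _) rfl
        rw [← hy, @Subsingleton.elim _ hC y 0, Ext.zero_comp]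
      exact hVanish_succ hA hIm

end Groth.ResPropLib
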