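import Groth.Agent.ResPropLib.TopDegree
import Groth.Agent.Limits.FibreVanishing
import Groth.Agent.CohC3.HMap
import Groth.Agent.CohTwo.SheafHomIso
import Groth.Agent.VBCurves.TensorDual
import Groth.Agent.PicAux.PullTensor
import Groth.Agent.PicAux.PicLaw
import Groth.Agent.RefRank.Divisor
import Groth.Agent.FlatStrata.Twist
import Groth.Agent.ResPropLib.StalkTools

/-!
# Right exactness of the top higher direct image at a point
-/

set_option autoImplicit false
set_option backward.isDefEq.respectTransparency false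

universe u

open CategoryTheory CategoryTheory.Limits AlgebraicGeometry TopologicalSpace Opposite
open CategoryTheory.Abelian (Ext)
open Groth.QCohMod
open Groth.CohTwo.SheafHomIso (tF)

namespace Groth.ResPropLib

variable {X : Scheme.{u}}

/-- Coherent modules on affine schemes are quotients of finite free modules. -/
theorem exists_epi_finiteFree [IsAffine X] (M : X.Modules) (hM : Coh.IsCoh M) :
    ∃ (ι : Type u) (_ : Finite ι) (p : (∐ fun _ : ι => Coh.structureModule X) ⟶ M), Epi p := by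
  classical
  haveI := hM.1
  haveI := finite_sections M hM.2 (isAffineOpen_top X)
  obtain ⟨S, hS⟩ := Module.Finite.fg_top (R := Γ(X, ⊤)) (M := Γ(M, (⊤ : X.Opens)))
  refine ⟨(S : Set Γ(M, (⊤ : X.Opens))), inferInstance, freeHom M Subtype.val,
    epi_freeHom M _ fun x => eq_top_iff.2 fun t _ => ?_⟩
  obtain ⟨a, s, ha, hs⟩ := exists_smul_germ_eq M (isAffineOpen_top X) x (Set.mem_univ x) t
  have hu := (Scheme.mem_basicOpen X a x (Set.mem_univ x)).mp ha
  rw [← Submodule.smul_mem_iff_of_isUnit _ hu, hs]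
  have hmem : s ∈ Submodule.span Γ(X, ⊤) (S : Set Γ(M, (⊤ : X.Opens))) := by rw [hS]; trivial
  clear hs
  induction hmem using Submodule.span_induction with
  | mem z hz => exact Submodule.subset_span ⟨⟨z, hz⟩, rfl⟩
  | zero => rw [map_zero]; exact zero_mem _
  | add p q _ _ hp hq => rw [map_add]; exact add_mem hp hq
  | smul c p _ hp => rw [germ_smul]; exact Submodule.smul_mem _ _ hp

/-- Vanishing for a finite coproduct. -/
theorem sub_of_sigma {ι : Type u} [Finite ι] (M : ι → X.Modules) {p : ℕ}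
    (h : ∀ i, Subsingleton (Coh.HH X (M i) p)) : Subsingleton (Coh.HH X (∐ M) p) := by
  haveI := Fintype.ofFinite ι
  refine sub_of_iso (biproduct.isoCoproduct M) ?_
  haveI : (Groth.CohBase.toAbF X).Additive := inferInstance
  let c := (Groth.CohBase.toAbF X).mapBicone (biproduct.bicone M)
  have hc : c.IsBilimit := isBilimitOfTotal c (by
    show ∑ i, (Groth.CohBase.toAbF X).map (biproduct.π M i) ≫ (Groth.CohBase.toAbF X).map (biproduct.ι M i) = _
    simp only [← Functor.map_comp]
    rw [← Functor.map_sum]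
    refine (congrArg (Groth.CohBase.toAbF X).map ?_).trans ((Groth.CohBase.toAbF X).map_id _)
    convert (IsBilimit.total (biproduct.isBilimit M)))
  exact @Equiv.subsingleton _ _ (Ext.addEquivBiproduct (Groth.CohBase.constZ X.toTopCat) hc p).toEquiv
    (@Pi.instSubsingleton ι _ h)

/-- Top degree cohomology at a fibre passes to quotients. -/
theorem exists_smul_eq_zero_of_epi {R : Type u} [CommRing R] [IsNoetherianRing R] {Z : Scheme.{u}}
    [Z.Over (Spec (CommRingCat.of R))] [IsProper (Z ↘ Spec (CommRingCat.of R))]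
    (P : Spec (CommRingCat.of R)) (q : ℕ)
    (hd : topologicalKrullDim ↥((Z ↘ Spec (CommRingCat.of R)).fiber P) ≤ q)
    {N Q : Z.Modules} (p : N ⟶ Q) [Epi p] (hN : Coh.IsCoh N) (hQ : Coh.IsCoh Q)
    (h0 : Subsingleton (Coh.HH Z N q)) (ξ : Coh.HH Z Q q) :
    ∃ s ∈ P.asIdeal.primeCompl, (s : R) • ξ = 0 := by
  haveI := CohC3.isNoetherian_of_proper R Z
  haveI := hN.1
  haveI := hQ.1
  let S : ShortComplex Z.Modules := ShortComplex.mk (kernel.ι p) p (kernel.condition p)
  have hS : S.ShortExact := { exact := ShortComplex.exact_of_f_is_kernel _ (kernelIsKernel p) }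
  obtain ⟨s, hs, hsδ⟩ := Groth.Limits.FibreVanishing.exists_smul_eq_zero P q hd (kernel p)
    (isCoh_kernel p hN) (q + 1) (Nat.lt_succ_self q) (CohC3.hdelta hS q ξ)
  refine ⟨s, hs, ?_⟩
  have hlin : CohC3.hdelta hS q ((s : R) • ξ) = (s : R) • CohC3.hdelta hS q ξ := by
    let φ : S ⟶ S :=
      { τ₁ := Formal.smulMod R S.X₁ s
        τ₂ := Formal.smulMod R S.X₂ s
        τ₃ := Formal.smulMod R S.X₃ s
        comm₁₂ := (CohC3.smulMod_naturality S.f s).symm
        comm₂₃ := (CohC3.smulMod_naturality S.g s).symm }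
    exact (CohC3.hdelta_naturality (A := R) hS hS φ ξ).symm
  obtain ⟨y, hy⟩ := CohC3.exists_of_hdelta_eq_zero (A := R) hS ((s : R) • ξ) (hlin.trans hsδ)
  rw [← hy, @Subsingleton.elim _ h0 y 0, map_zero]

variable {Y : Scheme.{u}} (f : Y ⟶ X)

/-- The top higher direct image of `f^*E ⊗ M` vanishes at a point where that of `M` does nearby. -/
theorem isZero_stalk_top [IsProper f] [IsLocallyNoetherian X] (x : X) (q : ℕ)
    (hd : topologicalKrullDim ↥(f.fiber x) ≤ q) (E : X.Modules) (hE : Coh.IsCoh E) (M : Y.Modules)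
    (hM : Coh.IsCoh M) {W : X.Opens} (hW : IsAffineOpen W) (hxW : x ∈ W)
    (h0 : Subsingleton (Coh.HH (f ⁻¹ᵁ W : Y.Opens).toScheme (M.restrict (f ⁻¹ᵁ W).ι) q)) :
    IsZero (TopCat.Presheaf.stalk ((Coh.RpushAb f q).obj
      (Coh.toAb (CohB1.tensorMod M ((Scheme.Modules.pullback f).obj E)))).obj x) := by
  haveI : IsLocallyNoetherian Y := LocallyOfFiniteType.isLocallyNoetherian f
  have hQ : Coh.IsCoh (CohB1.tensorMod M ((Scheme.Modules.pullback f).obj E)) :=
    Groth.RefRank.isCoh_tensorMod hM (Groth.FlatStrata.isCoh_pullback f hE)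
  haveI := hQ.1
  refine Groth.Limits.FibreVanishing.isZero_stalk_RpushAb f _ q hW x hxW ?_
  let O := f ⁻¹ᵁ W
  letI : (O : Scheme.{u}).Over (Spec (CommRingCat.of Γ(X, W))) := ⟨CohBase.preimageToSpec f⟩
  intro ξ
  haveI : IsNoetherianRing Γ(X, W) := IsLocallyNoetherian.component_noetherian ⟨W, hW⟩
  haveI : IsAffine (W : Scheme.{u}) := hW
  haveI : IsLocallyNoetherian (W : Scheme.{u}) := isLocallyNoetherian_of_isOpenImmersion W.ι
  haveI : IsProper ((O : Scheme.{u}) ↘ Spec (CommRingCat.of Γ(X, W))) :=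
    MorphismProperty.of_isPullback (CohBase.isPullback_preimageToSpec f hW) ‹IsProper f›
  have hMO := CohFin.isCoh_restrict hM O
  obtain ⟨ι, hι, p, hp⟩ := exists_epi_finiteFree _ (CohFin.isCoh_restrict hE W)
  let T := tF (M.restrict O.ι)
  let G := Scheme.Modules.pullback (f ∣_ W) ⋙ T
  letI := Groth.Duality.SheafHom.hasSheafHom (X := (O : Scheme.{u}))
  haveI : PreservesColimitsOfSize.{u, u} T :=
    (DCoh.sheafHomAdj (M.restrict O.ι)).leftAdjoint_preservesColimits
  haveI : PreservesColimitsOfSize.{u, u} (Scheme.Modules.pullback (f ∣_ W)) :=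
    (Scheme.Modules.pullbackPushforwardAdjunction (f ∣_ W)).leftAdjoint_preservesColimits
  haveI : PreservesColimitsOfSize.{u, u} G := comp_preservesColimits _ _
  haveI : PreservesColimitsOfSize.{0, 0} G := preservesSmallestColimits_of_preservesColimits G
  haveI : Epi (G.map p) := inferInstance
  -- identify the quotient
  have hQiso : Nonempty (G.obj (E.restrict W.ι) ≅
      (CohB1.tensorMod M ((Scheme.Modules.pullback f).obj E)).restrict O.ι) := by
    let R := Scheme.Modules.restrictFunctorIsoPullback O.ι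
    obtain ⟨t, -⟩ := PicAux.exists_pullback_tensorMod O.ι M ((Scheme.Modules.pullback f).obj E)
    exact ⟨PicGrp.tensorModIso (R.app M)
      ((Scheme.Modules.pullback (f ∣_ W)).mapIso
          ((Scheme.Modules.restrictFunctorIsoPullback W.ι).app E) ≪≫
        (Scheme.Modules.pullbackComp (f ∣_ W) W.ι).app E ≪≫
        (Scheme.Modules.pullbackCongr (morphismRestrict_ι f W)).app E ≪≫
        ((Scheme.Modules.pullbackComp O.ι f).app E).symm) ≪≫ t.symm ≪≫ (R.app _).symm⟩
  obtain ⟨e⟩ := hQiso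
  -- identify the cover
  obtain ⟨u₁⟩ := PicAux.pullback_structure_iso (f ∣_ W)
  have hsum : Subsingleton (Coh.HH (O : Scheme.{u})
      (G.obj (∐ fun _ : ι => Coh.structureModule (W : Scheme.{u}))) q) := by
    haveI := hι
    refine sub_of_iso (PreservesCoproduct.iso G _).symm (sub_of_sigma _ fun i => ?_)
    refine sub_of_iso ((tComm _ _) ≪≫ PicGrp.tensorModIso (Iso.refl (M.restrict O.ι)) u₁.symm) ?_
    exact sub_of_iso ((Groth.PicAux.exists_leftUnitor (M.restrict O.ι)).choose).symm h0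
  have hN : Coh.IsCoh (G.obj (∐ fun _ : ι => Coh.structureModule (W : Scheme.{u}))) := by
    haveI := hι
    refine Groth.RefRank.isCoh_tensorMod hMO (Groth.FlatStrata.isCoh_pullback _ ?_)
    exact Groth.QCohMod.isCoh_of_iso
      (Sigma.whiskerEquiv (f := fun _ => Coh.structureModule (W : Scheme.{u}))
        (g := fun _ => Coh.structureModule (W : Scheme.{u})) (Finite.equivFin ι).symm fun _ => Iso.refl _)
      (Groth.PnCoh.isCoh_sigma _ fun _ => Groth.QCohMod.isCoh_unit (X := (W : Scheme.{u})))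
  haveI : Epi (G.map p ≫ e.hom) := epi_comp _ _
  obtain ⟨s, hs, hξ⟩ := exists_smul_eq_zero_of_epi (hW.primeIdealOf ⟨x, hxW⟩) q
    (Groth.Limits.FibreVanishing.dim_fiber_preimageToSpec_le f hW x hxW q hd)
    (G.map p ≫ e.hom) hN (CohFin.isCoh_restrict hQ O) hsum ξ
  refine ⟨s, ?_, hξ⟩
  have h1 : hW.primeIdealOf ⟨x, hxW⟩ ∈ hW.fromSpec ⁻¹ᵁ X.basicOpen s := by
    rw [hW.fromSpec_preimage_basicOpen]
    exact hs
  have h2 : hW.fromSpec.base (hW.primeIdealOf ⟨x, hxW⟩) ∈ X.basicOpen s := h1
  have h3 : hW.fromSpec.base (hW.primeIdealOf ⟨x, hxW⟩) = x := hW.fromSpec_primeIdealOf ⟨x, hxW⟩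
  rw [h3] at h2
  exact h2

end Groth.ResPropLib
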