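import Groth.Agent.ResPropLib.Birational
import Groth.Agent.ResPropLib.TopRExact
import Groth.Agent.ResPropLib.PushDescent
import Groth.Agent.CohTwo.CohInduction
import Groth.Agent.CohTwo.SupportLocal
import Groth.Agent.CohC3.PushPull
import Groth.Agent.Inter.Twist

/-!
# Cohomological ampleness and alterations
-/

set_option autoImplicit false
set_option backward.isDefEq.respectTransparency false

universe u

open CategoryTheory CategoryTheory.Limits AlgebraicGeometry TopologicalSpace Opposite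
open Groth.QCohMod
open Groth.CohTwo.SheafHomIso (tF evalHom)

namespace Groth.ResPropLib

/-- `(E n)` is cohomologically ample in degree `d`. -/
def AmpleTop {X : Scheme.{u}} (E : ℕ → X.Modules) (d : ℕ) : Prop :=
  ∀ F : X.Modules, Coh.IsCoh F → ∃ n₀ : ℕ, ∀ n : ℕ, n₀ ≤ n →
    Subsingleton (Coh.HH X (CohB1.tensorMod F (E n)) d)

/-- In dimension at most `d` vanishing in all degrees `≥ d` is vanishing in degree `d`. -/
theorem forall_ge_iff_ampleTop {X : Scheme.{u}} [NoetherianSpace X] {d : ℕ}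
    (hX : topologicalKrullDim X ≤ d) (E : ℕ → X.Modules) :
    (∀ F : X.Modules, Coh.IsCoh F → ∃ n₀ : ℕ, ∀ n : ℕ, n₀ ≤ n → ∀ i : ℕ, d ≤ i →
      Subsingleton (Coh.HH X (CohB1.tensorMod F (E n)) i)) ↔ AmpleTop E d := by
  refine ⟨fun h F hF => (h F hF).imp fun n₀ hn n hn' => hn n hn' d le_rfl, fun h F hF => ?_⟩
  refine (h F hF).imp fun n₀ hn n hn' i hi => ?_
  rcases eq_or_lt_of_le hi with rfl | hi
  · exact hn n hn'
  · exact small_of_dim hX hi _ (Set.subset_univ _)

section Stalk

variable {X : Scheme.{u}}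

/-- Evaluation is surjective at a stalk of a module killed by the maximal ideal. -/
theorem evalHom_stalk_surjective_of_killed [IsLocallyNoetherian X] {F G : X.Modules}
    (hF : Coh.IsCoh F) (x : X) (hne : Nontrivial (F.presheaf.stalk x))
    (hG : ∀ a ∈ IsLocalRing.maximalIdeal (X.presheaf.stalk x), ∀ t : ↑(G.presheaf.stalk x), a • t = 0) :
    Function.Surjective ((stalk x).map (evalHom F G)) := by
  haveI := hF.1
  let R := X.presheaf.stalk x
  let 𝔪 := IsLocalRing.maximalIdeal R
  obtain ⟨W, hW, hxW⟩ := exists_affine_mem x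
  haveI := finite_sections F hF.2 hW
  haveI : Module.Finite R (F.presheaf.stalk x) := by
    let := stalkModule F x hxW
    let := TopCat.Presheaf.algebra_section_stalk X.presheaf ⟨x, hxW⟩
    have := hW.isLocalization_stalk ⟨x, hxW⟩
    have := isLocalizedModule_germ F hW x hxW
    have : IsScalarTower Γ(X, W) R (F.presheaf.stalk x) := IsScalarTower.of_compHom _ _ _
    exact Module.Finite.of_isLocalizedModule (hW.primeIdealOf ⟨x, hxW⟩).asIdeal.primeCompl
      (germₗ F x hxW)
  let V := F.presheaf.stalk x ⧸ (𝔪 • ⊤ : Submodule R (F.presheaf.stalk x))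
  have hVne : (𝔪 • ⊤ : Submodule R (F.presheaf.stalk x)) ≠ ⊤ := fun h => by
    have h0 := Submodule.eq_bot_of_le_smul_of_le_jacobson_bot 𝔪 ⊤ Module.Finite.fg_top h.ge
      (IsLocalRing.maximalIdeal_le_jacobson ⊥)
    exact absurd (Submodule.eq_top_iff'.1 rfl : ∀ z : F.presheaf.stalk x, z ∈ (⊤ : Submodule R _)) (by
      intro hall
      obtain ⟨z, hz⟩ := exists_ne (0 : F.presheaf.stalk x)
      exact hz ((Submodule.mem_bot R).1 (h0 ▸ hall z)))
  obtain ⟨m, -, hm⟩ := SetLike.exists_of_lt (lt_top_iff_ne_top.2 hVne)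
  intro t
  refine evalHom_stalk_surjective hF x (fun t => ?_) t
  let k := R ⧸ 𝔪
  letI : Field k := Ideal.Quotient.field 𝔪
  letI : Module k V := inferInstanceAs (Module (R ⧸ 𝔪) (F.presheaf.stalk x ⧸ (𝔪 • ⊤ : Submodule R _)))
  have hmV : (Submodule.Quotient.mk m : V) ≠ 0 := fun h => hm ((Submodule.Quotient.mk_eq_zero _).1 h)
  obtain ⟨φ₀, hφ₀⟩ := Module.Projective.exists_dual_ne_zero k hmV
  let φ : V →ₗ[k] k := (φ₀ (Submodule.Quotient.mk m))⁻¹ • φ₀
  have hφ : φ (Submodule.Quotient.mk m) = 1 := inv_mul_cancel₀ hφ₀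
  let ψ : F.presheaf.stalk x →ₗ[R] k :=
    (φ.restrictScalars R).comp (Submodule.mkQ _)
  let l : k →ₗ[R] G.presheaf.stalk x :=
    Submodule.liftQ 𝔪 (LinearMap.toSpanSingleton R _ t) fun a ha => by
      rw [LinearMap.mem_ker, LinearMap.toSpanSingleton_apply]
      exact hG a ha t
  refine ⟨l.comp ψ, m, ?_⟩
  show l (φ (Submodule.Quotient.mk m)) = t
  rw [hφ]
  exact one_smul R t

/-- Stalks of invertible modules are nonzero. -/
theorem nontrivial_stalk_invertible {L : X.Modules} (hL : PicF.IsInvertible L) (x : X) :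
    Nontrivial (L.presheaf.stalk x) := by
  obtain ⟨M, -, ⟨e⟩⟩ := Groth.PicAux.exists_inverse hL
  by_contra h
  have h1 : x ∉ CohB1.support (CohB1.tensorMod M L) := fun hx =>
    support_tensorMod_subset M L hx (not_nontrivial_iff_subsingleton.1 h)
  rw [Groth.CohTwo.notMem_support_iff] at h1
  have h2 : Subsingleton ((Coh.structureModule X).presheaf.stalk x) := by
    exact ((stalk x).mapIso e).addCommGroupIsoToAddEquiv.symm.toEquiv.subsingleton
  have h3 : Subsingleton (X.presheaf.stalk x) :=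
    (Groth.VectorBundles.RefHullStalk.oneEquiv x).toEquiv.subsingleton
  exact not_subsingleton _ h3

end Stalk

variable {X Y : Scheme.{u}} (f : Y ⟶ X)

/-- Direct images of invertible modules by morphisms affine near `x` have nonzero stalk at `x`. -/
theorem nontrivial_stalk_push [IsProper f] [IsLocallyNoetherian X] {M : Y.Modules}
    (hG : Coh.IsCoh ((Scheme.Modules.pushforward f).obj M)) [M.IsQuasicoherent]
    (hM : ∀ y, Nontrivial (M.presheaf.stalk y)) (V : X.Opens) [IsAffineHom (f ∣_ V)] (y : Y)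
    (hy : f.base y ∈ V) :
    Nontrivial (((Scheme.Modules.pushforward f).obj M).presheaf.stalk (f.base y)) := by
  by_contra h
  have hx : f.base y ∉ CohB1.support ((Scheme.Modules.pushforward f).obj M) := by
    intro h'
    exact h' (not_nontrivial_iff_subsingleton.1 h)
  obtain ⟨W, hW, hyW, hle⟩ := exists_isAffineOpen_mem_and_subset (x := f.base y)
    (U := (⟨(CohB1.support ((Scheme.Modules.pushforward f).obj M))ᶜ,
      (Groth.CohTwo.isClosed_support _ hG).isOpen_compl⟩ : X.Opens) ⊓ V) ⟨hx, hy⟩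
  have hW' : IsAffineOpen (f ⁻¹ᵁ W) := isAffineOpen_preimage_of_le f (fun z hz => (hle hz).2) hW
  have hs : Subsingleton Γ((Scheme.Modules.pushforward f).obj M, W) :=
    subsingleton_sections_of_stalk _ W fun z hz => by
      have hz' : Subsingleton ↑((stalk z).obj ((Scheme.Modules.pushforward f).obj M)) :=
        (Groth.CohTwo.notMem_support_iff _ z).1 (hle hz).1
      exact @AddCommGrpCat.isZero_of_subsingleton _ hz' 
  have hs' : Subsingleton Γ(M, f ⁻¹ᵁ W) := hs
  refine (not_subsingleton_iff_nontrivial.2 (hM y)) (subsingleton_of_forall_eq 0 fun t => ?_)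
  obtain ⟨a, s, ha, hs2⟩ := exists_smul_germ_eq M hW' y hyW t
  rw [Subsingleton.elim s 0, map_zero] at hs2
  exact ((Scheme.mem_basicOpen Y a y hyW).1 ha).smul_eq_zero.1 hs2

variable {A : Type u} [CommRing A] [IsNoetherianRing A] (pX : X ⟶ Spec (CommRingCat.of A))
  (pY : Y ⟶ Spec (CommRingCat.of A)) [IsProper pX] [IsProper pY] [IsProper f]

include pX pY in
/-- Cohomological ampleness pulls back along generically finite morphisms. -/
theorem ampleTop_pullback (hf : f ≫ pX = pY) (U : X.Opens)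
    (hU' : Dense ((f ⁻¹ᵁ U : Y.Opens) : Set Y)) (hfin : ∀ y ∈ U, Finite ↥(f.fiber y))
    (d : ℕ) (hX : topologicalKrullDim X ≤ d)
    (E : ℕ → X.Modules) (hE : ∀ n, Coh.IsCoh (E n)) (h : AmpleTop E d) :
    AmpleTop (fun n => (Scheme.Modules.pullback f).obj (E n)) d := by
  haveI : IsLocallyNoetherian X := LocallyOfFiniteType.isLocallyNoetherian pX
  haveI : IsLocallyNoetherian Y := LocallyOfFiniteType.isLocallyNoetherian pY
  haveI : CompactSpace X := QuasiCompact.compactSpace_of_compactSpace pX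
  haveI : CompactSpace Y := QuasiCompact.compactSpace_of_compactSpace pY
  haveI : AlgebraicGeometry.IsNoetherian X := {}
  haveI : AlgebraicGeometry.IsNoetherian Y := {}
  letI : X.Over (Spec (CommRingCat.of A)) := ⟨pX⟩
  letI : Y.Over (Spec (CommRingCat.of A)) := ⟨pY⟩
  obtain ⟨V, -, hVc, hVfin⟩ := exists_thick_finite f U hU' hfin
  haveI := hVfin
  intro F hF
  haveI := hF.1
  obtain ⟨n₀, hn₀⟩ := h _ (Groth.CohC3.isCoh_pushforward (A := A) (f := f) hf hF)
  refine ⟨n₀, fun n hn => ?_⟩
  haveI := (hE n).1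
  let Q := CohB1.tensorMod ((Scheme.Modules.pullback f).obj (E n)) F
  have hQ : Coh.IsCoh Q :=
    Groth.RefRank.isCoh_tensorMod (Groth.FlatStrata.isCoh_pullback f (hE n)) hF
  have hθ : ∀ x ∉ codimSet X 1, Function.Surjective ((stalk x).map (Groth.ProjFormula.pfApp f (E n) F)) :=
    fun x hx => (pfApp_stalk_bijective f (E n) F V x (by
      by_contra hxV
      exact hx (le_trans (show ((1 : ℕ) : ℕ∞) ≤ ((2 : ℕ) : ℕ∞) from Nat.cast_le.2 (by norm_num))
        (hVc hxV : ((2 : ℕ) : ℕ∞) ≤ Order.coheight x)))).2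
  have h1 := sub_target (Groth.ProjFormula.pfApp f (E n) F)
    (small_codimSet (k := 1) (p := d) hX (by omega)) (support_coker_subset _ hθ)
    (small_of_dim hX (by omega)) (sub_of_iso (tComm _ _) (hn₀ n hn))
  refine sub_of_iso (tComm _ _) ?_
  refine subsingleton_of_push f d (Coh.toAb Q) (fun q => codimSet X (q + 2)) (fun q x hx => ?_)
    (fun q p hqp => smallAb_codimSet (k := q + 2) (p := p) hX (by omega)) h1
  rw [notMem_codimSet] at hx
  exact AddCommGrpCat.subsingleton_of_isZero (Groth.Limits.FibreVanishing.isZero_stalk_RpushAb_of_coh f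
    x q (fiber_dim_le f U hU' hfin x q hx) Q hQ (q + 1) (Nat.lt_succ_self q))

/-- A single twist has no higher cohomology over the members of an affine cover. -/
theorem exists_twist_acyclic [IsLocallyNoetherian X] [CompactSpace X] [X.IsSeparated] {L : Y.Modules}
    (hL : CohB1.IsAmple L) (M : Y.Modules) (hM : Coh.IsCoh M) :
    ∃ m : ℕ, ∀ x : X, ∃ W : X.Opens, IsAffineOpen W ∧ x ∈ W ∧ ∀ q : ℕ, 0 < q →
      Subsingleton (Coh.HH (f ⁻¹ᵁ W : Y.Opens).toScheme
        ((CohB1.tensorMod M (CohB1.tensorPow L m)).restrict (f ⁻¹ᵁ W).ι) q) := by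
  classical
  have key : ∀ W : X.affineOpens, ∃ n₀ : ℕ, ∀ n, n₀ ≤ n → ∀ q : ℕ, 0 < q →
      Subsingleton (Coh.HH (f ⁻¹ᵁ W.1 : Y.Opens).toScheme
        ((CohB1.tensorMod M (CohB1.tensorPow L n)).restrict (f ⁻¹ᵁ W.1).ι) q) := by
    intro W
    haveI : IsNoetherianRing Γ(X, W.1) := IsLocallyNoetherian.component_noetherian W
    haveI : IsAffine W.1.toScheme := W.2
    haveI : IsAffineHom W.1.ι :=
      MorphismProperty.of_postcomp @IsAffineHom W.1.ι (terminal.from X)
        (show IsSeparated (terminal.from X) from inferInstance) inferInstance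
    haveI : IsAffineHom (f ⁻¹ᵁ W.1).ι :=
      MorphismProperty.of_isPullback (isPullback_morphismRestrict f W.1) ‹IsAffineHom W.1.ι›
    haveI : IsProper (Groth.CohBase.preimageToSpec f (V := W.1)) :=
      MorphismProperty.of_isPullback (Groth.CohBase.isPullback_preimageToSpec f W.2) ‹IsProper f›
    obtain ⟨n₀, hn⟩ := Groth.PnCoh.exists_subsingleton_of_isAmple
      (Groth.CohBase.preimageToSpec f (V := W.1))
      (Groth.Chow.isAmple_pullback_of_isAffineHom (f ⁻¹ᵁ W.1).ι hL) _
      (Groth.FlatStrata.isCoh_pullback (f ⁻¹ᵁ W.1).ι hM)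
    refine ⟨n₀, fun n hn' q hq => sub_of_iso ?_ (hn n hn' q hq)⟩
    exact ((Scheme.Modules.restrictFunctorIsoPullback (f ⁻¹ᵁ W.1).ι).app _ ≪≫
      (Groth.FlatStrata.nonempty_pullback_tw (f ⁻¹ᵁ W.1).ι M L n).some).symm
  choose n₀ hn using key
  obtain ⟨t, ht⟩ := CompactSpace.isCompact_univ.elim_finite_subcover
    (fun W : X.affineOpens => (W.1 : Set X)) (fun W => W.1.2)
    (fun x _ => by
      obtain ⟨W, hW, hxW, -⟩ := Opens.isBasis_iff_nbhd.1 X.isBasis_affineOpens (Opens.mem_top x)
      exact Set.mem_iUnion.2 ⟨⟨W, hW⟩, hxW⟩)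
  refine ⟨t.sup n₀, fun x => ?_⟩
  obtain ⟨W, hW⟩ := Set.mem_iUnion.1 (ht (Set.mem_univ x))
  obtain ⟨hWt, hxW⟩ := Set.mem_iUnion.1 hW
  exact ⟨W.1, W.2, hxW, fun q hq => hn W _ (Finset.le_sup hWt) q hq⟩

include pX pY in
/-- Cohomological ampleness descends along surjective generically finite morphisms from a source
with an ample module. -/
theorem ampleTop_of_pullback (hf : f ≫ pX = pY) [Surjective f] (U : X.Opens)
    (hU : Dense (U : Set X)) (hU' : Dense ((f ⁻¹ᵁ U : Y.Opens) : Set Y))
    (hfin : ∀ y ∈ U, Finite ↥(f.fiber y))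
    (d : ℕ) (hX : topologicalKrullDim X ≤ d) {L : Y.Modules} (hL : CohB1.IsAmple L)
    (E : ℕ → X.Modules) (hE : ∀ n, Coh.IsCoh (E n))
    (h : AmpleTop (fun n => (Scheme.Modules.pullback f).obj (E n)) d) : AmpleTop E d := by
  haveI : IsLocallyNoetherian X := LocallyOfFiniteType.isLocallyNoetherian pX
  haveI : IsLocallyNoetherian Y := LocallyOfFiniteType.isLocallyNoetherian pY
  haveI : CompactSpace X := QuasiCompact.compactSpace_of_compactSpace pX
  haveI : CompactSpace Y := QuasiCompact.compactSpace_of_compactSpace pY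
  haveI : AlgebraicGeometry.IsNoetherian X := {}
  haveI : AlgebraicGeometry.IsNoetherian Y := {}
  haveI : X.IsSeparated := ⟨by
    rw [show terminal.from X = pX ≫ terminal.from _ from (terminal.comp_from _).symm]
    infer_instance⟩
  letI : X.Over (Spec (CommRingCat.of A)) := ⟨pX⟩
  letI : Y.Over (Spec (CommRingCat.of A)) := ⟨pY⟩
  obtain ⟨V, hUV, hVc, hVfin⟩ := exists_thick_finite f U hU' hfin
  haveI := hVfin
  have hOc : ∀ x ∉ codimSet X 2, x ∈ V := fun x hx => by
    by_contra hxV
    exact hx (hVc hxV)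
  obtain ⟨m, hm⟩ := exists_twist_acyclic f hL (Coh.structureModule Y) (Groth.QCohMod.isCoh_unit (X := Y))
  let M := CohB1.tensorMod (Coh.structureModule Y) (CohB1.tensorPow L m)
  have hLm := Groth.PicAux.isInvertible_tensorPow hL.1 m
  have hM : Coh.IsCoh M := by
    haveI := Groth.PicAux.isQCoh_of_isInvertible hLm
    exact Groth.RefRank.isCoh_tensorMod (Groth.QCohMod.isCoh_unit (X := Y))
      (Groth.Inter.isCoh_of_isInvertible hLm)
  haveI := hM.1
  have hMy : ∀ y, Nontrivial (M.presheaf.stalk y) := fun y => by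
    haveI := nontrivial_stalk_invertible hLm y
    exact @Equiv.nontrivial _ _ ((stalk y).mapIso
      ((Groth.PicAux.exists_leftUnitor (CohB1.tensorPow L m)).choose)).addCommGroupIsoToAddEquiv.toEquiv
      (nontrivial_stalk_invertible hLm y)
  let G₀ := (Scheme.Modules.pushforward f).obj M
  have hG₀ : Coh.IsCoh G₀ := Groth.CohC3.isCoh_pushforward (A := A) (f := f) hf hM
  haveI := hG₀.1
  -- vanishing of the twists by the modules `H ⊗ f_*M`
  have key : ∀ H : X.Modules, Coh.IsCoh H → ∃ n₀, ∀ n, n₀ ≤ n →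
      Subsingleton (Coh.HH X (CohB1.tensorMod (E n) (CohB1.tensorMod G₀ H)) d) := by
    intro H hH
    obtain ⟨n₀, hn₀⟩ := h _ (Groth.RefRank.isCoh_tensorMod (Groth.FlatStrata.isCoh_pullback f hH) hM)
    refine ⟨n₀, fun n hn => ?_⟩
    let E' := CohB1.tensorMod H (E n)
    have hE' : Coh.IsCoh E' := Groth.RefRank.isCoh_tensorMod hH (hE n)
    haveI := hE'.1
    obtain ⟨t, -⟩ := Groth.PicAux.exists_pullback_tensorMod f H (E n)
    have h1 : Subsingleton (Coh.HH Y (CohB1.tensorMod M ((Scheme.Modules.pullback f).obj E')) d) :=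
      sub_of_iso (PicGrp.tensorModIso (tComm _ _) (Iso.refl _) ≪≫
        (Groth.PicAux.exists_associator _ _ _).choose ≪≫
        PicGrp.tensorModIso (Iso.refl M) t.symm) (hn₀ n hn)
    have h2 : Subsingleton (Coh.HH X ((Scheme.Modules.pushforward f).obj
        (CohB1.tensorMod M ((Scheme.Modules.pullback f).obj E'))) d) := by
      refine subsingleton_push_of_small f d _ (fun q => codimSet X (q + 3)) (fun q x hx => ?_)
        (fun q p hqp => smallAb_codimSet (k := q + 3) (p := p) hX (by omega)) h1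
      rw [show q + 3 = (q + 2) + 1 from rfl, notMem_codimSet] at hx
      obtain ⟨W, hW, hxW, hWq⟩ := hm x
      exact AddCommGrpCat.subsingleton_of_isZero (isZero_stalk_top f x (q + 1)
        (fiber_dim_le f U hU' hfin x (q + 1) hx) E' hE' M hM hW hxW (hWq (q + 1) q.succ_pos))
    let θ := Groth.ProjFormula.pfApp f E' M
    have hθ : ∀ x ∈ V, Function.Bijective ((stalk x).map θ) := fun x hx =>
      pfApp_stalk_bijective f E' M V x hx
    have h3 := sub_source θ (small_codimSet (k := 2) (p := d) hX (by omega))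
      (fun q hq => small_codimSet (k := 2) (p := q) hX (by omega))
      (support_ker_subset _ fun x hx => (hθ x (hOc x hx)).1)
      (support_coker_subset _ fun x hx => (hθ x (hOc x hx)).2)
      (sub_of_iso ((Scheme.Modules.pushforward f).mapIso (tComm _ _)) h2)
    exact sub_of_iso (PicGrp.tensorModIso (tComm H (E n)) (Iso.refl G₀) ≪≫
      (Groth.PicAux.exists_associator _ _ _).choose ≪≫
      PicGrp.tensorModIso (Iso.refl (E n)) (tComm H G₀)) h3
  -- dévissage
  intro F hF
  suffices hP : ∃ n₀, ∀ n, n₀ ≤ n → Subsingleton (Coh.HH X (CohB1.tensorMod (E n) F) d) by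
    obtain ⟨n₀, hn₀⟩ := hP
    exact ⟨n₀, fun n hn => sub_of_iso (tComm _ _) (hn₀ n hn)⟩
  refine Groth.CohTwo.coh_induction
    (fun F => ∃ n₀, ∀ n, n₀ ≤ n → Subsingleton (Coh.HH X (CohB1.tensorMod (E n) F) d))
    ?_ ?_ ?_ Set.univ ?_ isClosed_univ F hF (Set.subset_univ _)
  · rintro M N ⟨e⟩ ⟨n₀, hn⟩
    exact ⟨n₀, fun n hn' => sub_of_iso (PicGrp.tensorModIso (Iso.refl _) e) (hn n hn')⟩
  · intro M hM
    refine ⟨0, fun n _ => sub_of_isZero (isZero_of_support_empty ?_) d⟩
    intro x hx
    have := support_tensorMod_subset (E n) M hx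
    rw [(isZero_iff_support_eq_empty M).1 hM] at this
    exact this
  · rintro S hS - - - ⟨n₁, h₁⟩ ⟨n₃, h₃⟩
    refine ⟨max n₁ n₃, fun n hn => ?_⟩
    letI := Groth.Duality.SheafHom.hasSheafHom (X := X)
    haveI : PreservesColimitsOfSize.{0, 0} (tF (E n)) :=
      (DCoh.sheafHomAdj (E n)).leftAdjoint_preservesColimits
    let φ := (tF (E n)).map S.f
    haveI : Epi S.g := hS.epi_g
    have hcok : cokernel φ ≅ CohB1.tensorMod (E n) S.X₃ :=
      (PreservesCokernel.iso (tF (E n)) S.f).symm ≪≫ (tF (E n)).mapIso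
        ((colimit.isColimit _).coconePointUniqueUpToIso hS.exact.gIsCokernel)
    have hK : (ShortComplex.mk (kernel.ι φ) (Abelian.factorThruImage φ) (by
        rw [← cancel_mono (Abelian.image.ι φ)]; simp)).ShortExact :=
      { exact := ShortComplex.exact_of_f_is_kernel _ <| by
          refine KernelFork.IsLimit.ofι' _ _ fun {W} l hl => ?_
          exact ⟨kernel.lift φ l (by rw [← Abelian.image.fac φ, ← Category.assoc, hl, zero_comp]),
            kernel.lift_ι _ _ _⟩ }
    have hI := sub_right hK (h₁ n (le_of_max_le_left hn))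
      (small_of_dim hX (Nat.lt_succ_self d) _ (Set.subset_univ _))
    exact sub_mid (S := ShortComplex.mk (Abelian.image.ι φ) (cokernel.π φ) (kernel.condition _))
      { exact := ShortComplex.exact_of_f_is_kernel _ (kernelIsKernel _) } hI
      (sub_of_iso hcok.symm (h₃ n (le_of_max_le_right hn)))
  intro Z ξ hZ _ F hF hk _
  haveI := hF.1
  have hsupp : CohB1.support F ⊆ closure {ξ} := by
    intro x hx
    have h1 := hk.support_subset hx
    rw [Scheme.IdealSheafData.coe_support_vanishingIdeal] at h1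
    rw [← hZ]
    exact h1
  have hspec : ∀ x ∈ closure ({ξ} : Set X), x ≤ ξ := fun x hx =>
    Scheme.le_iff_specializes.mpr (specializes_iff_mem_closure.2 hx)
  by_cases hξ : IsMax ξ
  swap
  · refine ⟨0, fun n _ => small_codimSet (k := 1) (p := d) hX (by omega) _ fun x hx => ?_⟩
    have hx' := hspec x (hsupp (support_tensorMod_subset (E n) F hx))
    show ((1 : ℕ) : ℕ∞) ≤ Order.coheight x
    rw [Nat.cast_one, ENat.one_le_iff_ne_zero]
    exact fun h0 => hξ ((Order.coheight_eq_zero.1 h0).mono hx')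
  let H := RefHull.homSh G₀ F
  obtain ⟨n₀, hn₀⟩ := key H (Groth.RefRank.isCoh_homSh hG₀ hF)
  refine ⟨n₀, fun n hn => ?_⟩
  have hev : ∀ x ∉ codimSet X 1, Function.Surjective ((stalk x).map
      ((tF (E n)).map (evalHom G₀ F))) := fun x hx => tF_map_stalk_surjective (E n) _ x (by
    by_cases hxF : x ∈ CohB1.support F
    · rw [show (1 : ℕ) = 0 + 1 from rfl, notMem_codimSet, Nat.cast_zero, nonpos_iff_eq_zero,
        Order.coheight_eq_zero] at hx
      have hxξ : x = ξ := by
        have h2 := hspec x (hsupp hxF)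
        have h3 := hx h2
        exact (Scheme.le_iff_specializes.mp h3).antisymm (Scheme.le_iff_specializes.mp h2) |>.eq
      subst hxξ
      obtain ⟨y, hy⟩ := f.surjective x
      subst hy
      refine evalHom_stalk_surjective_of_killed hG₀ _ ?_ (hk.stalk_maximalIdeal hZ)
      exact nontrivial_stalk_push f hG₀ hMy V y (hUV (mem_of_isMax_of_dense hU hξ))
    · intro t
      rw [Groth.CohTwo.notMem_support_iff] at hxF
      exact ⟨0, Subsingleton.elim _ _⟩)
  exact sub_target _ (small_codimSet (k := 1) (p := d) hX (by omega))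
    (support_coker_subset _ hev) (small_of_dim hX (Nat.lt_succ_self d)) (hn₀ n hn)

end Groth.ResPropLib
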