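import Groth.Agent.ResPropLib.Alteration
import Groth.Agent.Chow.Lemma
import Groth.Agent.Chow.VeryAmplePn
import Groth.Agent.CohBase.IdealOfClosed

/-!
# Reduction to a source with an ample module
-/

set_option autoImplicit false
set_option backward.isDefEq.respectTransparency false

universe u

open CategoryTheory CategoryTheory.Limits AlgebraicGeometry TopologicalSpace Opposite

namespace Groth.ResPropLib

variable {X Y : Scheme.{u}}

/-- Every point is a specialization of a maximal one. -/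
lemma exists_isMax_above (x : X) : ∃ ξ : X, x ≤ ξ ∧ IsMax ξ := by
  obtain ⟨ξ, hξ⟩ := QuasiSober.sober (isIrreducible_irreducibleComponent (x := x))
    isClosed_irreducibleComponent
  refine ⟨ξ, Scheme.le_iff_specializes.mpr (hξ.specializes mem_irreducibleComponent), fun z hz ↦ ?_⟩
  have hsub : irreducibleComponent x ⊆ closure {z} := by
    rw [← hξ]
    exact closure_minimal (Set.singleton_subset_iff.mpr
      ((Scheme.le_iff_specializes.mp hz).mem_closed isClosed_closure (subset_closure rfl))) isClosed_closure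
  have := (irreducibleComponent_mem_irreducibleComponents x).2 isIrreducible_singleton.closure hsub
  exact Scheme.le_iff_specializes.mpr (hξ.specializes (this (subset_closure rfl)))

/-- An open containing all maximal points is dense. -/
lemma dense_of_isMax_mem (O : X.Opens) (h : ∀ ξ : X, IsMax ξ → ξ ∈ O) : Dense (O : Set X) := by
  refine dense_iff_inter_open.2 fun O' hO' hne => ?_
  obtain ⟨z, hz⟩ := hne
  obtain ⟨ξ, hzξ, hξ⟩ := exists_isMax_above z
  exact ⟨ξ, (Scheme.le_iff_specializes.mp hzξ).mem_open hO' hz, h ξ hξ⟩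

/-- There are finitely many maximal points. -/
lemma finite_isMax [AlgebraicGeometry.IsNoetherian X] : {ξ : X | IsMax ξ}.Finite := by
  refine Set.Finite.of_finite_image
    (f := fun ξ : X => closure ({ξ} : Set X))
    ((finite_irreducibleComponents_of_isNoetherian (X := X)).subset ?_) ?_
  · rintro _ ⟨ξ, hξ, rfl⟩
    refine ⟨isIrreducible_singleton.closure, fun C hC hsub => ?_⟩
    have hg := (IsIrreducible.closure hC).isGenericPoint_genericPoint isClosed_closure
    have h1 : (IsIrreducible.closure hC).genericPoint ⤳ ξ :=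
      hg.specializes (subset_closure (hsub (subset_closure rfl)))
    have h2 := hξ (Scheme.le_iff_specializes.mpr h1)
    intro z hz
    exact specializes_iff_mem_closure.1
      ((Scheme.le_iff_specializes.mp h2).trans (hg.specializes (subset_closure hz)))
  · intro a _ b _ hab
    exact ((isGenericPoint_closure (x := a)).eq (show closure {b} = closure {a} from hab.symm))

/-- Finite morphisms over an open have finite fibres there. -/
lemma finite_fiber_of_isFinite_restrict (f : Y ⟶ X) (U : X.Opens) (hfin : IsFinite (f ∣_ U)) (y : X)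
    (hy : y ∈ U) : Finite ↥(f.fiber y) := by
  haveI := hfin
  have h := (f ∣_ U).finite_preimage_singleton ⟨y, hy⟩
  have hsub : f.base ⁻¹' {y} ⊆ (f ⁻¹ᵁ U).ι.base '' ((f ∣_ U).base ⁻¹' {⟨y, hy⟩}) := fun z hz => by
    have hzU : z ∈ f ⁻¹ᵁ U := show f.base z ∈ U by rw [show f.base z = y from hz]; exact hy
    refine ⟨⟨z, hzU⟩, Subtype.ext ?_, rfl⟩
    rw [morphismRestrict_base_coe]
    exact hz
  haveI : Finite ↥(f.base ⁻¹' {y}) := ((h.image _).subset hsub).to_subtype
  exact Finite.of_equiv _ (f.fiberHomeo y).symm.toEquiv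

/-- A point of a finite fibre over a maximal point is maximal. -/
lemma isMax_of_finite_fiber (f : Y ⟶ X) [LocallyOfFiniteType f] (y : Y) (hy : IsMax (f.base y))
    [Finite ↥(f.fiber (f.base y))] : IsMax y := by
  intro z hz
  haveI : LocallyOfFiniteType (f.fiberToSpecResidueField (f.base y)) :=
    MorphismProperty.pullback_snd f _ ‹LocallyOfFiniteType f›
  haveI : JacobsonSpace ↥(f.fiber (f.base y)) :=
    LocallyOfFiniteType.jacobsonSpace (f.fiberToSpecResidueField (f.base y))
  have hs := Scheme.le_iff_specializes.mp hz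
  have h1 : f.base z = f.base y :=
    ((hs.map f.continuous).antisymm
      (Scheme.le_iff_specializes.mp (hy (Scheme.le_iff_specializes.mpr (hs.map f.continuous))))).eq
  let F : Set Y := f.base ⁻¹' {f.base y}
  let e := f.fiberHomeo (f.base y)
  haveI : DiscreteTopology ↥(f.fiber (f.base y)) := inferInstance
  haveI : DiscreteTopology F := e.symm.isEmbedding.discreteTopology
  have h2 : (⟨z, h1⟩ : F) ⤳ ⟨y, rfl⟩ := (subtype_specializes_iff _ _).2 hs
  have h3 : z = y := congrArg Subtype.val h2.eq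
  exact h3 ▸ le_rfl

variable {A : Type u} [CommRing A] [IsNoetherianRing A] (pX : X ⟶ Spec (CommRingCat.of A))
  (pY : Y ⟶ Spec (CommRingCat.of A)) [IsProper pX] [IsProper pY] (f : Y ⟶ X) [IsProper f]

include pX pY in
/-- Cohomological ampleness descends along alterations. -/
theorem ampleTop_of_alteration (hf : f ≫ pX = pY) [Surjective f] (U : X.Opens)
    (hU : Dense (U : Set X)) (hfin : ∀ y ∈ U, Finite ↥(f.fiber y))
    (d : ℕ) (hX : topologicalKrullDim X ≤ d) (hY : topologicalKrullDim Y ≤ d)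
    (E : ℕ → X.Modules) (hE : ∀ n, Coh.IsCoh (E n))
    (h : AmpleTop (fun n => (Scheme.Modules.pullback f).obj (E n)) d) : AmpleTop E d := by
  haveI : IsLocallyNoetherian X := LocallyOfFiniteType.isLocallyNoetherian pX
  haveI : IsLocallyNoetherian Y := LocallyOfFiniteType.isLocallyNoetherian pY
  haveI : CompactSpace X := QuasiCompact.compactSpace_of_compactSpace pX
  haveI : AlgebraicGeometry.IsNoetherian X := {}
  have hmaxU : ∀ ξ : X, IsMax ξ → ξ ∈ U := fun ξ hξ => mem_of_isMax_of_dense hU hξ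
  -- the union of the components dominating components of the target
  let S : Set Y := f.base ⁻¹' {ξ : X | IsMax ξ}
  have hSfin : S.Finite := by
    have hS : S = ⋃ ξ ∈ {ξ : X | IsMax ξ}, f.base ⁻¹' {ξ} := by ext; simp [S]
    rw [hS]
    refine finite_isMax.biUnion fun ξ hξ => ?_
    haveI := hfin ξ (hmaxU ξ hξ)
    haveI : Finite ↥(f.base ⁻¹' {ξ}) := Finite.of_equiv _ (f.fiberHomeo ξ).toEquiv
    exact Set.toFinite _
  let Z : Closeds Y := ⟨closure S, isClosed_closure⟩
  let I := Scheme.IdealSheafData.vanishingIdeal Z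
  let i := I.subschemeι
  let Y₁ := I.subscheme
  have hi : Set.range i.base = closure S := Groth.CohBase.range_reduced Z
  haveI : IsProper (i ≫ pY) := inferInstance
  haveI : IsLocallyNoetherian Y₁ := LocallyOfFiniteType.isLocallyNoetherian (i ≫ pY)
  haveI : CompactSpace Y₁ := QuasiCompact.compactSpace_of_compactSpace (i ≫ pY)
  haveI : AlgebraicGeometry.IsNoetherian Y₁ := {}
  have hY₁ : topologicalKrullDim Y₁ ≤ (d : ℕ) :=
    i.isClosedEmbedding.isInducing.topologicalKrullDim_le.trans hY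
  -- pull back to it
  have h₁ : AmpleTop (fun n => (Scheme.Modules.pullback i).obj ((Scheme.Modules.pullback f).obj (E n))) d :=
    ampleTop_pullback i pY (i ≫ pY) rfl ⊤ (by simp) (fun y _ => by
      haveI : Finite ↥(i.base ⁻¹' {y}) :=
        (Set.subsingleton_singleton.preimage i.isClosedEmbedding.injective).finite.to_subtype
      exact Finite.of_equiv _ (i.fiberHomeo y).symm.toEquiv) d hY _
      (fun n => Groth.FlatStrata.isCoh_pullback f (hE n)) h
  -- modify it to carry an ample module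
  obtain ⟨N, Y', g, j, hj, hjb, hg, hgs, ⟨W, hW, hgW, hiso⟩, -, -⟩ :=
    Groth.Chow.exists_chow (i ≫ pY) TopologicalSpace.NoetherianSpace.finite_irreducibleComponents
  haveI := hg
  haveI := hgs
  haveI := hj
  haveI : IsProper (g ≫ i ≫ pY) := inferInstance
  have hL := Groth.Chow.isAmple_of_immersion (g ≫ i ≫ pY) _ N j (Iso.refl _)
  -- maximal points
  have hmax₁ : ∀ y₁ : Y₁, IsMax y₁ → IsMax (f.base (i.base y₁)) := by
    intro y₁ hy₁
    have hy : i.base y₁ ∈ closure S := hi ▸ Set.mem_range_self y₁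
    rw [← Set.biUnion_of_singleton S, hSfin.closure_biUnion] at hy
    obtain ⟨s, hs, hys⟩ := Set.mem_iUnion₂.1 hy
    obtain ⟨s₁, hs₁⟩ : s ∈ Set.range i.base := hi ▸ subset_closure hs
    subst hs₁
    have h1 : s₁ ⤳ y₁ := i.isClosedEmbedding.isInducing.specializes_iff.1 (specializes_iff_mem_closure.2 hys)
    have h2 := (Scheme.le_iff_specializes.mp (hy₁ (Scheme.le_iff_specializes.mpr h1))).antisymm h1
    rw [h2.eq]
    exact hs
  have hC : IsClosed ((i ≫ f).base '' (W : Set Y₁)ᶜ) := (i ≫ f).isClosedMap _ W.2.isClosed_compl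
  let O : X.Opens := U ⊓ ⟨((i ≫ f).base '' (W : Set Y₁)ᶜ)ᶜ, hC.isOpen_compl⟩
  have hO : ∀ ξ : X, IsMax ξ → ξ ∈ O := fun ξ hξ => ⟨hmaxU ξ hξ, fun ⟨y₁, hy₁, he⟩ => hy₁ (by
    refine mem_of_isMax_of_dense hW ?_
    subst he
    haveI : Finite ↥(f.fiber (f.base (i.base y₁))) := hfin _ (hmaxU _ hξ)
    have hmax := isMax_of_finite_fiber f (i.base y₁) hξ
    intro z hz
    have h1 := Scheme.le_iff_specializes.mp hz
    exact Scheme.le_iff_specializes.mpr (i.isClosedEmbedding.isInducing.specializes_iff.1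
      (Scheme.le_iff_specializes.mp (hmax (Scheme.le_iff_specializes.mpr (h1.map i.continuous))))))⟩
  let h' := g ≫ i ≫ f
  haveI : IsProper h' := inferInstance
  haveI : IsLocallyNoetherian Y' := LocallyOfFiniteType.isLocallyNoetherian (g ≫ i ≫ pY)
  have hh'W : h' ⁻¹ᵁ O ≤ g ⁻¹ᵁ W := fun y hy => by
    by_contra hyW
    exact hy.2 ⟨g.base y, hyW, rfl⟩
  have hfin' : ∀ x ∈ O, Finite ↥(h'.fiber x) := fun x hx => by
    haveI := hfin x hx.1
    haveI : Finite ↥(f.base ⁻¹' {x}) := Finite.of_equiv _ (f.fiberHomeo x).toEquiv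
    haveI := hiso
    have hinj : Set.InjOn (g ≫ i).base (h'.base ⁻¹' {x}) := by
      intro a ha b hb hab
      have hga : g.base a = g.base b := i.isClosedEmbedding.injective hab
      have haW : a ∈ g ⁻¹ᵁ W := hh'W (show h'.base a ∈ O from (show h'.base a = x from ha) ▸ hx)
      have hbW : b ∈ g ⁻¹ᵁ W := hh'W (show h'.base b ∈ O from (show h'.base b = x from hb) ▸ hx)
      exact congrArg Subtype.val ((g ∣_ W).homeomorph.injective
        (a₁ := ⟨a, haW⟩) (a₂ := ⟨b, hbW⟩) (Subtype.ext (by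
          show ((g ∣_ W).base ⟨a, haW⟩).1 = ((g ∣_ W).base ⟨b, hbW⟩).1
          rw [morphismRestrict_base_coe, morphismRestrict_base_coe]
          exact hga)))
    haveI : Finite ↥(h'.base ⁻¹' {x}) :=
      (Set.Finite.of_finite_image ((Set.toFinite (f.base ⁻¹' {x})).subset
        (Set.image_subset_iff.2 fun a ha => ha)) hinj).to_subtype
    exact Finite.of_equiv _ (h'.fiberHomeo x).symm.toEquiv
  have hO' : Dense ((h' ⁻¹ᵁ O : Y'.Opens) : Set Y') := by
    refine dense_iff_inter_open.2 fun V hV hne => ?_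
    obtain ⟨v, hvV, hvW⟩ := hgW.inter_open_nonempty V hV hne
    have hD : Dense (((i ≫ f) ⁻¹ᵁ O : Y₁.Opens) : Set Y₁) :=
      dense_of_isMax_mem _ fun y₁ hy₁ => hO _ (hmax₁ y₁ hy₁)
    haveI := hiso
    let V' : (g ⁻¹ᵁ W : Y'.Opens).toScheme.Opens := (g ⁻¹ᵁ W).ι ⁻¹ᵁ ⟨V, hV⟩
    have hop : IsOpen (W.ι.base '' ((g ∣_ W).base '' (V' : Set _))) :=
      W.ι.isOpenEmbedding.isOpenMap _ ((g ∣_ W).homeomorph.isOpenMap _ V'.2)
    obtain ⟨_, ⟨_, ⟨a, ha, rfl⟩, rfl⟩, hzO⟩ :=
      hD.inter_open_nonempty _ hop ⟨_, _, ⟨⟨v, hvW⟩, hvV, rfl⟩, rfl⟩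
    refine ⟨a.1, ha, ?_⟩
    have hval : W.ι.base ((g ∣_ W).base a) = g.base a.1 := morphismRestrict_base_coe g W a
    rw [hval] at hzO
    exact hzO
  -- surjectivity
  haveI : Surjective h' := by
    haveI : Surjective (i ≫ f) := ⟨fun x => by
      obtain ⟨ξ, hxξ, hξ⟩ := exists_isMax_above x
      obtain ⟨y, hy⟩ := f.surjective ξ
      obtain ⟨y₁, hy₁⟩ : y ∈ Set.range i.base :=
        hi ▸ subset_closure (show f.base y ∈ {ξ : X | IsMax ξ} from hy ▸ hξ)
      have hcl : IsClosed (Set.range (i ≫ f).base) := (i ≫ f).isClosedMap.isClosed_range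
      have hm : ξ ∈ Set.range (i ≫ f).base := ⟨y₁, by rw [← hy, ← hy₁]; rfl⟩
      exact (Scheme.le_iff_specializes.mp hxξ).mem_closed hcl hm⟩
    exact inferInstanceAs (Surjective (g ≫ i ≫ f))
  have hgfin : ∀ y ∈ W, Finite ↥(g.fiber y) := fun y hy => finite_fiber_of_isIso g W hiso y hy
  -- pull back once more, but only the top degree matters
  have hh' : h' ≫ pX = g ≫ i ≫ pY := by simp [h', hf]
  have h₂ : AmpleTop (fun n => (Scheme.Modules.pullback h').obj (E n)) d := by
    have h2 := ampleTop_pullback g (i ≫ pY) (g ≫ i ≫ pY) rfl W hgW hgfin d hY₁ _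
      (fun n => Groth.FlatStrata.isCoh_pullback i (Groth.FlatStrata.isCoh_pullback f (hE n))) h₁
    intro G hG
    obtain ⟨n₀, hn₀⟩ := h2 G hG
    refine ⟨n₀, fun n hn => sub_of_iso (PicGrp.tensorModIso (Iso.refl G) ?_) (hn₀ n hn)⟩
    exact (Scheme.Modules.pullback g).mapIso ((Scheme.Modules.pullbackComp i f).app _) ≪≫
      (Scheme.Modules.pullbackComp g (i ≫ f)).app _
  exact ampleTop_of_pullback h' pX (g ≫ i ≫ pY) hh' O (dense_of_isMax_mem O hO) hO' hfin' d hX hL E hE h₂

end Groth.ResPropLib
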