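import Groth.Agent.ResPropLib.PushShift
import Groth.Agent.PnCoh.AmpleVanishing
import Groth.Agent.FlatStrata.Twist

/-!
# Higher direct images of high twists by an ample module vanish
-/

set_option autoImplicit false
set_option backward.isDefEq.respectTransparency false

universe u

open CategoryTheory CategoryTheory.Limits AlgebraicGeometry TopologicalSpace Opposite

namespace Groth.ResPropLib

/-- A sheaf with vanishing stalks is zero. -/
lemma isZero_of_stalk_sub {X : Scheme.{u}} {G : Groth.CohBase.AbSheaf X.toTopCat}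
    (hG : ∀ x, Subsingleton ↑(TopCat.Presheaf.stalk (C := AddCommGrpCat.{u}) (X := X.toTopCat) G.obj x)) :
    IsZero G :=
  (IsZero.iff_id_eq_zero G).2 (ObjectProperty.hom_ext _ (by
    ext U t
    exact (ab_res_eq_zero (Z := ∅) (fun x _ => hG x) U.unop (Set.disjoint_empty _) _).trans
      (ab_res_eq_zero (Z := ∅) (fun x _ => hG x) U.unop (Set.disjoint_empty _) _).symm))

variable {X Y : Scheme.{u}} (f : Y ⟶ X) [IsProper f] [IsLocallyNoetherian X] [CompactSpace X]
  [X.IsSeparated]

/-- High twists by an ample module have no higher direct images. -/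
theorem exists_isZero_Rpush_twist {L : Y.Modules} (hL : CohB1.IsAmple L) (M : Y.Modules)
    (hM : Coh.IsCoh M) :
    ∃ n₀ : ℕ, ∀ n, n₀ ≤ n → ∀ q : ℕ, IsZero (((Groth.CohBase.pushSheaf f.base).rightDerived (q + 1)).obj
      (Coh.toAb (CohB1.tensorMod M (CohB1.tensorPow L n)))) := by
  classical
  have key : ∀ W : X.affineOpens, ∃ n₀ : ℕ, ∀ n, n₀ ≤ n → ∀ q : ℕ, 0 < q →
      Subsingleton (Coh.HH (f ⁻¹ᵁ W.1 : Y.Opens).toScheme
        ((CohB1.tensorMod M (CohB1.tensorPow L n)).restrict (f ⁻¹ᵁ W.1).ι) q) := by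
    intro W
    haveI : IsNoetherianRing Γ(X, W.1) := IsLocallyNoetherian.component_noetherian W
    haveI : IsAffine W.1.toScheme := W.2
    haveI : IsSeparated (terminal.from X) := inferInstanceAs (IsSeparated (terminal.from X))
    haveI : IsAffineHom W.1.ι :=
      MorphismProperty.of_postcomp @IsAffineHom W.1.ι (terminal.from X) ‹IsSeparated (terminal.from X)›
        inferInstance
    haveI : IsAffineHom (f ⁻¹ᵁ W.1).ι :=
      MorphismProperty.of_isPullback (isPullback_morphismRestrict f W.1) ‹IsAffineHom W.1.ι›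
    haveI : IsProper (Groth.CohBase.preimageToSpec f (V := W.1)) :=
      MorphismProperty.of_isPullback (Groth.CohBase.isPullback_preimageToSpec f W.2) ‹IsProper f›
    obtain ⟨n₀, hn⟩ := Groth.PnCoh.exists_subsingleton_of_isAmple
      (Groth.CohBase.preimageToSpec f (V := W.1))
      (Groth.Chow.isAmple_pullback_of_isAffineHom (f ⁻¹ᵁ W.1).ι hL) _
      (Groth.FlatStrata.isCoh_pullback (f ⁻¹ᵁ W.1).ι hM)
    refine ⟨n₀, fun n hn' q hq => sub_of_iso ?_ (hn n hn' q hq)⟩
    exact ((Scheme.Modules.restrictFunctorIsoPullback (f ⁻¹ᵁ W.1).ι).app _ ≪≫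
      (Groth.FlatStrata.nonempty_pullback_tw (f ⁻¹ᵁ W.1).ι M L n).some).symm
  choose n₀ hn using key
  obtain ⟨t, ht⟩ := CompactSpace.isCompact_univ.elim_finite_subcover
    (fun W : X.affineOpens => (W.1 : Set X)) (fun W => W.1.2)
    (fun x _ => by
      obtain ⟨W, hW, hxW, -⟩ := Opens.isBasis_iff_nbhd.1 X.isBasis_affineOpens (Opens.mem_top x)
      exact Set.mem_iUnion.2 ⟨⟨W, hW⟩, hxW⟩)
  refine ⟨t.sup n₀, fun n hn' q => isZero_of_stalk_sub fun x => ?_⟩
  obtain ⟨W, hW⟩ := Set.mem_iUnion.1 (ht (Set.mem_univ x))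
  obtain ⟨hWt, hxW⟩ := Set.mem_iUnion.1 hW
  haveI : IsLocallyNoetherian Y := LocallyOfFiniteType.isLocallyNoetherian f
  haveI : Coh.IsQCoh (CohB1.tensorMod M (CohB1.tensorPow L n)) :=
    haveI := hM.1
    haveI := Groth.PicAux.isQCoh_of_isInvertible (Groth.PicAux.isInvertible_tensorPow hL.1 n)
    Groth.QCohMod.isQCoh_tensorMod
  exact AddCommGrpCat.subsingleton_of_isZero (Groth.Limits.FibreVanishing.isZero_stalk_RpushAb f _ (q + 1)
    W.2 x hxW fun ξ => ⟨1, by rw [Scheme.basicOpen_one]; exact hxW,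
      @Subsingleton.elim _ (hn W n ((Finset.le_sup hWt).trans hn') (q + 1) q.succ_pos) _ _⟩)

end Groth.ResPropLib
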