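import Groth.Agent.ResPropLib.TopDegreePush
import Groth.Agent.ResPropLib.PushVanish
import Groth.Agent.CohBase.IdealOfClosed
import Groth.Agent.PicAux.Powers
import Groth.Agent.PicAux.PullTensor
import Groth.Agent.RefRank.Divisor

/-!
# Birational morphisms and twists: comparison over a thick open
-/

set_option autoImplicit false
set_option backward.isDefEq.respectTransparency false

universe u

open CategoryTheory CategoryTheory.Limits AlgebraicGeometry TopologicalSpace Opposite
open Groth.QCohMod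
open Groth.CohTwo.SheafHomIso (evalHom)

namespace Groth.ResPropLib

variable {X Y : Scheme.{u}}

/-- Tensor powers of coherent modules are coherent. -/
lemma isCoh_pow [IsLocallyNoetherian X] {F : X.Modules} (hF : Coh.IsCoh F) :
    ∀ n : ℕ, Coh.IsCoh (CohB1.tensorPow F n)
  | 0 => Groth.QCohMod.isCoh_unit (X := X)
  | n + 1 => Groth.RefRank.isCoh_tensorMod (isCoh_pow hF n) hF

/-- Isomorphic restrictions stay isomorphic on smaller opens. -/
lemma nonempty_pullback_of_restrict {O' O'' : X.Opens} (h : O' ≤ O'') {M N : X.Modules}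
    (e : Nonempty (M.restrict O''.ι ≅ N.restrict O''.ι)) :
    Nonempty ((Scheme.Modules.pullback O'.ι).obj M ≅ (Scheme.Modules.pullback O'.ι).obj N) := by
  obtain ⟨e⟩ := e
  let R := Scheme.Modules.restrictFunctorIsoPullback O''.ι
  let p := Scheme.Modules.pullbackComp (X.homOfLE h) O''.ι
  let q := Scheme.Modules.pullbackCongr (X.homOfLE_ι h)
  exact ⟨q.symm.app M ≪≫ p.symm.app M ≪≫ (Scheme.Modules.pullback (X.homOfLE h)).mapIso
    ((R.app M).symm ≪≫ e ≪≫ R.app N) ≪≫ p.app N ≪≫ q.app N⟩

/-- Over an open where `f^*F ≅ L` the twists by the powers agree. -/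
lemma nonempty_twist_restrict (f : Y ⟶ X) (F : X.Modules) (L M : Y.Modules) (n : ℕ) {O : Y.Opens}
    (e : Nonempty ((Scheme.Modules.pullback O.ι).obj ((Scheme.Modules.pullback f).obj F) ≅
      (Scheme.Modules.pullback O.ι).obj L)) :
    Nonempty ((CohB1.tensorMod (CohB1.tensorPow L n) M).restrict O.ι ≅
      (CohB1.tensorMod ((Scheme.Modules.pullback f).obj (CohB1.tensorPow F n)) M).restrict O.ι) := by
  obtain ⟨e⟩ := e
  let R := Scheme.Modules.restrictFunctorIsoPullback O.ι
  obtain ⟨a⟩ := PicAux.pullback_tensorPow O.ι L n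
  obtain ⟨b⟩ := PicAux.pullback_tensorPow f F n
  obtain ⟨c⟩ := PicAux.pullback_tensorPow O.ι ((Scheme.Modules.pullback f).obj F) n
  obtain ⟨d⟩ := PicAux.nonempty_tensorPow_iso e n
  obtain ⟨t₁, -⟩ := PicAux.exists_pullback_tensorMod O.ι (CohB1.tensorPow L n) M
  obtain ⟨t₂, -⟩ := PicAux.exists_pullback_tensorMod O.ι
    ((Scheme.Modules.pullback f).obj (CohB1.tensorPow F n)) M
  exact ⟨R.app _ ≪≫ t₁ ≪≫ PicGrp.tensorModIso (a ≪≫ d.symm ≪≫ c.symm ≪≫
    (Scheme.Modules.pullback O.ι).mapIso b.symm) (Iso.refl _) ≪≫ t₂.symm ≪≫ (R.app _).symm⟩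

/-- Evaluation from the direct image of the structure module is surjective where `f` is an
isomorphism. -/
lemma evalHom_pushUnit_surjective [IsLocallyNoetherian X] (f : Y ⟶ X)
    (hG₀ : Coh.IsCoh ((Scheme.Modules.pushforward f).obj (Coh.structureModule Y)))
    (U : X.Opens) (hiso : IsIso (f ∣_ U)) (G : X.Modules) (x : X) (hx : x ∈ U) :
    Function.Surjective ((stalk x).map
      (evalHom ((Scheme.Modules.pushforward f).obj (Coh.structureModule Y)) G)) := by
  refine evalHom_stalk_surjective_of_iso hG₀ x (CohBase.unitPush f)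
    (stalk_bijective_of_affine _ U (fun W hle _ => ?_) x hx)
  have h : IsIso ((f ∣_ U).app (U.ι ⁻¹ᵁ W)) := inferInstance
  rw [morphismRestrict_app] at h
  rw [isIso_comp_right_iff] at h
  have h2 : IsIso (f.app (U.ι ''ᵁ U.ι ⁻¹ᵁ W)) := h
  have e : U.ι ''ᵁ U.ι ⁻¹ᵁ W = W := by
    rw [Scheme.Hom.image_preimage_eq_opensRange_inf, Scheme.Opens.opensRange_ι]
    exact inf_eq_right.2 hle
  rw [e] at h2
  have h3 : Function.Bijective (f.app W) := (ConcreteCategory.isIso_iff_bijective _).1 h2
  exact h3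

end Groth.ResPropLib
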