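import Groth.Agent.ResPropLib.TopDegree
import Groth.Agent.CohTwo.CohInduction
import Groth.Agent.QCohMod.ClosedImm
import Groth.Agent.QCohMod.Coherent
import Groth.Agent.QCohMod.OpenSupport
import Groth.Agent.CohBase.AffinePush

/-!
# Cohomology of coherent modules isomorphic off a closed subscheme of bounded cohomological dimension
-/

set_option autoImplicit false
set_option backward.isDefEq.respectTransparency false

universe u

open CategoryTheory CategoryTheory.Limits AlgebraicGeometry TopologicalSpace Opposite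
open CategoryTheory.Abelian (Ext)
open Groth.QCohMod

namespace Groth.ResPropLib

open Groth.CohBase

variable {X : Scheme.{u}}

/-- In a short exact sequence with small outer left term the right map is bijective on `H^p`. -/
lemma equiv_right {S : ShortComplex X.Modules} (hS : S.ShortExact) {p : ℕ}
    (h₁ : Subsingleton (Coh.HH X S.X₁ p)) (h₁' : Subsingleton (Coh.HH X S.X₁ (p + 1))) :
    Nonempty (Coh.HH X S.X₂ p ≃+ Coh.HH X S.X₃ p) := by
  let φ : Coh.HH X S.X₂ p →+ Coh.HH X S.X₃ p :=
    AddMonoidHom.mk' (fun x => (x : Ext (constZ X.toTopCat) ((toAbF X).obj S.X₂) p).comp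
      (Ext.mk₀ (S.map (toAbF X)).g) (add_zero p)) fun a b => Ext.add_comp a b (Ext.mk₀ _) _
  refine ⟨AddEquiv.ofBijective φ ⟨(injective_iff_map_eq_zero φ).2 fun x hx => ?_, fun x => ?_⟩⟩
  · obtain ⟨y, hy⟩ := Ext.covariant_sequence_exact₂ (constZ X.toTopCat) (shortExact_toAb hS)
      (x : Ext (constZ X.toTopCat) ((toAbF X).obj S.X₂) p) hx
    rw [← hy, @Subsingleton.elim _ h₁ y 0, Ext.zero_comp]
  · obtain ⟨y, hy⟩ := Ext.covariant_sequence_exact₃ (constZ X.toTopCat) (shortExact_toAb hS)
      (x : Ext (constZ X.toTopCat) ((toAbF X).obj S.X₃) p) rfl (vanish_elim h₁' _)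
    exact ⟨y, hy⟩

/-- In a short exact sequence with small right term the left map is bijective on `H^(p+1)`. -/
lemma equiv_left {S : ShortComplex X.Modules} (hS : S.ShortExact) {p : ℕ}
    (h₃ : Subsingleton (Coh.HH X S.X₃ p)) (h₃' : Subsingleton (Coh.HH X S.X₃ (p + 1))) :
    Nonempty (Coh.HH X S.X₁ (p + 1) ≃+ Coh.HH X S.X₂ (p + 1)) := by
  let φ : Coh.HH X S.X₁ (p + 1) →+ Coh.HH X S.X₂ (p + 1) :=
    AddMonoidHom.mk' (fun x => (x : Ext (constZ X.toTopCat) ((toAbF X).obj S.X₁) (p + 1)).comp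
      (Ext.mk₀ (S.map (toAbF X)).f) (add_zero (p + 1))) fun a b => Ext.add_comp a b (Ext.mk₀ _) _
  refine ⟨AddEquiv.ofBijective φ ⟨(injective_iff_map_eq_zero φ).2 fun x hx => ?_, fun x => ?_⟩⟩
  · obtain ⟨y, hy⟩ := Ext.covariant_sequence_exact₁ (constZ X.toTopCat) (shortExact_toAb hS)
      (x : Ext (constZ X.toTopCat) ((toAbF X).obj S.X₁) (p + 1)) hx rfl
    rw [← hy, @Subsingleton.elim _ h₃ y 0, Ext.zero_comp]
  · obtain ⟨y, hy⟩ := Ext.covariant_sequence_exact₂ (constZ X.toTopCat) (shortExact_toAb hS)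
      (x : Ext (constZ X.toTopCat) ((toAbF X).obj S.X₂) (p + 1)) (vanish_elim h₃' _)
    exact ⟨y, hy⟩

/-- A morphism with small kernel and cokernel is bijective on cohomology in high degrees. -/
theorem equiv_of_small_ker_coker {A B : X.Modules} (φ : A ⟶ B) {p : ℕ}
    (hK : ∀ q, p ≤ q → Subsingleton (Coh.HH X (kernel φ) q))
    (hC : ∀ q, p ≤ q → Subsingleton (Coh.HH X (cokernel φ) q)) {i : ℕ} (hi : p + 1 ≤ i) :
    Nonempty (Coh.HH X A i ≃+ Coh.HH X B i) := by
  obtain ⟨j, rfl⟩ : ∃ j, i = j + 1 := ⟨i - 1, by omega⟩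
  have hS : (ShortComplex.mk (kernel.ι φ) (Abelian.factorThruImage φ) (by
      rw [← cancel_mono (Abelian.image.ι φ)]; simp)).ShortExact :=
    { exact := ShortComplex.exact_of_f_is_kernel _ <| by
        refine KernelFork.IsLimit.ofι' _ _ fun {W} l hl => ?_
        exact ⟨kernel.lift φ l (by rw [← Abelian.image.fac φ, ← Category.assoc, hl, zero_comp]),
          kernel.lift_ι _ _ _⟩ }
  have hT : (ShortComplex.mk (Abelian.image.ι φ) (cokernel.π φ)
      (kernel.condition _)).ShortExact :=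
    { exact := ShortComplex.exact_of_f_is_kernel _ (kernelIsKernel _) }
  obtain ⟨a⟩ := equiv_right hS (hK (j + 1) (by omega)) (hK _ (by omega))
  obtain ⟨b⟩ := equiv_left hT (hC j (by omega)) (hC _ (by omega))
  exact ⟨a.trans b⟩

/-- Coherent modules supported on a closed subscheme inherit its cohomological bound. -/
theorem subsingleton_of_support_closed [IsNoetherian X] {Z : Scheme.{u}} (ι : Z ⟶ X)
    [IsClosedImmersion ι] (k : ℕ)
    (hcd : ∀ G : Z.Modules, Coh.IsQCoh G → ∀ i : ℕ, k + 1 ≤ i → Subsingleton (Coh.HH Z G i))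
    (M : X.Modules) (hM : Coh.IsCoh M) (hs : CohB1.support M ⊆ Set.range ι.base) :
    ∀ i, k + 1 ≤ i → Subsingleton (Coh.HH X M i) := by
  refine Groth.CohTwo.coh_induction (fun M => ∀ i, k + 1 ≤ i → Subsingleton (Coh.HH X M i))
    (fun M N ⟨e⟩ h i hi => sub_of_iso e (h i hi)) (fun M h i _ => sub_of_isZero h i)
    (fun S hS _ _ _ h₁ h₃ i hi => sub_mid hS (h₁ i hi) (h₃ i hi)) (Set.range ι.base) ?_
    ι.isClosedEmbedding.isClosed_range M hM hs
  intro Y ξ hY hYsub F hF hk _ i hi
  haveI := hF.1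
  have hle : ι.ker ≤ Scheme.IdealSheafData.vanishingIdeal Y := by
    rw [← Scheme.IdealSheafData.le_support_iff_le_vanishingIdeal]
    intro y hy
    show y ∈ (ι.ker.support : Set X)
    rw [Scheme.Hom.support_ker]
    exact subset_closure (hYsub hy)
  haveI : IsIso ((Scheme.Modules.pullbackPushforwardAdjunction ι).unit.app F) :=
    (isIso_unit_closedImmersion_iff ι F).2 fun U a ha s => hk.smul_eq_zero U.2 (hle U ha) s
  haveI : ((Scheme.Modules.pullback ι).obj F).IsQuasicoherent := inferInstance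
  obtain ⟨e⟩ := Groth.CohBase.nonempty_equiv_H_push ι ((Scheme.Modules.pullback ι).obj F) i
  exact sub_of_iso (asIso ((Scheme.Modules.pullbackPushforwardAdjunction ι).unit.app F)).symm
    (@Equiv.subsingleton _ _ e.toEquiv (hcd _ inferInstance i hi))

/-- Coherent modules isomorphic off `Z` have the same cohomology in high degrees. -/
theorem nonempty_equiv_of_iso_off [IsNoetherian X] {Z : Scheme.{u}} (ι : Z ⟶ X) [IsClosedImmersion ι]
    (k : ℕ) (hcd : ∀ G : Z.Modules, Coh.IsQCoh G → ∀ i : ℕ, k + 1 ≤ i → Subsingleton (Coh.HH Z G i))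
    (U : X.Opens) (hU : (U : Set X) = (Set.range ι.base)ᶜ) (F F' : X.Modules) (hF : Coh.IsCoh F)
    (hF' : Coh.IsCoh F') (e : F.restrict U.ι ≅ F'.restrict U.ι) (i : ℕ) (hi : k + 2 ≤ i) :
    Nonempty (Coh.HH X F i ≃+ Coh.HH X F' i) := by
  haveI := hF.1
  haveI := hF'.1
  let N := (Scheme.Modules.pushforward U.ι).obj (F'.restrict U.ι)
  haveI : (F'.restrict U.ι).IsQuasicoherent := inferInstance
  haveI : N.IsQuasicoherent := isQCoh_pushforward (M := F'.restrict U.ι) U.ι
  let a : F ⟶ N := openUnit U F ≫ (Scheme.Modules.pushforward U.ι).map e.hom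
  let b : F' ⟶ N := openUnit U F'
  have hiso : ∀ x ∈ U, IsIso ((stalk x).map a) ∧ IsIso ((stalk x).map b) := fun x hx => by
    haveI := isIso_stalk_openUnit U F hx
    refine ⟨?_, isIso_stalk_openUnit U F' hx⟩
    simp only [a, Functor.map_comp]
    infer_instance
  let P := pullback a b
  have hP : Coh.IsCoh P := by
    have hc := isCoh_kernel (biprod.desc a (-b)) (isCoh_biprod hF hF')
    exact isCoh_of_iso (IsLimit.conePointUniqueUpToIso
      (Abelian.PullbackToBiproductIsKernel.isLimitPullbackToBiproduct a b)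
      (kernelIsKernel (biprod.desc a (-b)))).symm hc
  haveI := hP.1
  have hp : ∀ x ∈ U, Function.Bijective ((stalk x).map (pullback.fst a b)) ∧
      Function.Bijective ((stalk x).map (pullback.snd a b)) := fun x hx => by
    haveI := (hiso x hx).1
    haveI := (hiso x hx).2
    have sq := (IsPullback.of_hasPullback a b).map (stalk x)
    haveI := sq.isIso_snd_of_isIso
    haveI := sq.isIso_fst_of_isIso
    exact ⟨(ConcreteCategory.isIso_iff_bijective _).1 inferInstance,
      (ConcreteCategory.isIso_iff_bijective _).1 inferInstance⟩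
  have hmem : ∀ x ∉ Set.range ι.base, x ∈ U := fun x hx => by
    show x ∈ (U : Set X)
    rw [hU]
    exact hx
  have main : ∀ {B : X.Modules}, Coh.IsCoh B → ∀ φ : P ⟶ B,
      (∀ x ∈ U, Function.Bijective ((stalk x).map φ)) →
      Nonempty (Coh.HH X P i ≃+ Coh.HH X B i) := fun hB φ hφ => by
    haveI := hB.1
    exact equiv_of_small_ker_coker φ (p := k + 1)
      (fun q hq => subsingleton_of_support_closed ι k hcd _ (isCoh_kernel φ hP)
        (support_ker_subset φ fun x hx => (hφ x (hmem x hx)).1) q hq)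
      (fun q hq => subsingleton_of_support_closed ι k hcd _ (isCoh_cokernel φ hB)
        (support_coker_subset φ fun x hx => (hφ x (hmem x hx)).2) q hq) hi
  obtain ⟨e₁⟩ := main hF (pullback.fst a b) fun x hx => (hp x hx).1
  obtain ⟨e₂⟩ := main hF' (pullback.snd a b) fun x hx => (hp x hx).2
  exact ⟨e₁.symm.trans e₂⟩

end Groth.ResPropLib
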