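import Groth.Agent.PicAux.Cocycle
import Groth.Agent.PicAux.GenLocus
import Groth.Agent.PicAux.GenLocusOps
import Groth.Agent.PicAux.Powers
import Groth.Agent.QCohMod.FTCriterion
import Groth.Prelude.Def_MoreMor

/-!
# The invertible module glued from a principal open and small charts
-/

set_option autoImplicit false
set_option backward.isDefEq.respectTransparency false

universe u

open CategoryTheory AlgebraicGeometry Opposite TopologicalSpace
open Groth.PicAux

namespace Groth.ResPropLib

variable {X : Scheme.{u}}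

/-- Gluing along units prescribed on the intersections with one member of the cover. -/
theorem exists_chartBundle {J : Type u} (U0 : X.Opens) (W : J → X.Opens)
    (hcov : U0 ⊔ iSup W = ⊤) (hdisj : ∀ i k, i ≠ k → W i ⊓ W k ≤ U0)
    (τ : ∀ i, Γ(X, W i ⊓ U0)) (hτ : ∀ i, IsUnit (τ i)) :
    ∃ L : X.Modules, PicF.IsInvertible L ∧
      ∀ (f0 : Γ(X, U0)) (f : ∀ i, Γ(X, W i)),
        (∀ i, resX X (inf_le_left : W i ⊓ U0 ≤ W i) (f i) =
          τ i * resX X (inf_le_right : W i ⊓ U0 ≤ U0) f0) →
        ∃ s : Coh.structureModule X ⟶ L, CohB1.genLocus L s ⊓ U0 = X.basicOpen f0 ∧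
          ∀ i, CohB1.genLocus L s ⊓ W i = X.basicOpen (f i) := by
  classical
  let U : Option J → X.Opens := fun a => a.elim U0 W
  let g : ∀ a, Γ(X, U a ⊓ U0) := fun a => match a with
    | none => 1
    | some i => τ i
  have hg : ∀ a, IsUnit (g a) := fun a => by
    cases a with
    | none => exact isUnit_one
    | some i => exact hτ i
  have hle : ∀ a b, a ≠ b → U a ⊓ U b ≤ U0 := fun a b h => by
    cases a with
    | none => exact inf_le_left
    | some i => cases b with
      | none => exact inf_le_right
      | some k => exact hdisj i k (fun e => h (congrArg some e))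
  let gi : ∀ a, Γ(X, U a ⊓ U0) := fun a => ((hg a).unit⁻¹ : (Γ(X, U a ⊓ U0))ˣ).1
  have hgi : ∀ a, gi a * g a = 1 := fun a => (hg a).val_inv_mul
  let η : ∀ a b, Γ(X, U a ⊓ U b) := fun a b => if h : a = b then 1 else
    resX X (le_inf inf_le_left (hle a b h)) (gi a) * resX X (le_inf inf_le_right (hle a b h)) (g b)
  have hU : iSup U = ⊤ := by
    rw [iSup_option]
    exact hcov
  have hunit : ∀ a b, IsUnit (η a b) := fun a b => by
    simp only [η]
    split_ifs with h
    · exact isUnit_one
    · exact ((Units.isUnit _).map _).mul ((hg b).map _)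
  have hη : ∀ a b c : Option J,
      resX X (inf_le_inf_right (U c) inf_le_left : U a ⊓ U b ⊓ U c ≤ U a ⊓ U c) (η a c) =
        resX X (inf_le_left : U a ⊓ U b ⊓ U c ≤ U a ⊓ U b) (η a b) *
          resX X (inf_le_inf_right (U c) inf_le_right : U a ⊓ U b ⊓ U c ≤ U b ⊓ U c) (η b c) := by
    intro a b c
    by_cases hab : a = b
    · subst hab
      simp [η]
    by_cases hbc : b = c
    · subst hbc
      simp [η]
    have hT : U a ⊓ U b ⊓ U c ≤ U0 := inf_le_left.trans (hle a b hab)
    have hcanc : ∀ (d : Option J) (h : U a ⊓ U b ⊓ U c ≤ U d ⊓ U0),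
        resX X h (g d) * resX X h (gi d) = 1 := fun d h => by
      rw [← map_mul, mul_comm, hgi, map_one]
    by_cases hac : a = c
    · subst hac
      simp only [η, dif_pos, dif_neg hab, dif_neg hbc, map_one, map_mul, resX_resX]
      have e1 := hcanc a (le_inf (inf_le_left.trans inf_le_left) hT)
      have e2 := hcanc b (le_inf (inf_le_left.trans inf_le_right) hT)
      linear_combination (-(resX X (le_inf (inf_le_left.trans inf_le_right) hT) (g b) *
        resX X (le_inf (inf_le_left.trans inf_le_right) hT) (gi b))) * e1 - e2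
    simp only [η, dif_neg hab, dif_neg hbc, dif_neg hac, map_mul, resX_resX]
    rw [mul_assoc, ← mul_assoc (resX X _ (g b)), hcanc b, one_mul]
  obtain ⟨L, s, hs, hL, hrel⟩ := exists_module_of_cocycle U η hU hunit hη
  refine ⟨L, hL, fun f0 f hf => ?_⟩
  let F : ∀ a, Γ(X, U a) := fun a => match a with
    | none => f0
    | some i => f i
  have hFg : ∀ a (T : X.Opens) (h : T ≤ U a ⊓ U0),
      resX X (h.trans inf_le_left) (F a) = resX X h (g a) * resX X (h.trans inf_le_right) f0 := by
    intro a T h
    cases a with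
    | none =>
      have e : resX X h (g none) = 1 := map_one _
      rw [e, one_mul]
      rfl
    | some i =>
      have h' : T ≤ W i ⊓ U0 := h
      have e := congrArg (resX X h') (hf i)
      rw [map_mul, resX_resX, resX_resX] at e
      exact e
  have hcompat : ∀ a b, res L (inf_le_left : U a ⊓ U b ≤ U a) (F a • s a) =
      res L (inf_le_right : U a ⊓ U b ≤ U b) (F b • s b) := by
    intro a b
    rw [res_smul, res_smul, hrel a b, ← mul_smul]
    congr 1
    by_cases hab : a = b
    · subst hab
      simp [η]
    · simp only [η, dif_neg hab]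
      rw [hFg a _ (le_inf inf_le_left (hle a b hab)), hFg b _ (le_inf inf_le_right (hle a b hab))]
      have e1 : resX X (le_inf inf_le_left (hle a b hab)) (g a) *
          resX X (le_inf inf_le_left (hle a b hab)) (gi a) = 1 := by
        rw [← map_mul, mul_comm, hgi, map_one]
      linear_combination (resX X (hle a b hab) f0 *
        resX X (le_inf inf_le_right (hle a b hab)) (g b)) * e1
  obtain ⟨t, ht, -⟩ := res_glue U (fun _ => le_top) hU.ge (fun a => F a • s a) hcompat
  have hloc : ∀ a, CohB1.genLocus L (Groth.QCohMod.secHom L t) ⊓ U a = X.basicOpen (F a) := fun a => by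
    refine genLocus_inf_eq_basicOpen (hs a) ?_
    have e1 : gsec (Groth.QCohMod.secHom L t) = t :=
      (Groth.QCohMod.secHom_app_one L t ⊤).trans (res_self _ t)
    rw [e1]
    exact ht a
  exact ⟨Groth.QCohMod.secHom L t, hloc none, fun i => hloc (some i)⟩

/-- A family of sections with affine loci gives an ample family. -/
theorem hasAmpleFamily_of_sections [CompactSpace X]
    (h : ∀ x : X, ∃ (L : X.Modules) (s : Coh.structureModule X ⟶ L),
      PicF.IsInvertible L ∧ x ∈ CohB1.genLocus L s ∧ IsAffineOpen (CohB1.genLocus L s)) :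
    MoreMor.HasAmpleFamily X := by
  refine ⟨inferInstance, fun x => ?_⟩
  obtain ⟨L, s, hL, hx, ha⟩ := h x
  obtain ⟨e⟩ := Groth.PicAux.tensorPow_one L
  refine ⟨L, 1, s ≫ e.inv, hL, le_rfl, ?_⟩
  rw [show s ≫ e.inv = s ≫ e.symm.hom from rfl, genLocus_comp_iso s e.symm]
  exact ⟨hx, ha⟩

end Groth.ResPropLib
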