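import Groth.Agent.PropsBasic.AmpleBasis
import Groth.Agent.PicAux.Pullback
import Groth.Agent.PicAux.PullTensor
import Groth.Agent.PicAux.Cocycle

/-!
# Descending invertible modules and sections along a morphism which is an isomorphism over an open
-/

set_option autoImplicit false
set_option backward.isDefEq.respectTransparency false

universe u

open CategoryTheory AlgebraicGeometry Opposite TopologicalSpace
open Groth.PicAux Groth.PropsBasic.Ample

namespace Groth.ResPropLib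

variable {X X' : Scheme.{u}} (g : X' ⟶ X) (U : X.Opens) [IsIso (g ∣_ U)]

/-- Over `U` the functions are the same. -/
theorem app_bijective_of_le {W : X.Opens} (h : W ≤ U) : Function.Bijective (g.app W) := by
  have e : U.ι ''ᵁ (U.ι ⁻¹ᵁ W) = W := by
    rw [Scheme.Hom.image_preimage_eq_opensRange_inf, Scheme.Opens.opensRange_ι, inf_eq_right.mpr h]
  have h1 : IsIso ((g ∣_ U).app (U.ι ⁻¹ᵁ W)) := inferInstance
  rw [morphismRestrict_app] at h1
  have h2 : IsIso (g.app (U.ι ''ᵁ (U.ι ⁻¹ᵁ W))) := IsIso.of_isIso_comp_right (g.app _) (X'.presheaf.map (eqToHom (image_morphismRestrict_preimage g U _)).op)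
  rw [e] at h2
  exact ConcreteCategory.bijective_of_isIso (g.app W)

theorem existsUnique_preimage_of_mem {y : X} (hy : y ∈ U) : ∃! z : X', g z = y := by
  have hb := ConcreteCategory.bijective_of_isIso (g ∣_ U).base
  obtain ⟨z, hz⟩ := hb.2 ⟨y, hy⟩
  have hz' : g z.1 = y := (morphismRestrict_base_coe g U z).symm.trans (congrArg Subtype.val hz)
  refine ⟨z.1, hz', fun w hw => ?_⟩
  have hw' : g w ∈ U := hw ▸ hy
  have := hb.1 (a₁ := ⟨w, hw'⟩) (a₂ := z) (Subtype.ext
    ((morphismRestrict_base_coe g U ⟨w, hw'⟩).trans (hw.trans (congrArg Subtype.val hz).symm)))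
  exact congrArg Subtype.val this

theorem exists_nhd_preimage_le {y : X} (hy : y ∈ U) {B : X'.Opens} (hB : ∀ z, g z = y → z ∈ B) :
    ∃ A : X.Opens, y ∈ A ∧ A ≤ U ∧ g ⁻¹ᵁ A ≤ B := by
  let h : (U : Scheme.{u}) ⟶ X' := inv (g ∣_ U) ≫ (g ⁻¹ᵁ U).ι
  have hh : ∀ z : X', ∀ hz : g z ∈ U, h ⟨g z, hz⟩ = z := fun z hz => by
    have h1 : (g ∣_ U) ⟨z, hz⟩ = (⟨g z, hz⟩ : (U : Scheme.{u})) :=
      Subtype.ext (morphismRestrict_base_coe g U ⟨z, hz⟩)
    rw [← h1]
    change ((g ∣_ U) ≫ inv (g ∣_ U) ≫ (g ⁻¹ᵁ U).ι) ⟨z, hz⟩ = z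
    rw [IsIso.hom_inv_id_assoc]
    rfl
  refine ⟨U.ι ''ᵁ (h ⁻¹ᵁ B), ?_, U.ι_image_le _, fun z hz => ?_⟩
  · obtain ⟨z, hz, -⟩ := existsUnique_preimage_of_mem g U hy
    subst hz
    refine ⟨⟨g z, hy⟩, ?_, rfl⟩
    show h ⟨g z, hy⟩ ∈ B
    rw [hh z hy]
    exact hB z rfl
  · obtain ⟨w, hw, hwz⟩ := hz
    have hgz : g z ∈ U := U.ι_image_le _ ⟨w, hw, hwz⟩
    have hwe : w = ⟨g z, hgz⟩ := Subtype.ext hwz
    subst hwe
    rw [← hh z hgz]
    exact hw

/-- An invertible module trivialised over the complement of `U` descends. -/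
theorem exists_descended_line (Ω : X.Opens) (hcov : U ⊔ Ω = ⊤) {M : X'.Modules}
    (hM : PicF.IsInvertible M) (σ : Γ(M, g ⁻¹ᵁ Ω)) (hσ : Gen M (g ⁻¹ᵁ Ω) σ) :
    ∃ (L : X.Modules) (e : Γ(L, Ω)) (θ : (Scheme.Modules.pullback g).obj L ≅ M),
      PicF.IsInvertible L ∧ Gen L Ω e ∧ θ.hom.app (g ⁻¹ᵁ Ω) (pullSec g L e) = σ := by
  classical
  obtain ⟨B, m, -, hxB, hm⟩ := Groth.PicAux.exists_gen_cover hM
  have hAex : ∀ y : {y : X // y ∈ U}, ∃ (A : X.Opens) (z : X'),
      (y : X) ∈ A ∧ A ≤ U ∧ g ⁻¹ᵁ A ≤ B z := fun y => by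
    obtain ⟨z, hz, huniq⟩ := existsUnique_preimage_of_mem g U y.2
    obtain ⟨A, h1, h2, h3⟩ := exists_nhd_preimage_le g U y.2 (B := B z)
      (fun w hw => huniq w hw ▸ hxB z)
    exact ⟨A, z, h1, h2, h3⟩
  choose A z hyA hAU hAB using hAex
  let V : Option {y : X // y ∈ U} → X.Opens := fun a => a.elim Ω A
  let s : ∀ a, Γ(M, g ⁻¹ᵁ V a) := fun a => match a with
    | none => σ
    | some y => res M (hAB y) (m (z y))
  have hs : ∀ a, Gen M (g ⁻¹ᵁ V a) (s a) := fun a => by
    cases a with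
    | none => exact hσ
    | some y => exact (hm (z y)).res (hAB y)
  have hle : ∀ a b, a ≠ b → V a ⊓ V b ≤ U := fun a b hab => by
    cases a with
    | some y => exact inf_le_left.trans (hAU y)
    | none => cases b with
      | some y => exact inf_le_right.trans (hAU y)
      | none => exact absurd rfl hab
  have hηex : ∀ a b, ∃ η : Γ(X, V a ⊓ V b), IsUnit η ∧ (a = b → η = 1) ∧
      res M (g.preimage_mono (inf_le_left : V a ⊓ V b ≤ V a)) (s a) =
        g.app (V a ⊓ V b) η • res M (g.preimage_mono (inf_le_right : V a ⊓ V b ≤ V b)) (s b) := by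
    intro a b
    by_cases hab : a = b
    · subst hab
      exact ⟨1, isUnit_one, fun _ => rfl, by rw [map_one, one_smul]⟩
    · obtain ⟨ε, hε⟩ := ((hs b).res (g.preimage_mono (inf_le_right : V a ⊓ V b ≤ V b))).exists_unit
        ((hs a).res (g.preimage_mono (inf_le_left : V a ⊓ V b ≤ V a)))
      let E := RingEquiv.ofBijective (g.app (V a ⊓ V b)).hom (app_bijective_of_le g U (hle a b hab))
      refine ⟨E.symm ε, ε.isUnit.map E.symm, fun h => absurd h hab, ?_⟩
      rw [show g.app (V a ⊓ V b) (E.symm ε) = ε from E.apply_symm_apply _]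
      exact hε
  choose η hunit hη1 hη using hηex
  have hV : iSup V = ⊤ := by
    refine eq_top_iff.mpr fun y _ => ?_
    rcases (show y ∈ U ⊔ Ω by rw [hcov]; trivial) with hy | hy
    · exact Opens.mem_iSup.mpr ⟨some ⟨y, hy⟩, hyA _⟩
    · exact Opens.mem_iSup.mpr ⟨none, hy⟩
  have happ : ∀ {P Q : X.Opens} (h : Q ≤ P) (r : Γ(X, P)),
      g.app Q (resX X h r) = resX X' (g.preimage_mono h) (g.app P r) :=
    fun h r => congr($(g.naturality (homOfLE h).op) r)
  have hres : ∀ a b (T : X.Opens) (ha : T ≤ V a) (hb : T ≤ V b),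
      res M (g.preimage_mono ha) (s a) =
        g.app T (resX X (le_inf ha hb) (η a b)) • res M (g.preimage_mono hb) (s b) := fun a b T ha hb => by
    have := congrArg (res M (g.preimage_mono (le_inf ha hb))) (hη a b)
    rw [res_smul, res_res, res_res] at this
    rw [happ]
    exact this
  have hcoc : ∀ a b c,
      resX X (inf_le_inf_right (V c) inf_le_left : V a ⊓ V b ⊓ V c ≤ V a ⊓ V c) (η a c) =
        resX X (inf_le_left : V a ⊓ V b ⊓ V c ≤ V a ⊓ V b) (η a b) *
          resX X (inf_le_inf_right (V c) inf_le_right : V a ⊓ V b ⊓ V c ≤ V b ⊓ V c) (η b c) := by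
    intro a b c
    by_cases hab : a = b
    · subst hab
      rw [hη1 a a rfl, map_one, one_mul]
    apply (app_bijective_of_le g U (inf_le_left.trans (hle a b hab))).1
    refine (hs c).smul_inj (g.preimage_mono (inf_le_right : V a ⊓ V b ⊓ V c ≤ V c)) ?_
    rw [map_mul, mul_smul]
    rw [← hres a c _ (inf_le_left.trans inf_le_left) inf_le_right,
      ← hres b c _ (inf_le_left.trans inf_le_right) inf_le_right,
      ← hres a b _ (inf_le_left.trans inf_le_left) (inf_le_left.trans inf_le_right)]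
  obtain ⟨L, t, ht, hL, hrel⟩ := exists_module_of_cocycle V η hV hunit hcoc
  have hV' : iSup (fun a => g ⁻¹ᵁ V a) = ⊤ := by
    rw [← Scheme.Hom.preimage_iSup, hV]
    rfl
  obtain ⟨θ, hθ⟩ := exists_iso_of_gen (U := fun a => g ⁻¹ᵁ V a) hV'
    (fun a => pullSec g L (t a)) (fun a => (ht a).pull g) s hs fun a b r hr => by
      have h1 : res _ (g.preimage_mono (inf_le_left : V a ⊓ V b ≤ V a)) (pullSec g L (t a)) =
          g.app (V a ⊓ V b) (η a b) •
            res _ (g.preimage_mono (inf_le_right : V a ⊓ V b ≤ V b)) (pullSec g L (t b)) := by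
        rw [res_pullSec g L (inf_le_left : V a ⊓ V b ≤ V a), hrel a b, pullSec_smul,
          res_pullSec g L (inf_le_right : V a ⊓ V b ≤ V b)]
      have h2 : r = g.app (V a ⊓ V b) (η a b) :=
        ((ht b).pull g).smul_inj (g.preimage_mono (inf_le_right : V a ⊓ V b ≤ V b)) (hr.symm.trans h1)
      rw [h2]
      exact hη a b
  exact ⟨L, t none, θ, hL, ht none, hθ none⟩

/-- A section of a pullback descends as soon as it does so over the complement of `U`. -/
theorem exists_descended_section (Ω : X.Opens) (hcov : U ⊔ Ω = ⊤) {L : X.Modules}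
    (hL : PicF.IsInvertible L) (e : Γ(L, Ω))
    (τ : Γ((Scheme.Modules.pullback g).obj L, ⊤)) (a : Γ(X, Ω))
    (hτ : res _ (le_top : g ⁻¹ᵁ Ω ≤ ⊤) τ = g.app Ω a • pullSec g L e) :
    ∃ t : Γ(L, ⊤), g ⁻¹ᵁ gloc t = gloc τ := by
  classical
  obtain ⟨B, m, hB, hyB, hm⟩ := Groth.PicAux.exists_gen_cover hL
  let V : Option X → X.Opens := fun o => o.elim Ω (fun y => B y ⊓ U)
  have hV : iSup V = ⊤ := by
    refine eq_top_iff.mpr fun y _ => ?_
    rcases (show y ∈ U ⊔ Ω by rw [hcov]; trivial) with hy | hy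
    · exact Opens.mem_iSup.mpr ⟨some y, hyB y, hy⟩
    · exact Opens.mem_iSup.mpr ⟨none, hy⟩
  have hex : ∀ o, ∃ t : Γ(L, V o), pullSec g L t = res _ (le_top : g ⁻¹ᵁ V o ≤ ⊤) τ := fun o => by
    cases o with
    | none => exact ⟨a • e, by rw [pullSec_smul]; exact hτ.symm⟩
    | some y =>
      have hg := (hm y).res (inf_le_left : B y ⊓ U ≤ B y)
      obtain ⟨r, hr⟩ := (hg.pull g).exists_coeff le_rfl (res _ (le_top : g ⁻¹ᵁ V (some y) ≤ ⊤) τ)
      rw [res_self] at hr
      obtain ⟨r, rfl⟩ := (app_bijective_of_le g U (inf_le_right : B y ⊓ U ≤ U)).2 r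
      exact ⟨r • res L inf_le_left (m y), by rw [pullSec_smul]; exact hr.symm⟩
  choose t ht using hex
  have hinj : ∀ {T : X.Opens} (_ : T ≤ U) {x x' : Γ(L, T)}, pullSec g L x = pullSec g L x' → x = x' := by
    intro T hT x x' h
    refine Groth.PicAux.res_ext (fun y => T ⊓ B y) (fun _ => inf_le_left) (fun y hy =>
      Opens.mem_iSup.mpr ⟨y, hy, hyB y⟩) fun y => ?_
    have hg := (hm y).res (inf_le_right : T ⊓ B y ≤ B y)
    obtain ⟨r, hr⟩ := hg.exists_coeff le_rfl (res L inf_le_left x)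
    obtain ⟨r', hr'⟩ := hg.exists_coeff le_rfl (res L inf_le_left x')
    rw [res_self] at hr hr'
    have h1 := congrArg (res ((Scheme.Modules.pullback g).obj L)
      (g.preimage_mono (inf_le_left : T ⊓ B y ≤ T))) h
    rw [res_pullSec g L (inf_le_left : T ⊓ B y ≤ T), res_pullSec g L (inf_le_left : T ⊓ B y ≤ T), hr, hr',
      pullSec_smul, pullSec_smul] at h1
    have h2 : g.app _ r = g.app _ r' := (hg.pull g).smul_inj le_rfl (by rwa [res_self])
    rw [hr, hr', (app_bijective_of_le g U (inf_le_left.trans hT)).1 h2]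
  obtain ⟨s, hs, -⟩ := res_glue V (fun _ => le_top) hV.ge t fun o o' => by
    by_cases h : o = o'
    · subst h; rfl
    refine hinj ?_ ?_
    · cases o with
      | some y => exact inf_le_left.trans inf_le_right
      | none => cases o' with
        | some y => exact inf_le_right.trans inf_le_right
        | none => exact absurd rfl h
    · rw [← res_pullSec, ← res_pullSec, ht, ht, res_res, res_res]
  refine ⟨s, ?_⟩
  have hs' : pullSec g L s = τ := Groth.PicAux.res_ext (fun o => g ⁻¹ᵁ V o) (fun _ => le_top)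
    (by rw [← Scheme.Hom.preimage_iSup, hV]; exact le_rfl) fun o =>
      ((res_pullSec g L (le_top : V o ≤ ⊤) s).trans ((congrArg (pullSec g L) (hs o)).trans (ht o)))
  rw [← gloc_pullSec g hL s]
  exact congrArg gloc hs'

end Groth.ResPropLib
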