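import Groth.Agent.ResPropDescent.Main
import Groth.Agent.Ega2Proj.PushColim

/-!
# Generating families and finite locally free morphisms
-/

set_option autoImplicit false
set_option linter.style.haveILetI false
set_option backward.isDefEq.respectTransparency false

universe u

open CategoryTheory CategoryTheory.Limits AlgebraicGeometry Opposite TopologicalSpace TensorProduct
open Groth.PicAux Groth.ResPropDescent

namespace Groth.ResPropLib

variable {X Y : Scheme.{u}}

open Groth.RefRank (secToLin secToLin_res secToLin_add secToLin_smul) in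
/-- The evaluation `(G ⊗ A^∨) ⊗ A ⟶ G`. -/
theorem exists_evalTriple (G A : Y.Modules) :
    ∃ ev : CohB1.tensorMod (CohB1.tensorMod G (RefHull.homSh A (Coh.structureModule Y))) A ⟶ G,
      ∀ W g l a, ev.app W (tmulSec (tmulSec g l) a) = toFun (secToLin l a) • g :=
  exists_tensor_lift₃
    (fun W => LinearMap.mk₂ Γ(Y, W)
      (fun g l =>
        { toFun := fun a => toFun (secToLin l a) • g
          map_add' := fun a a' => by
            rw [map_add, ← add_smul]; rfl
          map_smul' := fun r a => by
            rw [map_smul, RingHom.id_apply, toFun_smul, mul_smul] })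
      (fun g g' l => LinearMap.ext fun a => smul_add _ _ _)
      (fun r g l => LinearMap.ext fun a => smul_comm _ _ _)
      (fun g l l' => LinearMap.ext fun a => by
        show toFun (secToLin (l + l') a) • g = toFun (secToLin l a) • g + toFun (secToLin l' a) • g
        rw [secToLin_add, LinearMap.add_apply, ← add_smul]; rfl)
      (fun r g l => LinearMap.ext fun a => by
        show toFun (secToLin (r • l) a) • g = r • (toFun (secToLin l a) • g)
        rw [secToLin_smul, LinearMap.smul_apply, toFun_smul, mul_smul]))
    fun W W' h g l a => by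
      show res G h (toFun (secToLin l a) • g) = toFun (secToLin (res _ h l) (res A h a)) • res G h g
      rw [Groth.PicAux.res_smul, ← toFun_res]
      exact congrArg (fun z => toFun z • res G h g) (secToLin_res h l a).symm

variable (f : X ⟶ Y) [IsFinite f] [Flat f] [LocallyOfFinitePresentation f] [Surjective f]

/-- Every quasi-coherent module is a quotient of the direct image of a quasi-coherent module. -/
theorem exists_epi_push (G : Y.Modules) [G.IsQuasicoherent] :
    ∃ (M : X.Modules) (ψ : (Scheme.Modules.pushforward f).obj M ⟶ G), M.IsQuasicoherent ∧ Epi ψ := by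
  have hA : FlatMod.IsFinLocFree (pushO f) := Groth.RefRank.push_isFinLocFree f
  haveI : (pushO f).IsQuasicoherent := KTheory.LocFree.isQCoh hA
  let D := RefHull.homSh (pushO f) (Coh.structureModule Y)
  haveI : D.IsQuasicoherent := Groth.LocFree.isQCoh_homSh_of_isFinLocFree (G := Coh.structureModule Y) hA
  let H := CohB1.tensorMod G D
  haveI : H.IsQuasicoherent := Groth.QCohMod.isQCoh_tensorMod
  haveI := isIso_gamma f H
  obtain ⟨ev, hev⟩ := exists_evalTriple G (pushO f)
  refine ⟨(Scheme.Modules.pullback f).obj H, inv (gamma f H) ≫ ev, inferInstance, ?_⟩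
  refine @epi_comp _ _ _ _ _ (inv (gamma f H)) inferInstance ev ?_
  refine Groth.OmegaSheaf.epi_of_affine_cover _ fun y => ?_
  obtain ⟨W, hW, hy⟩ := Groth.QCohMod.exists_affine_mem y
  refine ⟨W, hW, hy, fun g => ?_⟩
  obtain ⟨n, a, l, hal⟩ := exists_sum_eq_one f hW hA
  have hl : ∀ i, ∃ L : Γ(D, W), ∀ b, toFun (Groth.RefRank.secToLin L b) = l i b := fun i => by
    obtain ⟨L, hL⟩ := Groth.RefRank.secToLin_surjective (F := pushO f) (G := Coh.structureModule Y) hW
      (show Γ(pushO f, W) →ₗ[Γ(Y, W)] Γ(Coh.structureModule Y, W) from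
        { toFun := fun b => l i b
          map_add' := fun b b' => map_add (l i) b b'
          map_smul' := fun r b => map_smul (l i) r b })
    exact ⟨L, fun b => by rw [hL]; rfl⟩
  choose L hL using hl
  refine ⟨∑ i, tmulSec (tmulSec g (L i)) (a i), ?_⟩
  refine (map_sum (ev.app W).hom _ _).trans ?_
  conv_rhs => rw [← one_smul Γ(Y, W) g, ← hal, Finset.sum_smul]
  exact Finset.sum_congr rfl fun i _ => (hev W g (L i) (a i)).trans (by rw [hL])

/-- Direct images of generating families generate. -/
theorem exists_generating_push {ι : Type u} (E : ι → X.Modules) (hE : ∀ i, (E i).IsQuasicoherent)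
    (hgen : ∀ M : X.Modules, Coh.IsQCoh M →
      ∃ (κ : Type u) (j : κ → ι) (π : (∐ fun k : κ => E (j k)) ⟶ M), Epi π)
    (N : Y.Modules) [N.IsQuasicoherent] :
    ∃ (κ : Type u) (j : κ → ι)
      (π : (∐ fun k : κ => (Scheme.Modules.pushforward f).obj (E (j k))) ⟶ N), Epi π := by
  obtain ⟨M, ψ, hM, hψ⟩ := exists_epi_push f N
  obtain ⟨κ, j, π, hπ⟩ := hgen M hM
  haveI := hM
  haveI := fun k => hE (j k)
  haveI : Epi ((Scheme.Modules.pushforward f).map π) :=
    Groth.QCohMod.epi_of_affine_surjective _ fun W hW => Groth.QCohMod.app_surjective_of_epi π (hW.preimage f)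
  haveI := Groth.Ega2Proj.PushColim.isIso_sigmaComparison f (fun k => E (j k))
  exact ⟨κ, j, sigmaComparison (Scheme.Modules.pushforward f) (fun k => E (j k)) ≫
    (Scheme.Modules.pushforward f).map π ≫ ψ, epi_comp _ _⟩

end Groth.ResPropLib
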