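import Groth.Agent.Flatmor4.FlatFiniteLocFree
import Groth.Agent.Misc8.PinchFlat
import Groth.Agent.Misc8.FibreSquare
import Groth.Agent.Calg6.FlatAdic
import Groth.Agent.DerivedCoh.KFlat.SchemeStalk
import Groth.Agent.CohTwo.ColimStalk
import Groth.Agent.QCohMod.FTCriterion
import Groth.Agent.QCohMod.Category
import Groth.Agent.VectorBundles.RefHullStalk
import Groth.Agent.QCohMod.OpenSupport
import Mathlib.CategoryTheory.Limits.Shapes.Pullback.IsPullback.Kernels

/-!
# Quasi-coherent modules are quotients of flat ones when the diagonal is affine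
-/

set_option autoImplicit false
set_option backward.isDefEq.respectTransparency false

universe u

open CategoryTheory CategoryTheory.Limits AlgebraicGeometry TopologicalSpace Opposite
open Groth.QCohMod
open Groth.DerivedCoh.KFlat (stk)

namespace Groth.ResPropLib

variable {X : Scheme.{u}}

/-- Flat stalks on an affine open give flat sections. -/
theorem flat_sections_of_flatAt (M : X.Modules) [M.IsQuasicoherent] {U : X.Opens} (hU : IsAffineOpen U)
    (h : ∀ y ∈ U, FlatMod.IsFlatAt M y) : Module.Flat Γ(X, U) Γ(M, U) := by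
  have hpt : ∀ P : Ideal Γ(X, U), P.IsMaximal →
      ∃ (x : X) (hx : x ∈ U), (hU.primeIdealOf ⟨x, hx⟩).asIdeal = P := by
    intro P hP
    let q : PrimeSpectrum Γ(X, U) := ⟨P, hP.isPrime⟩
    have hqU : hU.fromSpec q ∈ U := by
      change hU.fromSpec q ∈ (U : Set X)
      rw [← hU.range_fromSpec]; exact ⟨q, rfl⟩
    exact ⟨_, hqU, congrArg PrimeSpectrum.asIdeal
      (hU.fromSpec.isOpenEmbedding.injective (hU.fromSpec_primeIdealOf ⟨_, hqU⟩))⟩
  choose pt hmem heq using hpt
  let Mp : ∀ (P : Ideal Γ(X, U)) [P.IsMaximal], Type u := fun P hP => M.presheaf.stalk (pt P hP)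
  letI : ∀ (P : Ideal Γ(X, U)) [P.IsMaximal], AddCommGroup (Mp P) := fun P hP =>
    inferInstanceAs (AddCommGroup (M.presheaf.stalk (pt P hP)))
  letI : ∀ (P : Ideal Γ(X, U)) [P.IsMaximal], Module Γ(X, U) (Mp P) := fun P hP =>
    stalkModule M _ (hmem P hP)
  let gm : ∀ (P : Ideal Γ(X, U)) [P.IsMaximal], Γ(M, U) →ₗ[Γ(X, U)] Mp P := fun P hP =>
    germₗ M _ (hmem P hP)
  haveI : ∀ (P : Ideal Γ(X, U)) [P.IsMaximal], IsLocalizedModule P.primeCompl (gm P) := fun P hP => by
    have h := isLocalizedModule_germ M hU _ (hmem P hP)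
    convert! h using 1
    simp only [heq]
  refine Module.flat_of_isLocalized_maximal Γ(X, U) Γ(M, U) Mp gm fun P hP => ?_
  exact (Groth.Misc8.PinchMod.flat_stalk_iff M hU _ (hmem P hP)).mpr (h _ (hmem P hP))

/-- Flat sections on an affine open give flat stalks at its points. -/
theorem isFlatAt_of_flat_sections (M : X.Modules) [M.IsQuasicoherent] {U : X.Opens} (hU : IsAffineOpen U)
    (x : X) (hx : x ∈ U) (h : Module.Flat Γ(X, U) Γ(M, U)) : FlatMod.IsFlatAt M x := by
  let := stalkModule M x hx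
  have := isLocalizedModule_germ M hU x hx
  exact (Groth.Misc8.PinchMod.flat_stalk_iff M hU x hx).mp
    (Groth.Flatmor4.flat_of_isLocalizedModule_tower (R := Γ(X, U)) (A := Γ(X, U))
      (hU.primeIdealOf ⟨x, hx⟩).asIdeal.primeCompl (germₗ M x hx))

/-- Flat sections upstairs give flat sections of the direct image along an open immersion. -/
theorem flat_sections_push (V : X.Opens) (R : (V : Scheme.{u}).Modules) {W : X.Opens}
    (hW : IsAffineOpen W) (hW' : IsAffineOpen (V.ι ⁻¹ᵁ W))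
    (h : Module.Flat Γ((V : Scheme.{u}), V.ι ⁻¹ᵁ W) Γ(R, V.ι ⁻¹ᵁ W)) :
    Module.Flat Γ(X, W) Γ((Scheme.Modules.pushforward V.ι).obj R, W) := by
  letI : Algebra Γ(X, W) Γ((V : Scheme.{u}), V.ι ⁻¹ᵁ W) := (V.ι.app W).hom.toAlgebra
  haveI : Module.Flat Γ(X, W) Γ((V : Scheme.{u}), V.ι ⁻¹ᵁ W) := by
    have := V.ι.flat_appLE hW hW' le_rfl
    rw [← RingHom.flat_algebraMap_iff]
    rw [RingHom.algebraMap_toAlgebra, Scheme.Hom.app_eq_appLE]
    exact this
  letI : Module Γ(X, W) Γ(R, V.ι ⁻¹ᵁ W) := Module.compHom _ (V.ι.app W).hom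
  haveI : IsScalarTower Γ(X, W) Γ((V : Scheme.{u}), V.ι ⁻¹ᵁ W) Γ(R, V.ι ⁻¹ᵁ W) :=
    .of_algebraMap_smul fun _ _ => rfl
  have h2 : Module.Flat Γ(X, W) Γ(R, V.ι ⁻¹ᵁ W) :=
    Module.Flat.trans Γ(X, W) Γ((V : Scheme.{u}), V.ι ⁻¹ᵁ W) _
  let e : Γ((Scheme.Modules.pushforward V.ι).obj R, W) ≃ₗ[Γ(X, W)] Γ(R, V.ι ⁻¹ᵁ W) :=
    { AddEquiv.refl _ with map_smul' := fun _ _ => rfl }
  exact Module.Flat.of_linearEquiv e

/-- Flat stalks give flat sections of the restriction to an open subscheme. -/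
theorem flat_sections_restrict (M : X.Modules) [M.IsQuasicoherent] (V : X.Opens)
    {U : (V : Scheme.{u}).Opens} (hU : IsAffineOpen U) (h : ∀ y ∈ V.ι ''ᵁ U, FlatMod.IsFlatAt M y) :
    Module.Flat Γ((V : Scheme.{u}), U) Γ(M.restrict V.ι, U) := by
  have h1 : Module.Flat Γ(X, V.ι ''ᵁ U) Γ(M, V.ι ''ᵁ U) :=
    flat_sections_of_flatAt M (hU.image_of_isOpenImmersion V.ι) h
  letI : Module Γ((V : Scheme.{u}), U) Γ(M, V.ι ''ᵁ U) :=
    inferInstanceAs (Module Γ(X, V.ι ''ᵁ U) Γ(M, V.ι ''ᵁ U))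
  haveI : Module.Flat Γ((V : Scheme.{u}), U) Γ(M, V.ι ''ᵁ U) := h1
  have key : ∀ (r : Γ((V : Scheme.{u}), U)) (t : Γ(M.restrict V.ι, U)),
      (AddEquiv.refl Γ(M, V.ι ''ᵁ U)).toFun (r • t) =
        (RingHom.id Γ((V : Scheme.{u}), U)) r • (AddEquiv.refl Γ(M, V.ι ''ᵁ U)).toFun t := by
    intro r t
    have h2 : (V.ι.appIso U).inv r = r := by rw [Scheme.Opens.ι_appIso]; rfl
    show ((V.ι.appIso U).inv r • (show Γ(M, V.ι ''ᵁ U) from t) : Γ(M, V.ι ''ᵁ U)) = _
    rw [h2]
    rfl
  let e : Γ(M.restrict V.ι, U) ≃ₗ[Γ((V : Scheme.{u}), U)] Γ(M, V.ι ''ᵁ U) :=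
    { AddEquiv.refl _ with map_smul' := key }
  exact Module.Flat.of_linearEquiv e

/-- Transport along a bijection on stalks. -/
theorem isFlatAt_of_isIso {M N : X.Modules} (φ : M ⟶ N) (x : X) [IsIso ((stk x).map φ)]
    (h : FlatMod.IsFlatAt N x) : FlatMod.IsFlatAt M x :=
  haveI : Module.Flat (X.presheaf.stalk x) ((stk x).obj N) := h
  Module.Flat.of_linearEquiv (M := (stk x).obj N) (asIso ((stk x).map φ)).toLinearEquiv

/-- Extensions of modules flat at a point are flat there. -/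
theorem isFlatAt_mid (S : ShortComplex X.Modules) (hS : S.ShortExact) (x : X)
    (h1 : FlatMod.IsFlatAt S.X₁ x) (h3 : FlatMod.IsFlatAt S.X₃ x) : FlatMod.IsFlatAt S.X₂ x := by
  have h := (Groth.DerivedCoh.KFlat.shortExact_iff_stk S).1 hS x
  have : Module.Flat (X.presheaf.stalk x) (S.map (stk x)).X₁ := h1
  have : Module.Flat (X.presheaf.stalk x) (S.map (stk x)).X₃ := h3
  exact Groth.Calg6.flat_of_extension (S.map (stk x)).f.hom (S.map (stk x)).g.hom
    ((ModuleCat.mono_iff_injective _).1 h.mono_f)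
    ((ShortComplex.ShortExact.moduleCat_exact_iff_function_exact _).1 h.exact)
    ((ModuleCat.epi_iff_surjective _).1 h.epi_g)

/-- Kernels of surjections of modules flat at a point are flat there. -/
theorem isFlatAt_left (S : ShortComplex X.Modules) (hS : S.ShortExact) (x : X)
    (h2 : FlatMod.IsFlatAt S.X₂ x) (h3 : FlatMod.IsFlatAt S.X₃ x) : FlatMod.IsFlatAt S.X₁ x := by
  have h := (Groth.DerivedCoh.KFlat.shortExact_iff_stk S).1 hS x
  have : Module.Flat (X.presheaf.stalk x) (S.map (stk x)).X₂ := h2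
  have : Module.Flat (X.presheaf.stalk x) (S.map (stk x)).X₃ := h3
  exact Groth.Misc8.FibreSquare.flat_of_shortExact (S.map (stk x)).f.hom (S.map (stk x)).g.hom
    ((ModuleCat.mono_iff_injective _).1 h.mono_f) ((ModuleCat.epi_iff_surjective _).1 h.epi_g)
    ((ShortComplex.ShortExact.moduleCat_exact_iff_function_exact _).1 h.exact)

/-- The short exact sequence of an epimorphism. -/
theorem shortExact_kernel {M N : X.Modules} (φ : M ⟶ N) [Epi φ] :
    (ShortComplex.mk (kernel.ι φ) φ (kernel.condition φ)).ShortExact where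
  exact := ShortComplex.exact_of_f_is_kernel _ (kernelIsKernel φ)

/-- Free modules are flat. -/
theorem isFlat_freeSigma (ι : Type u) : FlatMod.IsFlat (∐ fun _ : ι => Coh.structureModule X) :=
  Groth.CohTwo.isFlat_sigma _ fun _ x =>
    Module.Flat.of_linearEquiv (Groth.VectorBundles.RefHullStalk.oneEquiv x).symm

/-- On an affine scheme quasi-coherent modules are quotients of free modules. -/
theorem exists_epi_freeSigma [IsAffine X] (M : X.Modules) [M.IsQuasicoherent] :
    ∃ (ι : Type u) (p : (∐ fun _ : ι => Coh.structureModule X) ⟶ M), Epi p := by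
  refine ⟨Γ(M, (⊤ : X.Opens)), Groth.QCohMod.freeHom M id,
    Groth.QCohMod.epi_freeHom M id fun x => eq_top_iff.2 fun t _ => ?_⟩
  obtain ⟨a, s, ha, hs⟩ :=
    Groth.QCohMod.exists_smul_germ_eq M (isAffineOpen_top X) x (Set.mem_univ x) t
  have hu := (Scheme.mem_basicOpen X a x (Set.mem_univ x)).mp ha
  rw [← Submodule.smul_mem_iff_of_isUnit _ hu, hs]
  exact Submodule.subset_span ⟨s, rfl⟩

/-- Enlarge the flat locus of a cover by one affine open. -/
theorem exists_flat_step [QuasiSeparatedSpace X]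
    (hd : ∀ V W : X.Opens, IsAffineOpen V → IsAffineOpen W → IsAffineOpen (V ⊓ W))
    (M : X.Modules) [M.IsQuasicoherent] (O V : X.Opens) (hV : IsAffineOpen V)
    (hM : ∀ y ∈ O, FlatMod.IsFlatAt M y) :
    ∃ (M' : X.Modules) (π : M' ⟶ M), M'.IsQuasicoherent ∧ Epi π ∧
      ∀ y, y ∈ O ∨ y ∈ V → FlatMod.IsFlatAt M' y := by
  haveI : IsAffine (V : Scheme.{u}) := hV
  have haff : ∀ {W : X.Opens}, IsAffineOpen W → IsAffineOpen (V.ι ⁻¹ᵁ W) := fun {W} hW => by
    rw [← Scheme.Hom.isAffineOpen_iff_of_isOpenImmersion V.ι,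
      Scheme.Hom.image_preimage_eq_opensRange_inf, Scheme.Opens.opensRange_ι]
    exact hd V W hV hW
  haveI : IsAffineHom V.ι := ⟨fun W hW => haff hW⟩
  obtain ⟨ι, p, hp⟩ := exists_epi_freeSigma (M.restrict V.ι)
  let P : (V : Scheme.{u}).Modules := ∐ fun _ : ι => Coh.structureModule (V : Scheme.{u})
  haveI : P.IsQuasicoherent := isQCoh_sigma (fun _ : ι => Coh.structureModule (V : Scheme.{u}))
  have hP : FlatMod.IsFlat P := isFlat_freeSigma ι
  let N := (Scheme.Modules.pushforward V.ι).obj (M.restrict V.ι)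
  let J := (Scheme.Modules.pushforward V.ι).obj P
  haveI hJq : J.IsQuasicoherent := isQCoh_pushforward (M := P) V.ι
  haveI hNq : N.IsQuasicoherent := isQCoh_pushforward (M := M.restrict V.ι) V.ι
  let q : J ⟶ N := (Scheme.Modules.pushforward V.ι).map p
  haveI : Epi q := epi_of_affine_surjective q fun W hW => app_surjective_of_epi p (haff hW)
  haveI : (pullback (openUnit V M) q).IsQuasicoherent := by
    have := isQCoh_pullback (openUnit V M) q
    exact this
  refine ⟨pullback (openUnit V M) q, pullback.fst _ _, inferInstance, inferInstance, fun y hy => ?_⟩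
  have hJ : ∀ x, FlatMod.IsFlatAt J x := fun x => by
    obtain ⟨W, hW, hxW⟩ := exists_affine_mem x
    exact isFlatAt_of_flat_sections J hW x hxW
      (flat_sections_push V P hW (haff hW) (Groth.Misc8.PinchMod.flat_sections P hP (haff hW)))
  have sq := IsPullback.of_hasPullback (openUnit V M) q
  by_cases hyV : y ∈ V
  · have h1 : IsIso ((stk y).map (openUnit V M)) := by
      have := isIso_stalk_openUnit V M hyV
      refine @isIso_of_reflects_iso _ _ _ _ _ _ ((stk y).map (openUnit V M))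
        (forget₂ (ModuleCat.{u} (X.presheaf.stalk y)) AddCommGrpCat.{u}) ?_ _
      exact this
    haveI := (sq.map (stk y)).isIso_snd_of_isIso
    exact isFlatAt_of_isIso (pullback.snd (openUnit V M) q) y (hJ y)
  · have hyO : y ∈ O := hy.resolve_right hyV
    obtain ⟨W, hW, hyW, hWO⟩ := exists_isAffineOpen_mem_and_subset (x := y) (U := O) hyO
    have hN : FlatMod.IsFlatAt N y := isFlatAt_of_flat_sections N hW y hyW
      (flat_sections_push V _ hW (haff hW) (flat_sections_restrict M V (haff hW) fun z hz => hM z (hWO (by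
        obtain ⟨w, hw, rfl⟩ := hz
        exact hw))))
    haveI := isIso_kernel_map_of_isPullback sq
    have hK := isFlatAt_left _ (shortExact_kernel q) y (hJ y) hN
    exact isFlatAt_mid _ (shortExact_kernel (pullback.fst (openUnit V M) q)) y
      (isFlatAt_of_isIso (kernel.map _ _ _ _ sq.w) y hK) (hM y hyO)

/-- Every quasi-coherent module is a quotient of a flat one. -/
theorem exists_flat_cover [CompactSpace X]
    (hd : ∀ V W : X.Opens, IsAffineOpen V → IsAffineOpen W → IsAffineOpen (V ⊓ W))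
    (M : X.Modules) [M.IsQuasicoherent] :
    ∃ (F : X.Modules) (π : F ⟶ M), F.IsQuasicoherent ∧ FlatMod.IsFlat F ∧ Epi π := by
  classical
  haveI : QuasiSeparatedSpace X :=
    quasiSeparatedSpace_iff_forall_affineOpens.2 fun U V => (hd U V U.2 V.2).isCompact
  have hc : ∀ x : X, ∃ V : X.affineOpens, x ∈ (V : X.Opens) := fun x => by
    obtain ⟨V, hV, hxV⟩ := exists_affine_mem x
    exact ⟨⟨V, hV⟩, hxV⟩
  obtain ⟨s, hs⟩ := isCompact_univ.elim_finite_subcover (fun V : X.affineOpens => ((V : X.Opens) : Set X))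
    (fun V => (V : X.Opens).2) fun x _ => by simpa using hc x
  have key : ∀ t : Finset X.affineOpens, ∃ (F : X.Modules) (π : F ⟶ M), F.IsQuasicoherent ∧ Epi π ∧
      ∀ y, (∃ V ∈ t, y ∈ (V : X.Opens)) → FlatMod.IsFlatAt F y := by
    intro t
    induction t using Finset.induction with
    | empty => exact ⟨M, 𝟙 M, inferInstance, inferInstance, fun y ⟨V, hV, _⟩ => absurd hV (Finset.notMem_empty V)⟩
    | insert V t hVt ih =>
      obtain ⟨F, π, hFq, hπ, hF⟩ := ih
      haveI := hFq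
      obtain ⟨F', π', hq', hπ', hF'⟩ := exists_flat_step hd F (⨆ W ∈ t, (W : X.Opens)) (V : X.Opens) V.2
        fun y hy => hF y (by simpa [Opens.mem_iSup] using hy)
      refine ⟨F', π' ≫ π, hq', epi_comp _ _, fun y ⟨W, hW, hyW⟩ => hF' y ?_⟩
      rcases Finset.mem_insert.1 hW with rfl | hW
      · exact Or.inr hyW
      · exact Or.inl (by simpa [Opens.mem_iSup] using ⟨(W : X.Opens), ⟨W.2, hW⟩, hyW⟩)
  obtain ⟨F, π, hq, hπ, hF⟩ := key s
  exact ⟨F, π, hq, fun y => hF y (by simpa using hs (Set.mem_univ y)), hπ⟩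

end Groth.ResPropLib
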