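import Groth.Agent.Limits.FibreVanishing
import Groth.Agent.CohTwo.CohInduction
import Groth.Agent.CohBase.Modules

/-!
# Vanishing of top degree cohomology modulo small supports

`Small Z p`: every module supported on `Z` has vanishing `H^p`.  A morphism whose cokernel is small
in degree `p` transfers vanishing of `H^p` to the target (when `H^(p+1)` vanishes identically), and
one whose kernel is small in degree `p` and cokernel small in degree `p - 1` transfers it back.
-/

set_option autoImplicit false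
set_option backward.isDefEq.respectTransparency false

universe u

open CategoryTheory CategoryTheory.Limits AlgebraicGeometry TopologicalSpace Opposite
open CategoryTheory.Abelian (Ext)

namespace Groth.ResPropLib

open Groth.CohBase Groth.QCohMod

variable {X : Scheme.{u}}

section LES

/-- Elimination in the group of extensions. -/
lemma vanish_elim {M : X.Modules} {p : ℕ} (h : Subsingleton (Coh.HH X M p))
    (x : Ext (constZ X.toTopCat) ((toAbF X).obj M) p) : x = 0 :=
  @Subsingleton.elim _ h x 0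

variable {S : ShortComplex X.Modules} (hS : S.ShortExact)

include hS

lemma sub_mid {p : ℕ} (h₁ : Subsingleton (Coh.HH X S.X₁ p)) (h₃ : Subsingleton (Coh.HH X S.X₃ p)) :
    Subsingleton (Coh.HH X S.X₂ p) := by
  refine subsingleton_of_forall_eq 0 fun x => ?_
  obtain ⟨y, hy⟩ := Ext.covariant_sequence_exact₂ (constZ X.toTopCat) (shortExact_toAb hS)
    (x : Ext (constZ X.toTopCat) ((toAbF X).obj S.X₂) p) (vanish_elim h₃ _)
  rw [← hy, @Subsingleton.elim _ h₁ y 0, Ext.zero_comp]

lemma sub_right {p : ℕ} (h₂ : Subsingleton (Coh.HH X S.X₂ p))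
    (h₁ : Subsingleton (Coh.HH X S.X₁ (p + 1))) : Subsingleton (Coh.HH X S.X₃ p) := by
  refine subsingleton_of_forall_eq 0 fun x => ?_
  obtain ⟨y, hy⟩ := Ext.covariant_sequence_exact₃ (constZ X.toTopCat) (shortExact_toAb hS)
    (x : Ext (constZ X.toTopCat) ((toAbF X).obj S.X₃) p) rfl (vanish_elim h₁ _)
  rw [← hy, @Subsingleton.elim _ h₂ y 0, Ext.zero_comp]

lemma sub_left {p : ℕ} (h₃ : Subsingleton (Coh.HH X S.X₃ p))
    (h₂ : Subsingleton (Coh.HH X S.X₂ (p + 1))) : Subsingleton (Coh.HH X S.X₁ (p + 1)) := by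
  refine subsingleton_of_forall_eq 0 fun x => ?_
  obtain ⟨y, hy⟩ := Ext.covariant_sequence_exact₁ (constZ X.toTopCat) (shortExact_toAb hS)
    (x : Ext (constZ X.toTopCat) ((toAbF X).obj S.X₁) (p + 1)) (vanish_elim h₂ _) rfl
  rw [← hy, @Subsingleton.elim _ h₃ y 0, Ext.zero_comp]

lemma sub_left_zero (h₂ : Subsingleton (Coh.HH X S.X₂ 0)) : Subsingleton (Coh.HH X S.X₁ 0) := by
  haveI := (shortExact_toAb hS).mono_f
  refine subsingleton_of_forall_eq 0 fun x => ?_
  have h := h₂.elim (x.comp (Ext.mk₀ (S.map (toAbF X)).f) (add_zero 0)) 0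
  obtain ⟨φ, rfl⟩ := (Ext.mk₀_bijective _ _).surjective x
  rw [Ext.mk₀_comp_mk₀] at h
  have h' : φ ≫ (S.map (toAbF X)).f = 0 :=
    (Ext.mk₀_bijective _ _).injective (h.trans (Ext.mk₀_zero _ _).symm)
  rw [show φ = 0 from (cancel_mono (S.map (toAbF X)).f).1 (h'.trans zero_comp.symm), Ext.mk₀_zero]

end LES

/-- Cohomology vanishes on an isomorphic module. -/
lemma sub_of_iso {M N : X.Modules} (e : M ≅ N) {p : ℕ} (h : Subsingleton (Coh.HH X M p)) :
    Subsingleton (Coh.HH X N p) := by
  refine subsingleton_of_forall_eq 0 fun x => ?_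
  have h0 := h.elim (x.comp (Ext.mk₀ ((toAbF X).map e.inv)) (add_zero p)) 0
  have h1 := congrArg (fun z : Ext _ _ p => z.comp (Ext.mk₀ ((toAbF X).map e.hom)) (add_zero p)) h0
  simpa [Ext.comp_assoc_of_second_deg_zero, Ext.mk₀_comp_mk₀, ← Functor.map_comp] using h1

lemma sub_of_isZero {M : X.Modules} (h : IsZero M) (p : ℕ) : Subsingleton (Coh.HH X M p) := by
  refine subsingleton_of_forall_eq 0 fun x => ?_
  rw [← Ext.comp_mk₀_id x, ((toAbF X).map_isZero h).eq_of_src (𝟙 _) 0, Ext.mk₀_zero, Ext.comp_zero]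

/-- All modules supported on `Z` have vanishing `H^p`. -/
def Small (Z : Set X) (p : ℕ) : Prop :=
  ∀ M : X.Modules, CohB1.support M ⊆ Z → Subsingleton (Coh.HH X M p)

lemma Small.mono {Z Z' : Set X} {p : ℕ} (h : Small Z p) (hZ : Z' ⊆ Z) : Small Z' p :=
  fun M hM => h M (hM.trans hZ)

lemma res_eq_zero_of_support {M : X.Modules} {Z : Set X} (hZ : CohB1.support M ⊆ Z) (W : X.Opens)
    (hW : Disjoint (W : Set X) Z) (t : Γ(M, W)) : t = 0 := by
  refine TopCat.Presheaf.section_ext (⟨M.presheaf, M.isSheaf⟩ : TopCat.Sheaf AddCommGrpCat.{u} X) W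
    t 0 fun x hx => ?_
  haveI : Subsingleton (M.presheaf.stalk x) :=
    (Groth.CohTwo.notMem_support_iff M x).1 fun h => Set.disjoint_left.1 hW hx (hZ h)
  exact Subsingleton.elim _ _

/-- A module with empty support is zero. -/
lemma isZero_of_support_empty {M : X.Modules} (h : CohB1.support M ⊆ ∅) : IsZero M :=
  (IsZero.iff_id_eq_zero M).2 (Scheme.Modules.hom_ext _ _ fun U => by
    ext t
    exact (res_eq_zero_of_support h U (Set.disjoint_empty _) _).trans
      (res_eq_zero_of_support h U (Set.disjoint_empty _) _).symm)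

/-- All abelian sheaves supported on `Z` have vanishing `H^p`. -/
def SmallAb (Z : Set X) (p : ℕ) : Prop :=
  ∀ G : AbSheaf X.toTopCat, (∀ x ∉ Z, Subsingleton ↑(TopCat.Presheaf.stalk (C := AddCommGrpCat.{u}) (X := X.toTopCat) G.obj x)) → Subsingleton (Sheaf.H G p)

lemma SmallAb.mono {Z Z' : Set X} {p : ℕ} (h : SmallAb Z p) (hZ : Z' ⊆ Z) : SmallAb Z' p :=
  fun G hG => h G fun x hx => hG x fun hx' => hx (hZ hx')

lemma SmallAb.small {Z : Set X} {p : ℕ} (h : SmallAb Z p) : Small Z p := fun M hM =>
  h (Coh.toAb M) fun x hx =>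
    (Groth.CohTwo.notMem_support_iff M x).1 fun h' => hx (hM h')

lemma ab_res_eq_zero {G : AbSheaf X.toTopCat} {Z : Set X} (hG : ∀ x ∉ Z, Subsingleton ↑(TopCat.Presheaf.stalk (C := AddCommGrpCat.{u}) (X := X.toTopCat) G.obj x))
    (W : X.Opens) (hW : Disjoint (W : Set X) Z) (t : G.obj.obj (op W)) : t = 0 :=
  TopCat.Presheaf.section_ext G W t 0 fun x hx =>
    @Subsingleton.elim _ (hG x (Set.disjoint_left.1 hW hx)) _ _

lemma smallAb_empty (p : ℕ) : SmallAb (∅ : Set X) p := fun G hG =>
  Sheaf.subsingleton_H_of_isZero ((IsZero.iff_id_eq_zero G).2 (ObjectProperty.hom_ext _ (by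
    ext U t
    exact (ab_res_eq_zero hG U.unop (Set.disjoint_empty _) _).trans
      (ab_res_eq_zero hG U.unop (Set.disjoint_empty _) _).symm))) p

/-- Any set all whose points have local rings of dimension `≥ k` is small above `d - k`. -/
theorem smallAb_of_coheight [NoetherianSpace X] {d k p : ℕ} (hd : topologicalKrullDim X ≤ d)
    {Z : Set X} (hk : ∀ z ∈ Z, (k : ℕ∞) ≤ Order.coheight z) (hp : d < p + k) :
    SmallAb Z p := by
  rcases Set.eq_empty_or_nonempty Z with hZe | ⟨z₀, hz₀⟩
  · exact (smallAb_empty p).mono hZe.subset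
  have hX : Order.krullDim X ≤ d := by
    refine le_trans (le_of_eq ?_) hd
    exact (Order.krullDim_eq_of_orderIso (irreducibleSetEquivPoints (α := X))).symm
  haveI : Nonempty X := ⟨z₀⟩
  have hkey : ∀ z ∈ Z, Order.height z + (k : ℕ∞) ≤ d := fun z hz => by
    refine WithBot.coe_le_coe.mp (le_trans ?_ hX)
    rw [Order.krullDim_eq_iSup_height_add_coheight_of_nonempty]
    exact WithBot.coe_le_coe.mpr ((add_le_add le_rfl (hk z hz)).trans
      (le_iSup (fun a : X => Order.height a + Order.coheight a) z))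
  have hkd : k ≤ d := by exact_mod_cast le_trans le_add_self (hkey z₀ hz₀)
  intro G hG
  haveI : NoetherianSpace X.toTopCat := ‹NoetherianSpace X›
  refine Inter.Vanishing.subsingleton_H_of_supportLT (X := X.toTopCat) (d - k + 1) G
    (fun (U : X.Opens) s (T : IrreducibleCloseds X) hT => ?_) p (by omega)
  obtain ⟨hm, hsub⟩ := hT
  have hη := T.isIrreducible.isGenericPoint_genericPoint T.isClosed
  obtain ⟨y, hyT, hyU⟩ := hm
  have hηU : T.isIrreducible.genericPoint ∈ U := (hη.specializes hyT).mem_open U.2 hyU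
  obtain ⟨-, hne⟩ := hsub ⟨hη.mem, hηU⟩
  have hηZ : T.isIrreducible.genericPoint ∈ Z := by
    by_contra hZ'
    obtain ⟨V, hxV, iU, iU', e⟩ := TopCat.Presheaf.germ_eq (C := AddCommGrpCat.{u})
      (X := X.toTopCat) (F := G.obj) _ hηU hηU s 0 (@Subsingleton.elim _ (hG _ hZ') _ _)
    exact hne V (leOfHom iU) hxV (e.trans (map_zero _))
  have h1 : Order.height T = Order.height T.isIrreducible.genericPoint :=
    (Order.height_orderIso (irreducibleSetEquivPoints (α := X)) T).symm
  rw [Nat.cast_succ, h1]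
  refine (ENat.lt_add_one_iff (ENat.natCast_ne_top _)).mpr ?_
  have h2 := hkey _ hηZ
  revert h2
  generalize Order.height T.isIrreducible.genericPoint = m
  intro h2
  induction m using ENat.recTopCoe with
  | top => simp at h2
  | coe n =>
    have : n + k ≤ d := by exact_mod_cast h2
    exact_mod_cast (by omega : n ≤ d - k)

/-- The module version of `smallAb_of_coheight`. -/
theorem small_of_coheight [NoetherianSpace X] {d k p : ℕ} (hd : topologicalKrullDim X ≤ d)
    {Z : Set X} (hk : ∀ z ∈ Z, (k : ℕ∞) ≤ Order.coheight z) (hp : d < p + k) :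
    Small Z p :=
  (smallAb_of_coheight hd hk hp).small

lemma small_of_dim [NoetherianSpace X] {d p : ℕ} (hd : topologicalKrullDim X ≤ d) (hp : d < p) :
    Small (Set.univ : Set X) p :=
  small_of_coheight hd (k := 0) (fun _ _ => bot_le) (by omega)

/-- Vanishing of `H^p` passes to a target with small cokernel. -/
theorem sub_target {A B : X.Modules} (φ : A ⟶ B) {p : ℕ} {Z : Set X} (hsm : Small Z p)
    (hcoker : CohB1.support (cokernel φ) ⊆ Z)
    (hnext : Small (Set.univ : Set X) (p + 1))
    (hA : Subsingleton (Coh.HH X A p)) : Subsingleton (Coh.HH X B p) := by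
  have hK : (ShortComplex.mk (kernel.ι φ) (Abelian.factorThruImage φ) (by
      rw [← cancel_mono (Abelian.image.ι φ)]; simp)).ShortExact :=
    { exact := ShortComplex.exact_of_f_is_kernel _ <| by
        refine KernelFork.IsLimit.ofι' _ _ fun {W} l hl => ?_
        exact ⟨kernel.lift φ l (by rw [← Abelian.image.fac φ, ← Category.assoc, hl, zero_comp]),
          kernel.lift_ι _ _ _⟩ }
  have hI := sub_right hK hA (hnext _ (Set.subset_univ _))
  have hC : (ShortComplex.mk (Abelian.image.ι φ) (cokernel.π φ)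
      (kernel.condition _)).ShortExact :=
    { exact := ShortComplex.exact_of_f_is_kernel _ (kernelIsKernel _) }
  exact sub_mid hC hI (hsm _ hcoker)

/-- Vanishing of `H^p` passes to a source with small kernel and very small cokernel. -/
theorem sub_source {A B : X.Modules} (φ : A ⟶ B) {p : ℕ} {Z₁ Z₂ : Set X} (h₁ : Small Z₁ p)
    (h₂ : ∀ q, q + 1 = p → Small Z₂ q)
    (hker : CohB1.support (kernel φ) ⊆ Z₁) (hcoker : CohB1.support (cokernel φ) ⊆ Z₂)
    (hB : Subsingleton (Coh.HH X B p)) : Subsingleton (Coh.HH X A p) := by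
  have hK : (ShortComplex.mk (kernel.ι φ) (Abelian.factorThruImage φ) (by
      rw [← cancel_mono (Abelian.image.ι φ)]; simp)).ShortExact :=
    { exact := ShortComplex.exact_of_f_is_kernel _ <| by
        refine KernelFork.IsLimit.ofι' _ _ fun {W} l hl => ?_
        exact ⟨kernel.lift φ l (by rw [← Abelian.image.fac φ, ← Category.assoc, hl, zero_comp]),
          kernel.lift_ι _ _ _⟩ }
  have hC : (ShortComplex.mk (Abelian.image.ι φ) (cokernel.π φ)
      (kernel.condition _)).ShortExact :=
    { exact := ShortComplex.exact_of_f_is_kernel _ (kernelIsKernel _) }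
  refine sub_mid hK (h₁ _ hker) ?_
  match p, h₂ with
  | 0, _ => exact sub_left_zero hC hB
  | q + 1, h₂ => exact sub_left hC (h₂ q rfl _ hcoker) hB

/-- Supports of kernel and cokernel of a morphism bijective on stalks outside `Z`. -/
lemma support_ker_subset {A B : X.Modules} (φ : A ⟶ B) {Z : Set X}
    (h : ∀ x ∉ Z, Function.Injective ((stalk x).map φ)) : CohB1.support (kernel φ) ⊆ Z := by
  intro x hx
  by_contra hxZ
  refine hx ?_
  have hi : Function.Injective ((stalk x).map (kernel.ι φ)) :=
    (mono_iff_stalk (kernel.ι φ)).1 inferInstance x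
  refine subsingleton_of_forall_eq (0 : (stalk x).obj (kernel φ)) fun z => hi (h x hxZ ?_)
  rw [map_zero, map_zero, ← ConcreteCategory.comp_apply, ← Functor.map_comp, kernel.condition,
    Functor.map_zero]
  rfl

lemma support_coker_subset {A B : X.Modules} (φ : A ⟶ B) {Z : Set X}
    (h : ∀ x ∉ Z, Function.Surjective ((stalk x).map φ)) : CohB1.support (cokernel φ) ⊆ Z := by
  intro x hx
  by_contra hxZ
  exact Groth.CohTwo.notMem_support_cokernel φ x (h x hxZ) hx

/-- Points of the complement of a dense open have local rings of positive dimension. -/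
lemma one_le_coheight_of_dense [NoetherianSpace X] {U : X.Opens} (hU : Dense (U : Set X)) {z : X}
    (hz : z ∉ U) : (1 : ℕ∞) ≤ Order.coheight z := by
  refine Order.one_le_iff_pos.2 ((Order.coheight_ne_zero (x := z)).mpr ?_ |> pos_iff_ne_zero.mpr)
  intro hmax
  obtain ⟨C, hC, hzC⟩ : ∃ C ∈ irreducibleComponents X, z ∈ C :=
    ⟨irreducibleComponent z, irreducibleComponent_mem_irreducibleComponents z,
      mem_irreducibleComponent⟩
  have hCc := isClosed_of_mem_irreducibleComponents C hC
  have hη := hC.1.isGenericPoint_genericPoint hCc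
  have hηz : hC.1.genericPoint ⤳ z := hη.specializes hzC
  have hzη : z ⤳ hC.1.genericPoint := hmax hηz
  have : hC.1.genericPoint = z := (hηz.antisymm hzη).eq
  refine hz (this ▸ ?_)
  obtain ⟨O, hO, hOne, hOC⟩ := NoetherianSpace.exists_isOpen_nonempty_subset_irreducibleComponent C hC
  obtain ⟨w, hwO, hwU⟩ := hU.inter_open_nonempty O hO hOne
  exact (hη.specializes (hOC hwO)).mem_open U.2 hwU

end Groth.ResPropLib
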