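import Groth.Agent.CohBase.Push
import Groth.Agent.CohFin.Acyclic
import Groth.Agent.ResPropLib.TopDegree

/-!
# Dimension shifting along a direct image

If `H^d` of the direct image vanishes and the higher direct images `R^q` are supported on sets which
are small in degree `d - q`, then `H^d` upstairs vanishes; conversely when they vanish altogether.
-/

set_option autoImplicit false
set_option backward.isDefEq.respectTransparency false

universe u

open CategoryTheory CategoryTheory.Limits AlgebraicGeometry TopologicalSpace Opposite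
open CategoryTheory.Abelian (Ext)

namespace Groth.ResPropLib

open Groth.CohBase

variable {X Y : Scheme.{u}} (f : Y ⟶ X)

lemma hVanish_top_iff {T : TopCat.{u}} (F : AbSheaf T) (n : ℕ) :
    HVanish F n ⊤ ↔ Subsingleton (Sheaf.H F n) :=
  ⟨fun h => (@Equiv.subsingleton _ _ (equivHTop F n).toEquiv h),
    fun h => (@Equiv.subsingleton _ _ (equivHTop F n).symm.toEquiv h)⟩

/-- Stalks vanish on the target of an isomorphism. -/
lemma stalk_sub_of_iso {A B : AbSheaf X.toTopCat} (e : A ≅ B) (x : X)
    (h : Subsingleton ↑(TopCat.Presheaf.stalk (C := AddCommGrpCat.{u}) (X := X.toTopCat) A.obj x)) :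
    Subsingleton ↑(TopCat.Presheaf.stalk (C := AddCommGrpCat.{u}) (X := X.toTopCat) B.obj x) :=
  haveI : Subsingleton ↑((TopCat.Presheaf.stalkFunctor AddCommGrpCat.{u} (X := X.toTopCat) x).obj
    ((sheafToPresheaf _ _).obj A)) := h
  ((TopCat.Presheaf.stalkFunctor AddCommGrpCat.{u} x).mapIso
    ((sheafToPresheaf _ _).mapIso e)).addCommGroupIsoToAddEquiv.symm.toEquiv.subsingleton

/-- Lifting maps from the constant sheaf into a direct image gives surjectivity on global sections. -/
lemma surjective_of_lifts {A B : AbSheaf Y.toTopCat} (g : A ⟶ B)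
    (h : ∀ t : freeOpen (⊤ : Opens X.toTopCat) ⟶ (pushSheaf f.base).obj B,
      ∃ w, w ≫ (pushSheaf f.base).map g = t) :
    Function.Surjective (g.hom.app (op (⊤ : Opens Y.toTopCat))) := by
  intro s
  obtain ⟨w, hw⟩ := h ((homFreeOpen (⊤ : Opens X.toTopCat) ((pushSheaf f.base).obj B)).symm s)
  refine ⟨homFreeOpen (⊤ : Opens X.toTopCat) ((pushSheaf f.base).obj A) w, ?_⟩
  have h1 := congrArg (homFreeOpen (⊤ : Opens X.toTopCat) ((pushSheaf f.base).obj B)) hw
  rw [homFreeOpen_comp, AddEquiv.apply_symm_apply] at h1
  exact h1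

/-- `H^d` of the direct image and small higher direct images give vanishing of `H^d`. -/
theorem subsingleton_of_push : ∀ (d : ℕ) (F : AbSheaf Y.toTopCat) (Z : ℕ → Set X)
    (_ : ∀ q, ∀ x ∉ Z q, Subsingleton ↑(TopCat.Presheaf.stalk (C := AddCommGrpCat.{u})
      (X := X.toTopCat) (((pushSheaf f.base).rightDerived (q + 1)).obj F).obj x))
    (_ : ∀ q p, q + 1 + p = d → SmallAb (Z q) p)
    (_ : Subsingleton (Sheaf.H ((pushSheaf f.base).obj F) d)),
    Subsingleton (Sheaf.H F d) := by
  intro d
  induction d with
  | zero =>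
    intro F Z _ _ h
    rw [← hVanish_top_iff] at h ⊢
    haveI : Subsingleton (Ext (freeOpen (⊤ : Opens X.toTopCat)) ((pushSheaf f.base).obj F) 0) := h
    exact (Ext.addEquiv₀.trans (homFreeOpen (⊤ : Opens Y.toTopCat) F)).trans
      (Ext.addEquiv₀.trans (homFreeOpen (⊤ : Opens X.toTopCat) ((pushSheaf f.base).obj F))).symm
        |>.toEquiv.subsingleton
  | succ d ih =>
    intro F Z hst hsm h
    rw [← hVanish_top_iff] at h
    have hS := injPres_shortExact F
    let S := injPres F
    let φ := (pushSheaf f.base).map S.g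
    haveI : Mono S.f := hS.mono_f
    haveI : Injective ((pushSheaf f.base).obj S.X₂) := injective_pushSheaf_obj (f := f.base) _
    -- the cokernel is the first higher direct image
    obtain ⟨e₁⟩ := Groth.CohFin.nonempty_rightDerived_one_iso_of_injective
      (F := pushSheaf f.base) hS
    have hC : HVanish (cokernel φ) d ⊤ := (hVanish_top_iff _ _).2 <|
      hsm 0 d (by omega) _ fun x hx => stalk_sub_of_iso e₁ x (hst 0 x hx)
    have hA : (ShortComplex.mk ((pushSheaf f.base).map S.f) (Abelian.factorThruImage φ) (by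
        rw [← cancel_mono (Abelian.image.ι φ), Category.assoc, Abelian.image.fac, ← Functor.map_comp,
          S.zero, Functor.map_zero, zero_comp])).ShortExact :=
      { exact := by
          have hex : (S.map (pushSheaf f.base)).Exact :=
            (((Functor.preservesFiniteLimits_tfae (pushSheaf f.base)).out 3 1 rfl rfl).mp
              inferInstance S ⟨hS.exact, hS.mono_f⟩).1
          let ψ : ShortComplex.mk ((pushSheaf f.base).map S.f) (Abelian.factorThruImage φ) (by
              rw [← cancel_mono (Abelian.image.ι φ), Category.assoc, Abelian.image.fac,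
                ← Functor.map_comp, S.zero, Functor.map_zero, zero_comp]) ⟶
              S.map (pushSheaf f.base) :=
            { τ₁ := 𝟙 _, τ₂ := 𝟙 _, τ₃ := Abelian.image.ι φ }
          haveI : Epi ψ.τ₁ := inferInstanceAs (Epi (𝟙 _))
          haveI : IsIso ψ.τ₂ := inferInstanceAs (IsIso (𝟙 _))
          haveI : Mono ψ.τ₃ := inferInstanceAs (Mono (Abelian.image.ι φ))
          exact (ShortComplex.exact_iff_of_epi_of_isIso_of_mono ψ).mpr hex }
    have hB : (ShortComplex.mk (Abelian.image.ι φ) (cokernel.π φ) (kernel.condition _)).ShortExact :=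
      { exact := ShortComplex.exact_of_f_is_kernel _ (kernelIsKernel _) }
    rcases d with _ | d
    · -- global sections lift
      rw [← hVanish_top_iff]
      have hsurj : Function.Surjective (S.g.hom.app (op (⊤ : Opens Y.toTopCat))) := by
        refine surjective_of_lifts f S.g fun t => ?_
        obtain ⟨y, hy⟩ := Ext.covariant_sequence_exact₂ (freeOpen ⊤) hB (Ext.mk₀ t) (hC.elim _ _)
        obtain ⟨w, hw⟩ := Ext.covariant_sequence_exact₃ (freeOpen ⊤) hA y rfl (h.elim _ _)
        obtain ⟨w₀, rfl⟩ := (Ext.mk₀_bijective _ _).surjective w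
        rw [← hw, Ext.mk₀_comp_mk₀, Ext.mk₀_comp_mk₀, Category.assoc] at hy
        refine ⟨w₀, ?_⟩
        have h0 := (Ext.mk₀_bijective _ _).injective hy
        rw [← h0]
        exact congrArg (fun k => w₀ ≫ k) (Abelian.image.fac φ).symm
      refine subsingleton_of_forall_eq 0 fun x => ?_
      obtain ⟨q, rfl⟩ := deltaSec_surjective hS ⊤ x
      exact (mem_ker_deltaSec hS ⊤ q).2 (hsurj q)
    · have hIm : HVanish (Abelian.image φ) (d + 1) ⊤ := by
        refine subsingleton_of_forall_eq 0 fun x => ?_
        obtain ⟨y, hy⟩ := Ext.covariant_sequence_exact₃ (freeOpen ⊤) hA x rfl (h.elim _ _)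
        rw [← hy, Ext.eq_zero_of_injective y, Ext.zero_comp]
      have hX₃ : HVanish ((pushSheaf f.base).obj S.X₃) (d + 1) ⊤ := by
        refine subsingleton_of_forall_eq 0 fun x => ?_
        obtain ⟨y, hy⟩ := Ext.covariant_sequence_exact₂ (freeOpen ⊤) hB x (hC.elim _ _)
        rw [← hy, @Subsingleton.elim _ hIm y 0, Ext.zero_comp]
      have hY := ih S.X₃ (fun q => Z (q + 1)) (fun q x hx => stalk_sub_of_iso
        (rightDerivedShift hS (pushSheaf f.base) q) x (hst (q + 1) x hx))
        (fun q p hqp => hsm (q + 1) p (by omega)) ((hVanish_top_iff _ _).1 hX₃)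
      rw [← hVanish_top_iff] at hY ⊢
      exact hVanish_succ hS hY

/-- If all higher direct images vanish, `H^d` of the direct image vanishes with that of the sheaf. -/
theorem subsingleton_push : ∀ (d : ℕ) (F : AbSheaf Y.toTopCat)
    (_ : ∀ q, IsZero (((pushSheaf f.base).rightDerived (q + 1)).obj F))
    (_ : Subsingleton (Sheaf.H F d)), Subsingleton (Sheaf.H ((pushSheaf f.base).obj F) d) := by
  intro d
  induction d with
  | zero =>
    intro F _ h
    rw [← hVanish_top_iff] at h ⊢
    haveI : Subsingleton (Ext (freeOpen (⊤ : Opens Y.toTopCat)) F 0) := h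
    exact (Ext.addEquiv₀.trans (homFreeOpen (⊤ : Opens X.toTopCat) ((pushSheaf f.base).obj F))).trans
      (Ext.addEquiv₀.trans (homFreeOpen (⊤ : Opens Y.toTopCat) F)).symm
        |>.toEquiv.subsingleton
  | succ d ih =>
    intro F hR h
    have hS := injPres_shortExact F
    let S := injPres F
    haveI : Mono S.f := hS.mono_f
    haveI : Epi S.g := hS.epi_g
    have hepi : Epi ((pushSheaf f.base).map S.g) := by
      obtain ⟨e₁⟩ := Groth.CohFin.nonempty_rightDerived_one_iso_of_injective
        (F := pushSheaf f.base) hS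
      exact Preadditive.epi_of_isZero_cokernel _ ((hR 0).of_iso e₁.symm)
    have hS' : (S.map (pushSheaf f.base)).ShortExact :=
      { exact := (((Functor.preservesFiniteLimits_tfae (pushSheaf f.base)).out 3 1 rfl rfl).mp
          inferInstance S ⟨hS.exact, hS.mono_f⟩).1
        mono_f := inferInstanceAs (Mono ((pushSheaf f.base).map S.f))
        epi_g := hepi }
    haveI : Injective (S.map (pushSheaf f.base)).X₂ := injective_pushSheaf_obj (f := f.base) S.X₂
    rw [← hVanish_top_iff] at h ⊢
    rcases d with _ | d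
    · refine subsingleton_of_forall_eq 0 fun x => ?_
      obtain ⟨q, rfl⟩ := deltaSec_surjective hS' ⊤ x
      exact (mem_ker_deltaSec hS' ⊤ q).2 (sections_surjective hS h q)
    · have hY : HVanish S.X₃ (d + 1) ⊤ := by
        refine subsingleton_of_forall_eq 0 fun x => ?_
        obtain ⟨y, hy⟩ := Ext.covariant_sequence_exact₃ (freeOpen ⊤) hS x rfl (h.elim _ _)
        rw [← hy, Ext.eq_zero_of_injective y, Ext.zero_comp]
      have hX := ih S.X₃ (fun q => (hR (q + 1)).of_iso (rightDerivedShift hS _ q).symm)
        ((hVanish_top_iff _ _).1 hY)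
      rw [← hVanish_top_iff] at hX
      exact hVanish_succ hS' hX

end Groth.ResPropLib
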