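import Groth.Agent.ResPropLib.ThickOpen
import Groth.Agent.Pi1Ample.FiniteAffine

/-!
# A saturated affine locus

For a proper map `f : X' ⟶ X` which is injective over an open `U` and an ample module on `X'`, the fibres
over finitely many maximal points of `X ∖ U` lie in an affine locus of a section which is a union of
fibres of `f`.
-/

set_option autoImplicit false
set_option backward.isDefEq.respectTransparency false
set_option backward.isDefEq.respectTransparency.types false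

universe u

open CategoryTheory AlgebraicGeometry Opposite TopologicalSpace
open Groth.PicAux Groth.PropsBasic.Ample

namespace Groth.ResPropLib

/-- Functions on an affine open with prescribed non-vanishing locus on a closed subset. -/
theorem exists_function_trace {X X' : Scheme.{u}} (f : X' ⟶ X) {C : Set X'} (hC : IsClosed C)
    {H : X'.Opens} (hH : IsAffineOpen H) {J : Type*} (Ω : J → X.Opens)
    (hcov : ∀ x ∈ H, x ∈ C → ∃ k, f x ∈ Ω k)
    (hdisj : ∀ x ∈ H, x ∈ C → ∀ k l, f x ∈ Ω k → f x ∈ Ω l → k = l)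
    (b : ∀ k, Γ(X, Ω k)) :
    ∃ G : Γ(X', H), ∀ x ∈ H, x ∈ C → (x ∈ X'.basicOpen G ↔ ∃ k, f x ∈ X.basicOpen (b k)) := by
  haveI : IsAffine (H : Scheme.{u}) := hH
  let T : Closeds (H : Scheme.{u}) := ⟨H.ι ⁻¹' C, hC.preimage H.ι.continuous⟩
  let 𝒥 := Scheme.IdealSheafData.vanishingIdeal T
  let Z := 𝒥.subscheme
  let j : Z ⟶ (H : Scheme.{u}) := 𝒥.subschemeι
  let i : Z ⟶ X' := j ≫ H.ι
  let φ : Z ⟶ X := i ≫ f
  have hrange : Set.range j = (T : Set (H : Scheme.{u})) := by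
    rw [Scheme.IdealSheafData.range_subschemeι]
    simp [𝒥]
  have hiH : ∀ z : Z, i z ∈ H := fun z => (j z).2
  have hiC : ∀ z : Z, i z ∈ C := fun z => hrange.subset (Set.mem_range_self z)
  let W : J → Z.Opens := fun k => φ ⁻¹ᵁ Ω k
  have hW : (⊤ : Z.Opens) ≤ iSup W := fun z _ => by
    obtain ⟨k, hk⟩ := hcov _ (hiH z) (hiC z)
    exact Opens.mem_iSup.mpr ⟨k, hk⟩
  obtain ⟨c, hc, -⟩ := resX_glue W (fun k => le_top) hW (fun k => φ.app (Ω k) (b k)) fun k l => by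
    by_cases hkl : k = l
    · subst hkl
      rfl
    · have hbot : W k ⊓ W l = ⊥ := eq_bot_iff.mpr fun z hz =>
        hkl (hdisj _ (hiH z) (hiC z) k l hz.1 hz.2)
      have : Subsingleton Γ(Z, W k ⊓ W l) :=
        CommRingCat.subsingleton_of_isTerminal (Z.sheaf.isTerminalOfEqEmpty hbot)
      exact Subsingleton.elim _ _
  have htop : (⊤ : Z.Opens) = i ⁻¹ᵁ H := (eq_top_iff.mpr fun z _ => hiH z).symm
  obtain ⟨G, hG⟩ : ∃ G : Γ(X', H), i.app H G = resX Z (le_top : i ⁻¹ᵁ H ≤ ⊤) c := by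
    have h2 : Function.Surjective (j.app (H.ι ⁻¹ᵁ H)) := by
      refine j.app_surjective _ ?_
      rw [Scheme.Opens.ι_preimage_self]
      exact isAffineOpen_top _
    obtain ⟨g, hg⟩ := h2 (resX Z (le_top : i ⁻¹ᵁ H ≤ ⊤) c)
    haveI : IsIso (H.ι.app H) := H.ι.isIso_app H H.opensRange_ι.ge
    obtain ⟨G, rfl⟩ := (ConcreteCategory.bijective_of_isIso (H.ι.app H)).2 g
    exact ⟨G, hg⟩
  refine ⟨G, fun x hxH hxC => ?_⟩
  obtain ⟨z, hz⟩ : (⟨x, hxH⟩ : (H : Scheme.{u})) ∈ Set.range j := hrange.ge hxC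
  have hzx : i z = x := congrArg Subtype.val hz
  have h1 : i ⁻¹ᵁ X'.basicOpen G = Z.basicOpen c := by
    rw [Scheme.preimage_basicOpen, hG]
    refine (Z.basicOpen_res c _).trans ?_
    rw [inf_eq_right]
    exact (Z.basicOpen_le c).trans htop.le
  have hcl : ∀ k, Z.basicOpen c ⊓ W k = φ ⁻¹ᵁ X.basicOpen (b k) := fun k => by
    rw [Scheme.preimage_basicOpen, ← hc k, inf_comm]
    exact (Z.basicOpen_res c _).symm
  subst hzx
  constructor
  · intro hx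
    obtain ⟨k, hk⟩ := hcov _ hxH hxC
    exact ⟨k, (hcl k).le ⟨h1.le hx, hk⟩⟩
  · rintro ⟨k, hk⟩
    exact h1.ge ((hcl k).ge hk).1

/-- The saturated affine locus. -/
theorem exists_saturated_locus {X X' : Scheme.{u}} [IsNoetherian X] [IsNoetherian X'] (f : X' ⟶ X)
    (hfc : IsClosedMap f) {L' : X'.Modules} (hL' : CohB1.IsAmple L') (U : X.Opens)
    (hinj : ∀ a b : X', f a ∈ U → f a = f b → a = b)
    (Δ : Set X) (hΔ : Δ.Finite) (hΔU : ∀ y ∈ Δ, y ∉ U)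
    (hmax : ∀ y ∈ Δ, ∀ z ∉ U, z ⤳ y → z = y) (hfib : ∀ y ∈ Δ, (f ⁻¹' {y}).Finite) :
    ∃ (n : ℕ) (σ : Γ(CohB1.tensorPow L' (n + 1), ⊤)), IsAffineOpen (gloc σ) ∧
      (∀ a, f a ∈ Δ → a ∈ gloc σ) ∧ ∀ a b, f a = f b → a ∈ gloc σ → b ∈ gloc σ := by
  classical
  have : Finite Δ := hΔ.to_subtype
  -- the charts
  have hΩex : ∀ k : Δ, ∃ Ω : X.Opens, IsAffineOpen Ω ∧ (k : X) ∈ Ω ∧
      ∀ y ∈ Ω, y ∉ U → (k : X) ⤳ y ∧ ∀ l : Δ, l ≠ k → ¬ (l : X) ⤳ y := fun k => by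
    obtain ⟨O, hkO, hO⟩ := exists_nhd_closure_only U.isOpen.isClosed_compl
      (fun z hz h => hmax k k.2 z hz h)
    have hK : IsClosed (⋃ l ∈ {l : Δ | l ≠ k}, closure ({(l : X)} : Set X)) :=
      Set.Finite.isClosed_biUnion (Set.toFinite _) fun _ _ => isClosed_closure
    have hkK : (k : X) ∈ O ⊓ ⟨_, hK.isOpen_compl⟩ := ⟨hkO, fun h => by
      obtain ⟨l, hl, h⟩ := Set.mem_iUnion₂.mp h
      exact hl (Subtype.ext (hmax k k.2 l (hΔU l l.2) (specializes_iff_mem_closure.mpr h)))⟩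
    obtain ⟨Ω, hΩ, hkΩ, hΩO⟩ := Opens.isBasis_iff_nbhd.mp X.isBasis_affineOpens hkK
    exact ⟨Ω, hΩ, hkΩ, fun y hy hyU => ⟨hO y (hΩO hy).1 hyU, fun l hl h =>
      (hΩO hy).2 (Set.mem_iUnion₂.mpr ⟨l, hl, specializes_iff_mem_closure.mp h⟩)⟩⟩
  choose Ω hΩa hkΩ hΩ using hΩex
  let C : Set X' := f ⁻¹' (U : Set X)ᶜ
  have hC : IsClosed C := U.isOpen.isClosed_compl.preimage f.continuous
  have hE : (f ⁻¹' Δ).Finite := hΔ.preimage' hfib
  let O' : X'.Opens := f ⁻¹ᵁ (U ⊔ ⨆ k, Ω k)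
  obtain ⟨N, t, hEt, htO, hta⟩ := exists_affine_gloc_finite hL' _ hE O'
    (fun a ha => Or.inr (Opens.mem_iSup.mpr ⟨⟨f a, ha⟩, hkΩ _⟩))
  set H := gloc t
  -- the bad set
  let F : Set X := f '' (C \ H)
  have hF : IsClosed F := hfc _ (hC.inter H.isOpen.isClosed_compl)
  have hbex : ∀ k : Δ, ∃ b : Γ(X, Ω k), (k : X) ∈ X.basicOpen b ∧ ∀ y ∈ X.basicOpen b, y ∉ F := fun k => by
    obtain ⟨b, hb, hkb⟩ := (hΩa k).exists_basicOpen_le (V := ⟨Fᶜ, hF.isOpen_compl⟩)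
      ⟨(k : X), fun ⟨a, ha, hak⟩ => ha.2 (hEt (show f a ∈ Δ from hak ▸ k.2))⟩ (hkΩ k)
    exact ⟨b, hkb, fun y hy => hb hy⟩
  choose b hkb hb using hbex
  obtain ⟨G, hG⟩ := exists_function_trace f hC hta Ω
    (fun x hx hxC => by
      rcases htO hx with h | h
      · exact absurd h hxC
      · exact Opens.mem_iSup.mp h)
    (fun x hx hxC k l hk hl => by
      by_contra hne
      exact (hΩ l _ hl hxC).2 k hne (hΩ k _ hk hxC).1)
    b
  obtain ⟨n, σ, hσ⟩ := exists_gloc_eq_basicOpen hL'.1 t G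
  refine ⟨n, σ, hσ ▸ hta.basicOpen G, fun a ha => ?_, fun a a' h ha => ?_⟩
  · rw [hσ]
    exact (hG a (hEt ha) (hΔU _ ha)).mpr ⟨⟨f a, ha⟩, hkb _⟩
  · rw [hσ] at ha ⊢
    by_cases hU : f a ∈ U
    · exact hinj a a' hU h ▸ ha
    obtain ⟨k, hk⟩ := (hG a (X'.basicOpen_le G ha) hU).mp ha
    rw [h] at hk
    have ha'C : a' ∈ C := by
      show f a' ∈ (U : Set X)ᶜ
      rw [← h]; exact hU
    have ha'H : a' ∈ H := by
      by_contra hn
      exact hb k _ hk ⟨a', ⟨ha'C, hn⟩, rfl⟩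
    exact (hG a' ha'H ha'C).mpr ⟨k, hk⟩

end Groth.ResPropLib
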