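import Groth.Agent.ResPropLib.ChartBundle
import Groth.Agent.SpecFerrand.FiniteSet
import Groth.Agent.S7386

/-!
# A thick open with an ample family

In a Noetherian scheme every point has an open neighbourhood containing all points of codimension at most one
and admitting an ample family of invertible modules.
-/

set_option autoImplicit false
set_option backward.isDefEq.respectTransparency false

universe u

open CategoryTheory AlgebraicGeometry Opposite TopologicalSpace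
open Groth.PicAux

namespace Groth.ResPropLib

variable {X : Scheme.{u}}

/-- The ample family criterion for a principal open and finitely many small charts. -/
theorem hasAmpleFamily_of_charts [CompactSpace X] {J : Type u} (U0 : X.Opens) (hU0 : IsAffineOpen U0)
    (W : J → X.Opens) (hcov : U0 ⊔ iSup W = ⊤) (hdisj : ∀ i k, i ≠ k → W i ⊓ W k ≤ U0)
    (hW : ∀ i, IsCompact (W i : Set X) ∧ IsQuasiSeparated (W i : Set X))
    (e : ∀ i, Γ(X, W i)) (he : ∀ i, X.basicOpen (e i) = W i ⊓ U0)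
    (h : ∀ j, ∀ y ∈ W j, ∃ (H : X.Opens) (b : Γ(X, U0)) (t : Γ(X, W j ⊓ U0)) (f : Γ(X, W j)),
      IsAffineOpen H ∧ y ∈ H ∧ H ≤ U0 ⊔ W j ∧ IsUnit t ∧ X.basicOpen b = H ⊓ U0 ∧
        X.basicOpen f = H ⊓ W j ∧
        resX X (inf_le_left : W j ⊓ U0 ≤ W j) f = t * resX X (inf_le_right : W j ⊓ U0 ≤ U0) b) :
    MoreMor.HasAmpleFamily X := by
  classical
  have hu : ∀ i, IsUnit (resX X (inf_le_left : W i ⊓ U0 ≤ W i) (e i)) := fun i => by
    have hres := RingedSpace.isUnit_res_basicOpen X.toRingedSpace (e i)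
    have := hres.map (resX X (he i).ge)
    erw [resX_resX] at this
    exact this
  have hU : iSup (fun a : Option J => a.elim U0 W) = ⊤ := by
    rw [iSup_option]
    exact hcov
  refine hasAmpleFamily_of_sections fun y => ?_
  rcases (show y ∈ U0 ⊔ iSup W by rw [hcov]; trivial) with hy | hy
  · obtain ⟨L, hL, hLs⟩ := exists_chartBundle U0 W hcov hdisj _ hu
    obtain ⟨s, hs0, hsi⟩ := hLs 1 e fun i => by rw [map_one, mul_one]
    have hlocus : CohB1.genLocus L s = U0 := opens_ext_cover hU fun a => by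
      cases a with
      | none =>
        show _ ⊓ U0 = U0 ⊓ U0
        rw [hs0, inf_idem, X.basicOpen_of_isUnit isUnit_one]
      | some i =>
        show _ ⊓ W i = U0 ⊓ W i
        rw [hsi i, he i, inf_comm]
    exact ⟨L, s, hL, hlocus ▸ hy, hlocus ▸ hU0⟩
  obtain ⟨j, hj⟩ := Opens.mem_iSup.mp hy
  obtain ⟨H, b, t, f, hH, hyH, hHle, ht, hb, hf, hft⟩ := h j y hj
  have hHW : ∀ i, i ≠ j → H ⊓ W i ≤ U0 := fun i hi x hx => by
    rcases hHle hx.1 with hx0 | hxj
    · exact hx0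
    · exact hdisj i j hi ⟨hx.2, hxj⟩
  have hext : ∀ i, ∃ (T : ℕ) (γ : Γ(X, W i)), resX X (inf_le_left : W i ⊓ U0 ≤ W i) γ =
      resX X (inf_le_left : W i ⊓ U0 ≤ W i) (e i) ^ T * resX X (inf_le_right : W i ⊓ U0 ≤ U0) b := by
    intro i
    obtain ⟨T, γ, hγ⟩ := exists_eq_pow_mul_of_isCompact_of_isQuasiSeparated X (W i) (hW i).1 (hW i).2
      (e i) (resX X ((he i).le.trans inf_le_right) b)
    change resX X (X.basicOpen_le (e i)) γ =
      resX X (X.basicOpen_le (e i)) (e i) ^ T * resX X ((he i).le.trans inf_le_right) b at hγ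
    refine ⟨T, γ, ?_⟩
    have := congrArg (resX X (he i).ge) hγ
    rwa [map_mul, map_pow, resX_resX, resX_resX, resX_resX] at this
  choose T γ hγ using hext
  let τ : ∀ i, Γ(X, W i ⊓ U0) := fun i =>
    if hij : i = j then resX X (le_of_eq (by rw [hij])) t
      else resX X (inf_le_left : W i ⊓ U0 ≤ W i) (e i) ^ (T i + 1)
  let F : ∀ i, Γ(X, W i) := fun i =>
    if hij : i = j then resX X (le_of_eq (by rw [hij])) f else e i * γ i
  have hτ : ∀ i, IsUnit (τ i) := fun i => by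
    by_cases hij : i = j
    · simp only [τ, dif_pos hij]; exact ht.map _
    · simp only [τ, dif_neg hij]; exact (hu i).pow _
  obtain ⟨L, hL, hLs⟩ := exists_chartBundle U0 W hcov hdisj τ hτ
  obtain ⟨s, hs0, hsi⟩ := hLs b F fun i => by
    by_cases hij : i = j
    · subst hij
      simp only [τ, F, dif_pos, resX_self]
      exact hft
    · simp only [τ, F, dif_neg hij]
      rw [map_mul, hγ i, pow_succ]
      ring
  have hlocus : CohB1.genLocus L s = H := opens_ext_cover hU fun a => by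
    cases a with
    | none =>
      show _ ⊓ U0 = H ⊓ U0
      rw [hs0, hb]
    | some i =>
      show _ ⊓ W i = H ⊓ W i
      rw [hsi i]
      by_cases hij : i = j
      · subst hij
        simp only [F, dif_pos, resX_self]
        exact hf
      · simp only [F, dif_neg hij, X.basicOpen_mul, he i]
        have h1 : X.basicOpen (resX X (inf_le_left : W i ⊓ U0 ≤ W i) (γ i)) =
            (W i ⊓ U0) ⊓ X.basicOpen b := by
          rw [hγ i, X.basicOpen_mul, X.basicOpen_of_isUnit ((hu i).pow _)]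
          have h2 : X.basicOpen (resX X (inf_le_right : W i ⊓ U0 ≤ U0) b) =
              (W i ⊓ U0) ⊓ X.basicOpen b := X.basicOpen_res _ _
          rw [h2, ← inf_assoc, inf_idem]
        have h3 : X.basicOpen (resX X (inf_le_left : W i ⊓ U0 ≤ W i) (γ i)) =
            (W i ⊓ U0) ⊓ X.basicOpen (γ i) := X.basicOpen_res _ _
        rw [← h3, h1, hb]
        exact le_antisymm (fun x hx => ⟨hx.2.1, hx.1.1⟩)
          (fun x hx => ⟨⟨hx.2, hHW i hij hx⟩, hx.1, hHW i hij hx⟩)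
  exact ⟨L, s, hL, hlocus ▸ hyH, hlocus ▸ hH⟩

/-- A closed set is the closure of `δ` near `δ` if it contains no proper generisation of `δ`. -/
theorem exists_nhd_closure_only [NoetherianSpace X] {S : Set X} (hS : IsClosed S) {δ : X}
    (h : ∀ z ∈ S, z ⤳ δ → z = δ) : ∃ O : X.Opens, δ ∈ O ∧ ∀ y ∈ O, y ∈ S → δ ⤳ y := by
  obtain ⟨C, hCf, hCc, hCi, hSC⟩ := NoetherianSpace.exists_finite_set_isClosed_irreducible hS
  have hK : IsClosed (⋃₀ {T | T ∈ C ∧ δ ∉ T}) := by
    rw [Set.sUnion_eq_biUnion]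
    exact Set.Finite.isClosed_biUnion (hCf.subset fun T hT => hT.1) fun T hT => hCc T hT.1
  refine ⟨⟨_, hK.isOpen_compl⟩, fun hδ => ?_, fun y hy hyS => ?_⟩
  · obtain ⟨T, hT, hmem⟩ := hδ
    exact hT.2 hmem
  · obtain ⟨T, hT, hyT⟩ := hSC.subset hyS
    by_cases hδT : δ ∈ T
    · have hgen := IsIrreducible.isGenericPoint_genericPoint (hCi T hT) (hCc T hT)
      set g := IsIrreducible.genericPoint (hCi T hT)
      have hg : g = δ := h g (hSC.ge ⟨T, hT, hgen.mem⟩) (hgen.specializes hδT)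
      exact hg ▸ hgen.specializes hyT
    · exact (hy ⟨T, ⟨hT, hδT⟩, hyT⟩).elim

/-- The strict generisations of a point of codimension at most one are generic points. -/
theorem eq_of_specializes_of_specializes {y z w : X} (hy : ringKrullDim (X.presheaf.stalk y) ≤ 1)
    (hzy : z ⤳ y) (hne : z ≠ y) (hwz : w ⤳ z) : w = z := by
  rw [ringKrullDim_stalk_eq_coheight] at hy
  have hy' : Order.coheight y ≤ 1 := WithBot.coe_le_coe.mp hy
  have hlt : y < z := lt_of_le_not_ge hzy fun h' => hne ((hzy.antisymm h').eq)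
  have h1 : Order.coheight z + 1 ≤ 1 := (Order.coheight_add_one_le hlt).trans hy'
  have h2 : Order.coheight z = 0 := by
    generalize Order.coheight z = c at h1
    induction c using ENat.recTopCoe with
    | top => simp at h1
    | coe n => norm_cast at h1 ⊢; omega
  exact (Specializes.antisymm hwz (Order.coheight_eq_zero.mp h2 hwz)).eq

/-- The chart at a point of codimension at most one outside a dense affine open. -/
theorem exists_chart [IsNoetherian X] (U0 : X.Opens)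
    (hU0 : IsAffineOpen U0) (hgen : ∀ z : X, (∀ w : X, w ⤳ z → w = z) → z ∈ U0)
    (δ : X) (hδ : δ ∉ U0) (hdim : ringKrullDim (X.presheaf.stalk δ) ≤ 1) (O : X.Opens) (hO : δ ∈ O) :
    ∃ (W1 W2 : X.Opens) (e : Γ(X, W2)) (a : Γ(X, U0)), IsAffineOpen W1 ∧ δ ∈ W2 ∧ W2 ≤ W1 ∧ W2 ≤ O ∧
      X.basicOpen e = W2 ⊓ U0 ∧ (∀ y ∈ W2, y ∉ U0 → δ ⤳ y) ∧ X.basicOpen a ≤ W1 ∧
      W2 ⊓ U0 ≤ X.basicOpen a := by
  classical
  let E : Set X := {z | z ⤳ δ ∧ z ≠ δ}
  have hEU : E ⊆ U0 := fun z hz =>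
    hgen z fun w hw => eq_of_specializes_of_specializes hdim hz.1 hz.2 hw
  have hEf : E.Finite := by
    refine Set.Finite.of_finite_image (f := fun z => closure ({z} : Set X))
      (NoetherianSpace.finite_irreducibleComponents.subset ?_) ?_
    · rintro _ ⟨z, hz, rfl⟩
      exact (Groth.PropsBasic2.closure_mem_irreducibleComponents_iff z).mpr fun w hw =>
        eq_of_specializes_of_specializes hdim hz.1 hz.2 hw
    · intro z _ w _ h
      exact (inseparable_iff_closure_eq.mpr h).eq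
  have hδS : ∀ {B : X.Opens}, E ⊆ B → ∀ z ∈ (B : Set X)ᶜ, z ⤳ δ → z = δ := fun hB z hz hzδ => by
    by_contra hne
    exact hz (hB ⟨hzδ, hne⟩)
  obtain ⟨W0, hW0, hδW0, hW0O⟩ := Opens.isBasis_iff_nbhd.mp X.isBasis_affineOpens hO
  have hEW0 : E ⊆ (W0 : Set X) := fun z hz => hz.1.mem_open W0.isOpen hδW0
  obtain ⟨e0, he0E, he0⟩ := Groth.SpecFerrand.exists_basicOpen_finite hW0 hEf (W0 ⊓ U0) inf_le_left
    (fun z hz => ⟨hEW0 hz, hEU hz⟩)
  obtain ⟨O1, hδO1, hO1⟩ := exists_nhd_closure_only (X.basicOpen e0).isOpen.isClosed_compl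
    (hδS he0E)
  obtain ⟨g, hgO1, hδg⟩ := hW0.exists_basicOpen_le (V := O1) ⟨δ, hδO1⟩ hδW0
  set W1 := X.basicOpen g with hW1
  have hW1W0 : W1 ≤ W0 := X.basicOpen_le g
  have hEW1 : E ⊆ (W1 : Set X) := fun z hz => hz.1.mem_open W1.isOpen hδg
  obtain ⟨a, haE, ha⟩ := Groth.SpecFerrand.exists_basicOpen_finite hU0 hEf (W1 ⊓ U0) inf_le_right
    (fun z hz => ⟨hEW1 hz, hEU hz⟩)
  obtain ⟨O2, hδO2, hO2⟩ := exists_nhd_closure_only (X.basicOpen a).isOpen.isClosed_compl (hδS haE)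
  have hW2W0 : W1 ⊓ O2 ≤ W0 := inf_le_left.trans hW1W0
  refine ⟨W1, W1 ⊓ O2, resX X hW2W0 e0, a, hW0.basicOpen g, ⟨hδg, hδO2⟩, inf_le_left,
    hW2W0.trans hW0O, ?_, ?_, ha.trans inf_le_left, ?_⟩
  · refine (X.basicOpen_res e0 (homOfLE hW2W0).op).trans
      (le_antisymm (inf_le_inf_left _ (he0.trans inf_le_right)) ?_)
    rintro y ⟨hy, hyU0⟩
    refine ⟨hy, ?_⟩
    by_contra h
    exact hδ ((hO1 y (hgO1 hy.1) h).mem_open U0.isOpen hyU0)
  · intro y hy hyU0
    exact hO1 y (hgO1 hy.1) fun h => hyU0 (he0 h).2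
  · rintro y ⟨hy, hyU0⟩
    by_contra h
    exact hδ ((hO2 y hy.2 h).mem_open U0.isOpen hyU0)

/-- A thick open neighbourhood with an ample family. -/
theorem exists_thick_open_hasAmpleFamily [IsNoetherian X] (x : X) :
    ∃ V : X.Opens, x ∈ V ∧ (∀ y : X, ringKrullDim (X.presheaf.stalk y) ≤ 1 → y ∈ V) ∧
      MoreMor.HasAmpleFamily (V : Scheme.{u}) := by
  classical
  let G : Set X := {z | ∀ w : X, w ⤳ z → w = z}
  have hGf : G.Finite := by
    refine Set.Finite.of_finite_image (f := fun z => closure ({z} : Set X))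
      (NoetherianSpace.finite_irreducibleComponents.subset ?_) ?_
    · rintro _ ⟨z, hz, rfl⟩
      exact (Groth.PropsBasic2.closure_mem_irreducibleComponents_iff z).mpr hz
    · intro z _ w _ h
      exact (inseparable_iff_closure_eq.mpr h).eq
  obtain ⟨U0, hU0, hxU0, hU0G⟩ := Groth.Agent.S7386.result X
    (fun k => (hGf.toFinset.equivFin.symm k : X))
    (fun k => (Groth.PropsBasic2.closure_mem_irreducibleComponents_iff _).mpr
      (hGf.mem_toFinset.mp (hGf.toFinset.equivFin.symm k).2)) x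
  have hgen : ∀ z : X, (∀ w : X, w ⤳ z → w = z) → z ∈ U0 := fun z hz => by
    simpa using hU0G (hGf.toFinset.equivFin ⟨z, hGf.mem_toFinset.mpr hz⟩)
  let Δ : Set X := {y | y ∉ U0 ∧ ringKrullDim (X.presheaf.stalk y) ≤ 1}
  have hmax : ∀ y ∈ Δ, ∀ z ∉ U0, z ⤳ y → z = y := fun y hy z hz hzy => by
    by_contra hne
    exact hz (hgen z fun w hw => eq_of_specializes_of_specializes hy.2 hzy hne hw)
  have hΔf : Δ.Finite := by
    obtain ⟨C, hCf, hCc, hCi, hSC⟩ :=
      NoetherianSpace.exists_finite_set_isClosed_irreducible U0.isOpen.isClosed_compl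
    refine ((hCf.dependent_image fun T hT => IsIrreducible.genericPoint (hCi T hT))).subset ?_
    intro y hy
    obtain ⟨T, hT, hyT⟩ := hSC.subset hy.1
    have hgenT := IsIrreducible.isGenericPoint_genericPoint (hCi T hT) (hCc T hT)
    exact ⟨T, hT, (hmax y hy _ (hSC.ge ⟨T, hT, hgenT.mem⟩) (hgenT.specializes hyT))⟩
  have : Finite Δ := hΔf.to_subtype
  have hOex : ∀ j : Δ, ∃ O : X.Opens, (j : X) ∈ O ∧ ∀ k : Δ, k ≠ j → ∀ y ∈ O, ¬ (k : X) ⤳ y := fun j => by
    have hK : IsClosed (⋃ k ∈ {k : Δ | k ≠ j}, closure ({(k : X)} : Set X)) :=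
      Set.Finite.isClosed_biUnion (Set.toFinite _) fun _ _ => isClosed_closure
    refine ⟨⟨_, hK.isOpen_compl⟩, ?_, fun k hk y hy h => ?_⟩
    · intro h
      obtain ⟨k, hk, h⟩ := Set.mem_iUnion₂.mp h
      exact hk (Subtype.ext (hmax j j.2 k k.2.1 (specializes_iff_mem_closure.mpr h)))
    · exact hy (Set.mem_iUnion₂.mpr ⟨k, hk, specializes_iff_mem_closure.mp h⟩)
  choose O hjO hOk using hOex
  have hch := fun j : Δ => exists_chart U0 hU0 hgen j j.2.1 j.2.2 (O j) (hjO j)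
  choose W1 W2 e a hW1 hjW2 hW2W1 hW2O he hdiff ha hWa using hch
  let V : X.Opens := U0 ⊔ iSup W2
  refine ⟨V, Or.inl hxU0, fun y hy => ?_, ?_⟩
  · by_cases h : y ∈ U0
    · exact Or.inl h
    · exact Or.inr (Opens.mem_iSup.mpr ⟨⟨y, h, hy⟩, hjW2 _⟩)
  let φ := V.ι
  have hrange : φ.opensRange = V := V.opensRange_ι
  have hcomp : ∀ U : X.Opens, U ≤ V → IsAffineOpen U → IsAffineOpen (φ ⁻¹ᵁ U) := fun U hU hUa =>
    hUa.preimage_of_isOpenImmersion φ (hU.trans hrange.ge)
  have hd : ∀ i k, i ≠ k → W2 i ⊓ W2 k ≤ U0 := fun i k hik y hy => by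
    by_contra h
    exact hOk i k hik.symm y (hW2O i hy.1) (hdiff k y hy.2 h)
  haveI : IsLocallyNoetherian (V : Scheme.{u}) := isLocallyNoetherian_of_isOpenImmersion V.ι
  haveI : CompactSpace (V : Scheme.{u}) :=
    isCompact_iff_compactSpace.mp (NoetherianSpace.isCompact (V : Set X))
  haveI : IsNoetherian (V : Scheme.{u}) := ⟨⟩
  refine hasAmpleFamily_of_charts (φ ⁻¹ᵁ U0) (hcomp _ le_sup_left hU0) (fun j => φ ⁻¹ᵁ W2 j) ?_
    (fun i k hik y hy => hd i k hik hy) (fun j => ⟨NoetherianSpace.isCompact _,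
      IsQuasiSeparated.of_quasiSeparatedSpace _⟩) (fun j => φ.app (W2 j) (e j)) (fun j => ?_) ?_
  · refine eq_top_iff.mpr fun y _ => ?_
    rcases (show φ y ∈ V from y.2) with h | h
    · exact Or.inl h
    · obtain ⟨j, hj⟩ := Opens.mem_iSup.mp h
      exact Or.inr (Opens.mem_iSup.mpr ⟨j, hj⟩)
  · rw [← Scheme.preimage_basicOpen, he j]
    rfl
  intro j y hy
  obtain ⟨h, hle, hyh⟩ := (hW1 j).exists_basicOpen_le (V := X.basicOpen (a j) ⊔ W2 j) ⟨φ y, Or.inr hy⟩
    (hW2W1 j hy)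
  have hloc := (hW1 j).isLocalization_basicOpen h
  obtain ⟨n, b, hb⟩ := exists_eq_pow_mul_of_isCompact_of_isQuasiSeparated X U0 hU0.isCompact
    hU0.isQuasiSeparated (a j) (resX X (ha j) h)
  change resX X (X.basicOpen_le (a j)) b =
    resX X (X.basicOpen_le (a j)) (a j) ^ n * resX X (ha j) h at hb
  have huA : IsUnit (resX X (X.basicOpen_le (a j)) (a j)) :=
    RingedSpace.isUnit_res_basicOpen X.toRingedSpace (a j)
  have hbD : X.basicOpen (a j * b) = X.basicOpen h ⊓ U0 := by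
    rw [X.basicOpen_mul]
    have h1 : X.basicOpen (resX X (X.basicOpen_le (a j)) b) = X.basicOpen (a j) ⊓ X.basicOpen b :=
      X.basicOpen_res _ _
    have h2 : X.basicOpen (resX X (ha j) h) = X.basicOpen (a j) ⊓ X.basicOpen h := X.basicOpen_res _ _
    rw [← h1, hb, X.basicOpen_mul, X.basicOpen_of_isUnit (huA.pow _), h2]
    refine le_antisymm (fun z hz => ⟨hz.2.2, X.basicOpen_le _ hz.1⟩) fun z hz => ?_
    have hza : z ∈ X.basicOpen (a j) := by
      rcases hle hz.1 with hz' | hz'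
      · exact hz'
      · exact hWa j ⟨hz', hz.2⟩
    exact ⟨hza, hza, hz.1⟩
  have hu2 : IsUnit (resX X (inf_le_right : W2 j ⊓ U0 ≤ U0) (a j)) := by
    have := huA.map (resX X (hWa j))
    rwa [resX_resX] at this
  let t : Γ(X, W2 j ⊓ U0) := ((hu2.pow (n + 1)).unit⁻¹ : (Γ(X, W2 j ⊓ U0))ˣ).1
  have htf : resX X (inf_le_left : W2 j ⊓ U0 ≤ W2 j) (resX X (hW2W1 j) h) =
      t * resX X (inf_le_right : W2 j ⊓ U0 ≤ U0) (a j * b) := by
    have := congrArg (resX X (hWa j)) hb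
    rw [map_mul, map_pow, resX_resX, resX_resX, resX_resX] at this
    rw [map_mul, resX_resX, this, ← mul_assoc, ← mul_assoc, mul_assoc t, ← pow_succ', (hu2.pow (n + 1)).val_inv_mul,
      one_mul]
  have hHV : X.basicOpen h ≤ U0 ⊔ W2 j := hle.trans (sup_le_sup_right (X.basicOpen_le _) _)
  refine ⟨φ ⁻¹ᵁ X.basicOpen h, φ.app U0 (a j * b), φ.app (W2 j ⊓ U0) t,
    φ.app (W2 j) (resX X (hW2W1 j) h),
    hcomp _ (hHV.trans (sup_le_sup_left (le_iSup W2 j) _)) ((hW1 j).basicOpen h), hyh,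
    fun z hz => hHV hz, (Units.isUnit _).map _, ?_, ?_, ?_⟩
  · rw [← Scheme.preimage_basicOpen, hbD]
    rfl
  · rw [← Scheme.preimage_basicOpen]
    exact congrArg (φ ⁻¹ᵁ ·) ((X.basicOpen_res h _).trans (inf_comm _ _))
  · have hnat : ∀ {A B : X.Opens} (hBA : B ≤ A) (s : Γ(X, A)),
        φ.app B (resX X hBA s) = resX (V : Scheme.{u}) (fun z hz => hBA hz : φ ⁻¹ᵁ B ≤ φ ⁻¹ᵁ A) (φ.app A s) :=
      fun hBA s => congr($(φ.naturality (homOfLE hBA).op) s)
    have := congrArg (φ.app (W2 j ⊓ U0)) htf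
    rw [map_mul, hnat inf_le_left, hnat inf_le_right] at this
    exact this

end Groth.ResPropLib
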