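import Groth.Agent.ResPropLib.PushShift
import Groth.Agent.ResPropLib.StalkTools
import Groth.Agent.ResPropLib.AffineProjection
import Groth.Agent.ResPropLib.FibreBound
import Groth.Agent.QCohMod.OpenSupport
import Groth.Agent.RefRank.Normality
import Groth.Agent.S10860
import Groth.Agent.CohC3.PushPull
import Groth.Agent.FlatStrata.Twist
import Groth.Agent.QCohMod.Coherent

/-!
# Top degree cohomology of direct images modulo small sets
-/

set_option autoImplicit false
set_option backward.isDefEq.respectTransparency false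

universe u

open CategoryTheory CategoryTheory.Limits AlgebraicGeometry TopologicalSpace Opposite
open Groth.QCohMod
open Groth.CohTwo.SheafHomIso (tF)

namespace Groth.ResPropLib

variable {X Y : Scheme.{u}}

/-- The locus of points whose local rings have dimension at least `k`. -/
def codimSet (X : Scheme.{u}) (k : ℕ) : Set X := {x | (k : ℕ∞) ≤ Order.coheight x}

lemma notMem_codimSet {x : X} {k : ℕ} : x ∉ codimSet X (k + 1) ↔ Order.coheight x ≤ k := by
  simp only [codimSet, Set.mem_ofPred_eq, not_le, Nat.cast_succ]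
  exact ENat.lt_add_one_iff (ENat.natCast_ne_top k)

lemma small_codimSet [NoetherianSpace X] {d k p : ℕ} (hd : topologicalKrullDim X ≤ d) (hp : d < p + k) :
    Small (codimSet X k) p :=
  small_of_coheight hd (fun _ hz => hz) hp

lemma smallAb_codimSet [NoetherianSpace X] {d k p : ℕ} (hd : topologicalKrullDim X ≤ d) (hp : d < p + k) :
    SmallAb (codimSet X k) p :=
  smallAb_of_coheight hd (fun _ hz => hz) hp

lemma compl_subset_codimSet_one [NoetherianSpace X] {U : X.Opens} (hU : Dense (U : Set X)) :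
    (U : Set X)ᶜ ⊆ codimSet X 1 := fun _ hx => one_le_coheight_of_dense hU hx

lemma isAffineOpen_preimage_of_le (f : Y ⟶ X) {V W : X.Opens} [IsAffineHom (f ∣_ V)] (hle : W ≤ V)
    (hW : IsAffineOpen W) : IsAffineOpen (f ⁻¹ᵁ W) := by
  have h1 : IsAffineOpen (V.ι ⁻¹ᵁ W) := by
    rw [← Scheme.Hom.isAffineOpen_iff_of_isOpenImmersion V.ι]
    convert! hW using 1
    rw [Scheme.Hom.image_preimage_eq_opensRange_inf, Scheme.Opens.opensRange_ι]
    exact inf_eq_right.2 hle
  have h2 := h1.preimage (f ∣_ V)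
  rw [← Scheme.Hom.isAffineOpen_iff_of_isOpenImmersion (f ⁻¹ᵁ V).ι] at h2
  convert! h2 using 1
  rw [← Scheme.Hom.comp_preimage, morphismRestrict_ι, Scheme.Hom.comp_preimage]
  rw [Scheme.Hom.image_preimage_eq_opensRange_inf, Scheme.Opens.opensRange_ι]
  exact (inf_eq_right.2 (f.preimage_mono hle)).symm

/-- The projection formula map is bijective on stalks over the affine locus. -/
theorem pfApp_stalk_bijective (f : Y ⟶ X) [QuasiCompact f] [QuasiSeparated f] (E : X.Modules)
    (F : Y.Modules) [E.IsQuasicoherent] [F.IsQuasicoherent] (V : X.Opens) [IsAffineHom (f ∣_ V)]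
    (x : X) (hx : x ∈ V) : Function.Bijective ((stalk x).map (Groth.ProjFormula.pfApp f E F)) := by
  haveI := Groth.QCohMod.isQCoh_pushforward (M := F) f
  exact stalk_bijective_of_affine _ V (fun W hle hW =>
    pfApp_bijective f E F hW (isAffineOpen_preimage_of_le f hle hW)) x hx

/-- Vanishing of `H^d` of a direct image only depends on the module over a thick open. -/
theorem subsingleton_push_of_iso_over [NoetherianSpace X] {d : ℕ} (hd : topologicalKrullDim X ≤ d)
    (f : Y ⟶ X) (O : X.Opens) (hO : (O : Set X)ᶜ ⊆ codimSet X 2) {N₁ N₂ : Y.Modules}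
    (e : N₁.restrict (f ⁻¹ᵁ O).ι ≅ N₂.restrict (f ⁻¹ᵁ O).ι)
    (h : Subsingleton (Coh.HH X ((Scheme.Modules.pushforward f).obj N₁) d)) :
    Subsingleton (Coh.HH X ((Scheme.Modules.pushforward f).obj N₂) d) := by
  have key : ∀ N : Y.Modules, ∀ x ∈ O, Function.Bijective ((stalk x).map
      ((Scheme.Modules.pushforward f).map (openUnit (f ⁻¹ᵁ O) N))) := fun N x hx =>
    stalk_bijective_of_affine _ O (fun W hle _ =>
      Groth.RefRank.app_bijective_of_stalk (openUnit (f ⁻¹ᵁ O) N) fun y hy => by
        have := Groth.QCohMod.isIso_stalk_openUnit (f ⁻¹ᵁ O) N (show y ∈ f ⁻¹ᵁ O from hle hy)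
        exact (ConcreteCategory.isIso_iff_bijective _).1 this) x hx
  have hZ : ∀ x ∉ codimSet X 2, x ∈ O := fun x hx => by
    by_contra hxO
    exact hx (hO hxO)
  have h1 := sub_target ((Scheme.Modules.pushforward f).map (openUnit (f ⁻¹ᵁ O) N₁))
    (small_codimSet (k := 2) (p := d) hd (by omega))
    (support_coker_subset _ fun x hx => (key N₁ x (hZ x hx)).2) (small_of_dim hd (by omega)) h
  have h2 := sub_of_iso ((Scheme.Modules.pushforward f).mapIso
    ((Scheme.Modules.pushforward (f ⁻¹ᵁ O).ι).mapIso e)) h1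
  exact sub_source ((Scheme.Modules.pushforward f).map (openUnit (f ⁻¹ᵁ O) N₂))
    (small_codimSet (k := 2) (p := d) hd (by omega))
    (fun q hq => small_codimSet (k := 2) (p := q) hd (by omega))
    (support_ker_subset _ fun x hx => (key N₂ x (hZ x hx)).1)
    (support_coker_subset _ fun x hx => (key N₂ x (hZ x hx)).2) h2

/-- The open where a proper generically finite morphism is finite. -/
theorem exists_thick_finite (f : Y ⟶ X) [IsProper f] [IsLocallyNoetherian X] (U : X.Opens)
    (hU' : Dense ((f ⁻¹ᵁ U : Y.Opens) : Set Y)) (hfin : ∀ y ∈ U, Finite ↥(f.fiber y)) :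
    ∃ V : X.Opens, U ≤ V ∧ (V : Set X)ᶜ ⊆ codimSet X 2 ∧ IsFinite (f ∣_ V) := by
  obtain ⟨V, hV, hVf⟩ := Groth.Agent.S10860.result f
  have hmem : ∀ x, Finite ↥(f.fiber x) → x ∈ V := fun x hx => by
    show x ∈ (V : Set X)
    rw [hV]
    exact Set.finite_coe_iff.1 (Finite.of_equiv _ (f.fiberHomeo x).toEquiv)
  refine ⟨V, fun x hx => hmem x (hfin x hx), fun x hx => ?_, hVf⟩
  by_contra hxc
  rw [notMem_codimSet] at hxc
  exact hx (hmem x (finite_fiber f U hU' hfin x (by simpa using hxc)))

end Groth.ResPropLib
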